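import Cfsg.Agent.U62Three.A.OneBlock

/-!
# The axes of a point

For a point `y` and each block an element `d` of the block lying also in the group of order 243 of `y`; it follows
that the two classes of `y` agree and that the points outside `Q` fall into two classes under `C(z)`.
-/

set_option autoImplicit false

open Subgroup

namespace Cfsg.Agent.U62Three.A

universe u

variable {G : Type u} [Group G] {z : G} {Q : Subgroup G}

/-- The data of the axis in the block `i`. -/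
structure Axis (B : Bas z Q) (y : G) (Qy : Subgroup G) (i : Fin 2) where
  /-- The element of the block moving `y`. -/
  q : G
  /-- The axis. -/
  d : G
  q_mem : q ∈ B.Qi i
  d_mem : d ∈ B.Qi i
  d_Qy : d ∈ Qy
  d_z : d ∉ zpowers z
  comm : Commute y d
  disp : q * y * q⁻¹ = d * zp z (B.cl i y) * y
  qd : q * d * q⁻¹ = zp z (-B.cl i y) * d

variable [Finite G]

namespace Bas

variable (B : Bas z Q) (h : Hyp z Q)

include h in
theorem disp_mem {y : G} (hy : Pt z Q y) {i : Fin 2} {q : G} (hq : q ∈ B.Qi i) :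
    q * y * q⁻¹ * y⁻¹ ∈ B.Qi i := by
  rw [show q * y * q⁻¹ * y⁻¹ = q * (y * q⁻¹ * y⁻¹) by group]
  exact mul_mem hq (B.conj_Qi (B.Pt_Hs h hy) i (inv_mem hq))

include h in
theorem vec_disp {y : G} (hy : Pt z Q y) {q : G} (hq : q ∈ Q) (k : Fin 2) :
    B.vec k (q * y * q⁻¹ * y⁻¹) = B.vec k q - M2.app (B.mat k y) (B.vec k q) := by
  rw [show q * y * q⁻¹ * y⁻¹ = q * (y * q * y⁻¹)⁻¹ by group, B.vec_mul h k hq (inv_mem (conj_mem h hy.cen hq)),
    B.vec_inv h k (conj_mem h hy.cen hq), B.vec_conj h (B.Pt_Hs h hy) k hq, sub_eq_add_neg]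

include B h in
theorem disp_Q {y : G} (hy : Pt z Q y) {q : G} (hq : q ∈ Q) : q * y * q⁻¹ * y⁻¹ ∈ Q := by
  rw [show q * y * q⁻¹ * y⁻¹ = q * (y * q * y⁻¹)⁻¹ by group]
  exact mul_mem hq (inv_mem (conj_mem h hy.cen hq))

include B h in
theorem disp_commute {y : G} (hy : Pt z Q y) {q : G} (hq : q ∈ Q) : Commute y (q * y * q⁻¹ * y⁻¹) := by
  have he := B.disp_Q h hy hq
  have hyH := B.Pt_Hs h hy
  refine fix_commute h hy (h.le he) (B.vec_ext h (conj_mem h hy.cen he) he fun k => ?_)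
  rw [B.vec_conj h hyH k he, B.vec_disp h hy hq]
  have hM := M2.disp_fix _ (B.mat_det h hyH k) (B.mat_cube h hyH (by rw [hy.cube h]; exact one_mem _) k)
    (B.vec k q)
  have hneg : ∀ (A : M2.Mat) (a b : ZMod 3 × ZMod 3), M2.app A (a - b) = M2.app A a - M2.app A b := fun A a b => by
    simp only [M2.app, Prod.fst_sub, Prod.snd_sub, Prod.mk_sub_mk, Prod.mk.injEq]; constructor <;> ring
  rw [hneg] at hM ⊢
  rw [← neg_sub, hM, neg_sub]

include h in
theorem exists_axis {y : G} (hy : Pt z Q y) {Qy : Subgroup G} (hyy : Hyp y Qy) (i : Fin 2) :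
    Nonempty (Axis B y Qy i) := by
  have hyH := B.Pt_Hs h hy
  have hcy := B.mat_cube h hyH (by rw [hy.cube h]; exact one_mem _) i
  obtain ⟨u, hu⟩ : ∃ u, M2.app (B.mat i y) u ≠ u := by
    rcases M2.exists_move _ (B.mat_det h hyH i)
      (fun e => two_block h hy B i (by rw [cl, e, M2.cls_one])) with e | e
    exacts [⟨_, e⟩, ⟨_, e⟩]
  set q := B.std i u
  have hqi : q ∈ B.Qi i := B.std_mem i u
  have hq : q ∈ Q := B.std_Q i u
  have hcom := B.disp_commute h hy hq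
  have hei := B.disp_mem h hy hqi
  have hve := B.vec_disp h hy hq i
  rw [B.vec_std h] at hve
  set e := q * y * q⁻¹ * y⁻¹ with he
  have heQ : e ∈ Q := B.toTwo.Qi_le i hei
  set c := zp z (-B.cl i y) with hc
  have hcz : c ∈ zpowers z := zp_mem _
  -- the commutator of `q` with the displacement
  have hqe : q * e * q⁻¹ * e⁻¹ = c := by
    rw [hc, ← zp_lg h (comm_mem h hq heQ)]
    congr 1
    show frm z q e = _
    have ho : B.vec i.rev e = 0 := B.vec_other h (Two.rev_ne i) hei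
    rw [B.frm_eq h hq heQ]
    have hd : Bas.det2 u (u - M2.app (B.mat i y) u) = -B.cl i y := by
      rw [cl, ← M2.det_disp _ (B.mat_det h hyH i) hcy u hu]
      simp only [det2, Prod.fst_sub, Prod.snd_sub]; ring
    rcases fin_cases_two i with rfl | rfl
    · rw [B.vec_std h, hve, hd, show (B.vec 1 e) = 0 from ho]
      simp [det2]
    · rw [B.vec_std h, hve, hd, show (B.vec 0 e) = 0 from ho]
      simp [det2]
  -- the opposite displacement
  have he' : q⁻¹ * y * q⁻¹⁻¹ * y⁻¹ = e⁻¹ * c := by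
    have hce : q⁻¹ * (e * c) * q⁻¹⁻¹ = e := by
      rw [show e * c = c * e from (comm_zpow (h.le heQ) hcz).eq,
        show c * e = q * e * q⁻¹ by rw [← hqe]; group]
      group
    have h1 : q⁻¹ * y * q⁻¹⁻¹ * y⁻¹ = (q⁻¹ * e * q⁻¹⁻¹)⁻¹ := by rw [he]; group
    rw [h1]
    have h2 : q⁻¹ * e * q⁻¹⁻¹ = c⁻¹ * e := by
      have h3 : q⁻¹ * (e * c) * q⁻¹⁻¹ = (q⁻¹ * e * q⁻¹⁻¹) * c := by
        rw [show q⁻¹ * (e * c) * q⁻¹⁻¹ = (q⁻¹ * e * q⁻¹⁻¹) * (q⁻¹ * c * q⁻¹⁻¹) by group,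
          conj_zpow (h.le (inv_mem hq)) hcz]
      rw [h3] at hce
      rw [(comm_zpow (h.le heQ) (inv_mem hcz)).symm.eq]
      exact eq_mul_inv_of_mul_eq hce
    rw [h2, mul_inv_rev, inv_inv]
  have hez : e ∉ zpowers z := fun e1 => hu (by
    have := B.vec_zpowers h i e1
    rw [hve, sub_eq_zero] at this
    exact this.symm)
  -- seen from `y`
  obtain ⟨By⟩ := exists_bas hyy
  have hzy : Pt y Qy z := hy.symm h hyy
  have hH : ∀ w ∈ Q, Commute y w → w ∈ By.Hs := fun w hw hyw => By.mem_Hs_other hyy h B hw hyw.symm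
  have hpt : ∀ w ∈ Q, Commute y w → w ≠ 1 → w * y ∈ Tp z → ∀ j, By.cl j w ≠ 0 := by
    intro w hw hyw hw1 hT j hj
    have hp : Pt y Qy (w * y) := by
      refine ⟨by rw [Tp_eq hy.mem]; exact hT, mem_centralizer_singleton_iff.2 (hyw.symm.mul_left (Commute.refl y)).eq,
        fun h1 => hw1 ?_⟩
      have h2 := weak_Tp hyy (by rw [Tp_eq hy.mem]; exact hT) h1
      exact hy.zpow_Q h (by simpa using mul_mem h2 (inv_mem (mem_zpowers y))) hw
    refine two_block hyy hp By j ?_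
    rw [By.cl_mul hyy (hH w hw hyw) (By.Q_le_Hs hyy (z_mem hyy)), hj, By.cl_Q hyy (z_mem hyy), add_zero]
  have hyc : Commute y c := comm_zpow hy.cen hcz
  have heH := hH e heQ hcom
  have hcH := hH c (zpowers_le_Q h hcz) hyc
  have hd : e * c ∈ Qy := by
    refine By.mem_Q_of_cl hyy (mul_mem heH hcH) ?_ fun j => ?_
    · rw [B.cube h (mul_mem heQ (zpowers_le_Q h hcz))]; exact one_mem _
    have a1 : By.cl j e ≠ 0 := hpt e heQ hcom (fun e1 => hez (e1 ▸ one_mem _))
      (by rw [he, inv_mul_cancel_right]; exact Tp_conj hy.mem q) j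
    have a2 : By.cl j (e⁻¹ * c) ≠ 0 := hpt _ (mul_mem (inv_mem heQ) (zpowers_le_Q h hcz))
      (hcom.inv_right.mul_right hyc) (fun e1 => hez (inv_mul_eq_one.1 e1 ▸ hcz))
      (by rw [← he', inv_mul_cancel_right]; exact Tp_conj hy.mem q⁻¹) j
    have a3 : By.cl j c ≠ 0 := by
      have hk : ∀ k : ZMod 3, k ≠ 0 → k.val = 1 ∨ k.val = 2 := by decide
      rw [hc, zp, By.cl_pow hyy (By.Pt_Hs hyy hzy)]
      rcases hk _ (neg_ne_zero.2 (two_block h hy B i)) with k1 | k1 <;> rw [k1] <;>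
        [simpa using two_block hyy hzy By j;
         (have hz0 := two_block hyy hzy By j
          revert hz0
          generalize By.cl j z = a
          revert a
          decide)]
    rw [By.cl_mul hyy (inv_mem heH) hcH, By.cl_inv hyy heH] at a2
    rw [By.cl_mul hyy heH hcH]
    revert a1 a2 a3
    generalize By.cl j e = a
    generalize By.cl j c = b
    revert a b
    decide
  have hcinv : c⁻¹ = zp z (B.cl i y) :=
    inv_eq_of_mul_eq_one_left (by rw [hc, ← zp_add h, add_neg_cancel, zp_zero])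
  exact ⟨⟨q, e * c, hqi, mul_mem hei (B.z_mem_Qi h i hcz), hd, fun h1 => hez (by
    simpa using mul_mem h1 (inv_mem hcz)), hcom.mul_right hyc, by
    rw [← hcinv, mul_inv_cancel_right, he, inv_mul_cancel_right],
    by
      show q * (e * c) * q⁻¹ = c * (e * c)
      rw [show q * (e * c) * q⁻¹ = (q * e * q⁻¹ * e⁻¹) * e * (q * c * q⁻¹) by group, hqe,
        conj_zpow (h.le hq) hcz, mul_assoc]⟩⟩

end Bas

variable {B : Bas z Q} {y : G} {Qy : Subgroup G}

theorem Axis.disp_both (h : Hyp z Q) (hy : Pt z Q y) (A₀ : Axis B y Qy 0) (A₁ : Axis B y Qy 1) :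
    (A₀.q * A₁.q) * y * (A₀.q * A₁.q)⁻¹ = A₀.d * A₁.d * zp z (B.cl 0 y + B.cl 1 y) * y := by
  have hq0 := B.toTwo.Qi_le 0 A₀.q_mem
  have hc := B.blocks_comm h (by decide : (0 : Fin 2) ≠ 1) A₀.q_mem A₁.d_mem
  rw [show A₀.q * A₁.q * y * (A₀.q * A₁.q)⁻¹ = A₀.q * (A₁.q * y * A₁.q⁻¹) * A₀.q⁻¹ by group, A₁.disp,
    show A₀.q * (A₁.d * zp z (B.cl 1 y) * y) * A₀.q⁻¹ =
      (A₀.q * A₁.d * A₀.q⁻¹) * (A₀.q * zp z (B.cl 1 y) * A₀.q⁻¹) * (A₀.q * y * A₀.q⁻¹) by group,
    A₀.disp, conj_zpow (h.le hq0) (zp_mem _), hc.eq, mul_inv_cancel_right, zp_add h]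
  have e1 : Commute (zp z (B.cl 1 y)) A₀.d :=
    (comm_zpow (h.le (B.toTwo.Qi_le 0 A₀.d_mem)) (zp_mem _)).symm
  have e2 : Commute (zp z (B.cl 1 y)) (zp z (B.cl 0 y)) :=
    (comm_zpow (h.le (zpowers_le_Q h (zp_mem _))) (zp_mem _)).symm
  have e3 : Commute A₁.d A₀.d := (B.blocks_comm h (by decide : (0 : Fin 2) ≠ 1) A₀.d_mem A₁.d_mem).symm
  calc A₁.d * zp z (B.cl 1 y) * (A₀.d * zp z (B.cl 0 y) * y)
      = A₁.d * (zp z (B.cl 1 y) * (A₀.d * zp z (B.cl 0 y))) * y := by group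
    _ = A₁.d * A₀.d * (zp z (B.cl 0 y) * zp z (B.cl 1 y)) * y := by rw [(e1.mul_right e2).eq]; group
    _ = _ := by rw [e3.eq]

theorem Axis.both_ne (h : Hyp z Q) (A₀ : Axis B y Qy 0) (A₁ : Axis B y Qy 1) : A₀.d * A₁.d ≠ 1 := fun e =>
  A₀.d_z (B.blocks_inf h A₀.d_mem (eq_inv_of_mul_eq_one_left e ▸ inv_mem A₁.d_mem))

theorem not_mem_Qy (h : Hyp z Q) (hy : Pt z Q y) (hyy : Hyp y Qy) {w : G} (hw : w ∈ Q) (hwy : w ∈ Qy)
    (hw1 : w ≠ 1) : w * y ∉ Tp z := fun hT => by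
  have h2 := weak_Tp hyy (by rw [Tp_eq hy.mem]; exact hT) (mul_mem hwy (z_mem hyy))
  exact hw1 (hy.zpow_Q h (by simpa using mul_mem h2 (inv_mem (mem_zpowers y))) hw)

/-- The two classes of a point agree. -/
theorem same (h : Hyp z Q) (hy : Pt z Q y) (B : Bas z Q) : B.cl 0 y = B.cl 1 y := by
  by_contra hne
  obtain ⟨Qy, hyy⟩ := hyp_Tp h hy.mem
  obtain ⟨A₀⟩ := B.exists_axis h hy hyy 0
  obtain ⟨A₁⟩ := B.exists_axis h hy hyy 1
  have hk : B.cl 0 y + B.cl 1 y = 0 := by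
    have h0 := two_block h hy B 0
    have h1 := two_block h hy B 1
    revert hne h0 h1
    generalize B.cl 0 y = a
    generalize B.cl 1 y = b
    revert a b
    decide
  have he := A₀.disp_both h hy A₁
  rw [hk, zp_zero, mul_one] at he
  exact not_mem_Qy h hy hyy (mul_mem (B.toTwo.Qi_le 0 A₀.d_mem) (B.toTwo.Qi_le 1 A₁.d_mem))
    (mul_mem A₀.d_Qy A₁.d_Qy) (A₀.both_ne h A₁) (he ▸ Tp_conj hy.mem _)

/-- Among the translates of a point by the centre only it is a point. -/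
theorem uniq (h : Hyp z Q) (hy : Pt z Q y) {c : G} (hc : c ∈ zpowers z) (hT : c * y ∈ Tp z) : c = 1 := by
  obtain ⟨Qy, hyy⟩ := hyp_Tp h hy.mem
  obtain ⟨B⟩ := exists_bas h
  obtain ⟨A₀⟩ := B.exists_axis h hy hyy 0
  obtain ⟨A₁⟩ := B.exists_axis h hy hyy 1
  by_contra hne
  have hk0 := two_block h hy B 0
  have hs := same h hy B
  set k := B.cl 0 y with hk
  have hmain : ∀ (q w : G) (m : ZMod 3), q ∈ Q → w ∈ Q → w ∈ Qy → w ≠ 1 → q * y * q⁻¹ = w * zp z m * y →
      c = zp z (-m) → False := by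
    intro q w m hq hw hwy hw1 e ec
    refine not_mem_Qy h hy hyy hw hwy hw1 ?_
    have h1 := Tp_conj hT q
    rwa [show q * (c * y) * q⁻¹ = (q * c * q⁻¹) * (q * y * q⁻¹) by group, conj_zpow (h.le hq) hc, e,
      ← mul_assoc, show c * (w * zp z m) = w * (zp z m * c) by
        rw [← mul_assoc, (comm_zpow (h.le hw) hc).symm.eq, mul_assoc,
          (comm_zpow (h.le (zpowers_le_Q h (zp_mem m))) hc).symm.eq],
      ec, ← zp_add h, add_neg_cancel, zp_zero, mul_one] at h1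
  have hcl : ∀ m n : ZMod 3, m ≠ 0 → n ≠ 0 → m = -n ∨ m = -(n + n) := by decide
  rcases hcl (lg z c) k (fun e => hne (lg_eq_zero h hc e)) hk0 with e | e
  · exact hmain _ _ k (B.toTwo.Qi_le 0 A₀.q_mem) (B.toTwo.Qi_le 0 A₀.d_mem) A₀.d_Qy
      (fun e1 => A₀.d_z (e1 ▸ one_mem _)) A₀.disp (by rw [← e, zp_lg h hc])
  · refine hmain _ _ (k + k) (mul_mem (B.toTwo.Qi_le 0 A₀.q_mem) (B.toTwo.Qi_le 1 A₁.q_mem))
      (mul_mem (B.toTwo.Qi_le 0 A₀.d_mem) (B.toTwo.Qi_le 1 A₁.d_mem)) (mul_mem A₀.d_Qy A₁.d_Qy)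
      (A₀.both_ne h A₁) ?_ (by rw [← e, zp_lg h hc])
    rw [A₀.disp_both h hy A₁, ← hs]

/-- Two points in one class modulo the centre are equal. -/
theorem eq_of_class (h : Hyp z Q) (hy : Pt z Q y) {p : G} (hp : p ∈ Tp z) (hc : p * y⁻¹ ∈ zpowers z) : p = y :=
  mul_inv_eq_one.1 (uniq h hy hc (by rwa [inv_mul_cancel_right]))

/-- Two points in one coset of `Q` are conjugate under `Q`. -/
theorem coset_conj (h : Hyp z Q) (hy : Pt z Q y) {p : G} (hpT : p ∈ Tp z) (hwQ : p * y⁻¹ ∈ Q) :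
    ∃ q ∈ Q, q * y * q⁻¹ = p := by
  obtain ⟨B⟩ := exists_bas h
  have hyH := B.Pt_Hs h hy
  have hcy : ∀ i, M2.cube (B.mat i y) = M2.one := B.mat_cube h hyH (by rw [hy.cube h]; exact one_mem _)
  set w := p * y⁻¹ with hw
  have hpw : p = w * y := by rw [hw, inv_mul_cancel_right]
  -- the translation has fixed classes
  have hv : ∀ i, M2.app (B.mat i y) (B.vec i w) = B.vec i w := by
    set e := y * w * y⁻¹ * w⁻¹ with he
    have heQ : e ∈ Q := mul_mem (conj_mem h hy.cen hwQ) (inv_mem hwQ)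
    have heq : e = (w * y * w⁻¹ * y⁻¹)⁻¹ := by rw [he]; group
    have hye : Commute y e := by rw [heq]; exact (B.disp_commute h hy hwQ).inv_right
    have h3 : w * (e * w) * (e * e * w) = 1 := by
      have h1 := Tp_cube h hpT
      rw [hpw] at h1
      calc w * (e * w) * (e * e * w) = w * (y * w * y⁻¹) * (y * y * w * (y * y)⁻¹) := by
            have e1 : y * w * y⁻¹ = e * w := by rw [he]; group
            have e2 : y * y * w * (y * y)⁻¹ = e * e * w :=
              calc y * y * w * (y * y)⁻¹ = y * (y * w * y⁻¹) * y⁻¹ := by group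
                _ = y * (e * w) * y⁻¹ := by rw [e1]
                _ = (y * e) * y⁻¹ * (y * w * y⁻¹) := by group
                _ = (e * y) * y⁻¹ * (e * w) := by rw [e1, hye.eq]
                _ = e * e * w := by group
            rw [e1, e2]
        _ = (w * y) ^ 3 * (y ^ 3)⁻¹ := by simp [pow_succ, mul_assoc]
        _ = 1 := by rw [h1, hy.cube h]; group
    have hwe : frm z w e = 0 := by
      have he3 : e * e = e⁻¹ := eq_inv_of_mul_eq_one_left (by
        have := B.cube h heQ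
        rwa [pow_succ, pow_two] at this)
      have hw3 : w * w = w⁻¹ := eq_inv_of_mul_eq_one_left (by
        have := B.cube h hwQ
        rwa [pow_succ, pow_two] at this)
      set c := w * e * w⁻¹ * e⁻¹ with hc
      have hcz : c ∈ zpowers z := comm_mem h hwQ heQ
      have h4 : w * (e * w) * (e * e * w) = c * c := by
        calc w * (e * w) * (e * e * w) = w * e * w * (e * e) * w := by group
          _ = c * e * (w * w) * (e * e) * w := by rw [hc]; group
          _ = c * e * w⁻¹ * e⁻¹ * w := by rw [he3, hw3]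
          _ = c * (w⁻¹ * (w * e * w⁻¹ * e⁻¹) * w⁻¹⁻¹) := by group
          _ = c * c := by rw [← hc, conj_zpow (h.le (inv_mem hwQ)) hcz]
      exact (frm_eq_zero h hwQ heQ).2
        (mul_inv_eq_iff_eq_mul.1 (mul_inv_eq_one.1 (zc_sq h hcz (h4 ▸ h3))))
    rw [B.frm_eq h hwQ heQ] at hwe
    have hterm : ∀ i, Bas.det2 (B.vec i w) (B.vec i e) =
        Bas.det2 (B.vec i w) (M2.app (B.mat i y) (B.vec i w)) := fun i => by
      rw [he, B.vec_mul h i (conj_mem h hy.cen hwQ) (inv_mem hwQ), B.vec_inv h i hwQ, B.vec_conj h hyH i hwQ]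
      simp only [Bas.det2, Prod.fst_add, Prod.snd_add, Prod.fst_neg, Prod.snd_neg]; ring
    rw [hterm, hterm] at hwe
    have hval : ∀ i, M2.app (B.mat i y) (B.vec i w) ≠ B.vec i w →
        Bas.det2 (B.vec i w) (M2.app (B.mat i y) (B.vec i w)) = B.cl 0 y := fun i hi => by
      rw [M2.det_disp _ (B.mat_det h hyH i) (hcy i) _ hi]
      rcases Bas.fin_cases_two i with rfl | rfl
      · rfl
      · exact (same h hy B).symm
    have hzero : ∀ i, M2.app (B.mat i y) (B.vec i w) = B.vec i w →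
        Bas.det2 (B.vec i w) (M2.app (B.mat i y) (B.vec i w)) = 0 := fun i hi => by
      rw [hi]; simp only [Bas.det2]; ring
    have hk := two_block h hy B 0
    intro i
    by_contra hi
    by_cases ho : M2.app (B.mat i.rev y) (B.vec i.rev w) = B.vec i.rev w
    · rcases Bas.fin_cases_two i with rfl | rfl
      · rw [hval 0 hi, show (1 : Fin 2) = Fin.rev 0 from rfl, hzero _ ho, add_zero] at hwe
        exact hk hwe
      · rw [hval 1 hi, show (0 : Fin 2) = Fin.rev 1 from rfl, hzero _ ho, zero_add] at hwe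
        exact hk hwe
    · rcases Bas.fin_cases_two i with rfl | rfl
      all_goals
        rw [hval 0 (by first | exact hi | exact ho), hval 1 (by first | exact hi | exact ho)] at hwe
        revert hk hwe
        generalize B.cl 0 y = a
        revert a
        decide
  -- move it back
  have hu : ∀ i, ∃ u, u - M2.app (B.mat i y) u = B.vec i w := fun i => by
    have hn : M2.app (B.mat i y) (-B.vec i w) = -B.vec i w := by
      have h1 := hv i
      conv_rhs => rw [← h1]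
      simp only [M2.app, Prod.fst_neg, Prod.snd_neg, Prod.neg_mk, Prod.mk.injEq]; constructor <;> ring
    obtain ⟨u, hu⟩ := M2.disp _ (B.mat_det h hyH i) (hcy i)
      (fun e1 => two_block h hy B i (by rw [Bas.cl, e1, M2.cls_one])) _ hn
    exact ⟨u, by rw [hu]; abel⟩
  choose u hu using hu
  obtain ⟨q, hq, hqv⟩ := B.exists_both h u
  have hcls : p * (q * y * q⁻¹)⁻¹ ∈ zpowers z := by
    rw [show p * (q * y * q⁻¹)⁻¹ = w * (q * y * q⁻¹ * y⁻¹)⁻¹ by rw [hw]; group]
    exact B.vec_ext h hwQ (B.disp_Q h hy hq) fun i => by rw [B.vec_disp h hy hq, hqv, hu]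
  refine ⟨q, hq, ?_⟩
  have hy₁ : q⁻¹ * p * q⁻¹⁻¹ = y := by
    refine eq_of_class h hy (Tp_conj hpT _) ?_
    have h1 := conj_zpow (h.le (inv_mem hq)) hcls
    rw [show q⁻¹ * p * q⁻¹⁻¹ * y⁻¹ = q⁻¹ * (p * (q * y * q⁻¹)⁻¹) * q⁻¹⁻¹ by group, h1]
    exact hcls
  rw [← hy₁]; group

/-- Two points with the same classes are conjugate in `C(z)`. -/
theorem conj_of_cl (h : Hyp z Q) (B : Bas z Q) (hy : Pt z Q y) {p : G} (hp : Pt z Q p)
    (e : B.cl 0 p = B.cl 0 y) : ∃ k ∈ centralizer ({z} : Set G), k * p * k⁻¹ = y := by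
  have hyH := B.Pt_Hs h hy
  have hpH := B.Pt_Hs h hp
  have hcy : ∀ i, M2.cube (B.mat i y) = M2.one := B.mat_cube h hyH (by rw [hy.cube h]; exact one_mem _)
  have hC : ∀ i, ∃ r ∈ B.R i, M2.mul (B.mat i r) (B.mat i p) = M2.mul (B.mat i y) (B.mat i r) := fun i => by
    obtain ⟨C, h1, h2, h3⟩ := M2.conj_class _ _ (B.mat_det h hpH i)
      (B.mat_cube h hpH (by rw [hp.cube h]; exact one_mem _) i) (B.mat_det h hyH i) (hcy i) (by
        rcases Bas.fin_cases_two i with rfl | rfl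
        · exact e
        · exact (same h hp B).symm.trans (e.trans (same h hy B)))
    obtain ⟨r, hr, rfl⟩ := B.exists_R h (i := i) h1 h2
    exact ⟨r, hr, h3⟩
  choose r hr hre using hC
  set s := r 0 * r 1 with hs
  have hr' : ∀ i, r i ∈ B.Hs := fun i => B.R_le_Hs h i (hr i)
  have hsH : s ∈ B.Hs := mul_mem (hr' 0) (hr' 1)
  have hms : ∀ i, B.mat i s = B.mat i (r i) := fun i => by
    rw [hs, B.mat_mul h (hr' 0) (hr' 1)]
    rcases Bas.fin_cases_two i with rfl | rfl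
    · rw [B.mat_R_other h (by decide : (1 : Fin 2) ≠ 0) (hr 1)]
      exact Prod.ext (by simp [M2.mul, M2.app, M2.one]) (by simp [M2.mul, M2.app, M2.one])
    · rw [B.mat_R_other h (by decide : (0 : Fin 2) ≠ 1) (hr 0)]
      exact Prod.ext (M2.app_one _) (M2.app_one _)
  set p₁ := s * p * s⁻¹ with hp₁
  have hp₁H : p₁ ∈ B.Hs := mul_mem (mul_mem hsH hpH) (inv_mem hsH)
  set w := p₁ * y⁻¹ with hw
  have hwQ : w ∈ Q := by
    refine B.mem_Q_of_mat h (mul_mem hp₁H (inv_mem hyH)) fun i => ?_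
    have h1 : B.mat i (s * p) = B.mat i (y * s) := by
      rw [B.mat_mul h hsH hpH, B.mat_mul h hyH hsH, hms, hre]
    rw [hw, hp₁, B.mat_mul h (mul_mem (mul_mem hsH hpH) (inv_mem hsH)) (inv_mem hyH),
      B.mat_mul h (mul_mem hsH hpH) (inv_mem hsH), h1, ← B.mat_mul h (mul_mem hyH hsH) (inv_mem hsH),
      mul_inv_cancel_right, ← B.mat_mul h hyH (inv_mem hyH), mul_inv_cancel, B.mat_one h]
  have hp₁T : p₁ ∈ Tp z := Tp_conj hp.mem s
  obtain ⟨q, hq, hqy⟩ := coset_conj h hy hp₁T (hw ▸ hwQ)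
  refine ⟨q⁻¹ * s, mul_mem (inv_mem (h.le hq)) (B.Hs_le hsH), ?_⟩
  calc q⁻¹ * s * p * (q⁻¹ * s)⁻¹ = q⁻¹ * p₁ * q := by rw [hp₁]; group
    _ = y := by rw [← hqy]; group

end Cfsg.Agent.U62Three.A
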