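import Cfsg.Agent.U62Three.A.Involutions

/-!
# The blocks and the quaternion groups acting on them
-/

set_option autoImplicit false

open Subgroup

namespace Cfsg.Agent.U62Three.A

universe u

variable {G : Type u} [Group G] {z : G} {Q : Subgroup G}

/-- The elements of `Q` fixed modulo the centre by `g`. -/
def fx (h : Hyp z Q) (g : G) (hg : g ∈ centralizer ({z} : Set G)) : Subgroup G where
  carrier := {x | x ∈ Q ∧ g * x * g⁻¹ * x⁻¹ ∈ zpowers z}
  one_mem' := ⟨one_mem _, by simp⟩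
  mul_mem' := by
    rintro a b ⟨ha, ha'⟩ ⟨hb, hb'⟩
    refine ⟨mul_mem ha hb, ?_⟩
    rw [show g * (a * b) * g⁻¹ * (a * b)⁻¹ = (g * a * g⁻¹) * (g * b * g⁻¹ * b⁻¹) * (g * a * g⁻¹)⁻¹ *
      (g * a * g⁻¹ * a⁻¹) by group, conj_zpow (h.le (conj_mem h hg ha)) hb']
    exact mul_mem hb' ha'
  inv_mem' := by
    rintro a ⟨ha, ha'⟩
    refine ⟨inv_mem ha, ?_⟩
    rw [show g * a⁻¹ * g⁻¹ * a⁻¹⁻¹ = a⁻¹ * (g * a * g⁻¹ * a⁻¹)⁻¹ * a⁻¹⁻¹ by group,
      conj_zpow (h.le (inv_mem ha)) (inv_mem ha')]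
    exact inv_mem ha'

namespace Two

variable (T : Two z Q)

theorem t_le (i : Fin 2) : T.t i ∈ centralizer ({z} : Set G) := T.P_le (T.t_P i)

/-- The block of `t i`: the elements centralised by the other involution. -/
def Qi (i : Fin 2) : Subgroup G := cs Q (T.t i.rev)

/-- The kernel of the action of `P` on the other block. -/
def R (i : Fin 2) : Subgroup G := T.P ⊓ centralizer (T.Qi i.rev : Set G)

theorem rev_ne (i : Fin 2) : i.rev ≠ i := by revert i; decide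

theorem eq_rev {i k : Fin 2} (hik : i ≠ k) : k = i.rev := by revert hik; revert i k; decide

theorem Qi_le (i : Fin 2) : T.Qi i ≤ Q := inf_le_left

theorem t_fix {i : Fin 2} {x : G} (hx : x ∈ T.Qi i) : Commute (T.t i.rev) x := (mem_cs.1 hx).2

variable [Finite G] (h : Hyp z Q)

include h in
theorem z_mem_Qi (i : Fin 2) : zpowers z ≤ T.Qi i := (zpowers_le h (T.t_le i.rev)).1

theorem card_Qi (i : Fin 2) : Nat.card ↥(T.Qi i) = 27 := T.t_card i.rev

include h in
theorem Qi_eq_iv (i : Fin 2) : T.Qi i = iv h (T.t i) (T.t_le i) := by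
  have hd : ∀ k, T.t k ≠ T.t k.rev := by
    intro k; fin_cases k
    · exact T.t_dist
    · exact T.t_dist.symm
  have hk : T.t i.rev ∈ centralizer ({z} : Set G) := T.t_le _
  have hc : Commute (T.t i) (T.t i.rev) := T.t_cen _ _ (T.t_P i)
  have hiv : ∀ k, Nat.card ↥(iv h (T.t k) (T.t_le k)) = 27 := fun k =>
    (card_cs h (T.t_le k) (T.t_sq k) (T.t_ne k)).elim (fun e => by rw [T.t_card k] at e; omega) And.right
  have hpres : ∀ {x : G}, x ∈ T.Qi i → T.t i * x * (T.t i)⁻¹ ∈ T.Qi i := fun {x} hx => by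
    refine mem_cs.2 ⟨conj_mem h (T.t_le i) (mem_cs.1 hx).1, ?_⟩
    have h1 := T.t_fix hx
    exact (hc.symm.mul_right h1).mul_right hc.symm.inv_right
  -- the part of the block centralised by both
  let K0 : Subgroup G := T.Qi i ⊓ cs Q (T.t i)
  have hsplit : ∀ x ∈ T.Qi i, ∃ a ∈ K0, ∃ b ∈ T.Qi i ⊓ iv h (T.t i) (T.t_le i), x = a * b := by
    intro x hx
    obtain ⟨a, ha, b, hb, e⟩ := split h (T.t_le i) (T.t_sq i) (mem_cs.1 hx).1
    have hsx : T.t i * x * (T.t i)⁻¹ = a * (T.t i * b * (T.t i)⁻¹) := by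
      rw [e, show T.t i * (a * b) * (T.t i)⁻¹ = (T.t i * a * (T.t i)⁻¹) * (T.t i * b * (T.t i)⁻¹) by group,
        (mem_cs.1 ha).2.eq, mul_inv_cancel_right]
    obtain ⟨w, hw, e1⟩ : ∃ w ∈ zpowers z, T.t i * b * (T.t i)⁻¹ = w * b⁻¹ := ⟨_, hb.2, by group⟩
    have h1 : (T.t i * x * (T.t i)⁻¹)⁻¹ * x ∈ T.Qi i := mul_mem (inv_mem (hpres hx)) hx
    rw [hsx, e1, e] at h1
    have hb2 : b * b ∈ T.Qi i := by
      have h4 := mul_mem h1 (T.z_mem_Qi h i hw)
      have hbw : Commute b w := comm_zpow (h.le hb.1) hw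
      rwa [show (a * (w * b⁻¹))⁻¹ * (a * b) * w = b * (w⁻¹ * (b * w)) by group, hbw.eq,
        inv_mul_cancel_left] at h4
    have hb3 : b ∈ T.Qi i := by
      have h3 := mul_mem (inv_mem hb2) (T.z_mem_Qi h i (cube_mem h hb.1))
      simpa [pow_succ, mul_assoc] using h3
    have ha3 : a ∈ T.Qi i := by
      have := mul_mem hx (inv_mem hb3)
      rwa [e, mul_inv_cancel_right] at this
    exact ⟨a, ⟨ha3, ha⟩, b, ⟨hb3, hb⟩, e⟩
  have hK0c : ∀ a ∈ K0, ∀ b ∈ T.Qi i ⊓ iv h (T.t i) (T.t_le i), Commute a b := fun a ha b hb =>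
    commute h (T.t_le i) ha.2 hb.2
  have hzK : zpowers z ≤ K0 := le_inf (T.z_mem_Qi h i) (zpowers_le h (T.t_le i)).1
  have h9 : Nat.card ↥K0 ≠ 9 := fun e => by
    have hle : K0 ≤ zpowers z := fun a ha => cs_centre h hk (T.t_sq _) ha.1 fun x hx => by
      obtain ⟨a', ha', b, hb, rfl⟩ := hsplit x hx
      exact (comm_nine e ha ha').mul_right (hK0c a ha b hb)
    have := Nat.le_of_dvd (by rw [Nat.card_zpowers, h.oz]; norm_num) (card_dvd_of_le hle)
    rw [Nat.card_zpowers, h.oz, e] at this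
    omega
  have hd27 : Nat.card ↥K0 ∣ 3 ^ 3 := by
    have := card_dvd_of_le (inf_le_left : K0 ≤ T.Qi i)
    rwa [T.card_Qi i] at this
  obtain ⟨m, hm, hm'⟩ := (Nat.dvd_prime_pow Nat.prime_three).1 hd27
  have h3 : 3 ∣ Nat.card ↥K0 := by
    have := card_dvd_of_le hzK
    rwa [Nat.card_zpowers, h.oz] at this
  have hcase : Nat.card ↥K0 = 3 ∨ Nat.card ↥K0 = 27 := by
    interval_cases m <;> rw [hm'] at h3 h9 ⊢ <;> omega
  rcases hcase with e | e
  · have hK : zpowers z = K0 := eq_of_le_of_card_ge hzK (by rw [e, Nat.card_zpowers, h.oz])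
    refine eq_of_le_of_card_ge (fun x hx => ?_) (by rw [hiv i, T.card_Qi i])
    obtain ⟨a, ha, b, hb, rfl⟩ := hsplit x hx
    exact mul_mem ((zpowers_le h (T.t_le i)).2 (hK.ge ha)) hb.2
  · exfalso
    have e1 : K0 = T.Qi i := eq_of_le_of_card_ge inf_le_left (by rw [e, T.card_Qi i])
    have e2 : cs Q (T.t i.rev) = cs Q (T.t i) :=
      eq_of_le_of_card_ge (fun x hx => (e1.ge hx).2) (by rw [T.t_card, T.t_card])
    refine not_both (h := h) (T.t_le i) hk (T.t_sq i) (T.t_sq _) hc (fun e3 => hd i ?_) fun x hx => ?_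
    · rw [← mul_right_cancel_iff (a := T.t i.rev), e3, T.t_sq]
    · constructor
      · exact fun hx' => iv_of_commute h hk (T.t_sq _) hx fun a ha =>
          (commute h (T.t_le i) (e2.le ha) hx').symm
      · exact fun hx' => iv_of_commute h (T.t_le i) (T.t_sq _) hx fun a ha =>
          (commute h hk (e2.ge ha) hx').symm

include h in
theorem t_inv {i : Fin 2} {x : G} (hx : x ∈ T.Qi i) : T.t i * x * (T.t i)⁻¹ * x ∈ zpowers z :=
  ((T.Qi_eq_iv h i).le hx).2

include h in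
theorem blocks_comm {i k : Fin 2} (hik : i ≠ k) {x y : G} (hx : x ∈ T.Qi i) (hy : y ∈ T.Qi k) :
    Commute x y := by
  obtain rfl := eq_rev hik
  rw [T.Qi_eq_iv h i] at hx
  have hy' : y ∈ cs Q (T.t i) := by simpa [Qi, Fin.rev_rev] using hy
  exact (commute h (T.t_le i) hy' hx).symm

include h in
theorem blocks_split {x : G} (hx : x ∈ Q) (i : Fin 2) :
    ∃ a ∈ T.Qi i, ∃ b ∈ T.Qi i.rev, x = a * b := by
  obtain ⟨a, ha, b, hb, rfl⟩ := split h (T.t_le i.rev) (T.t_sq _) hx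
  exact ⟨a, ha, b, (T.Qi_eq_iv h i.rev).ge hb, rfl⟩

include h in
theorem blocks_centre {i : Fin 2} {x : G} (hx : x ∈ T.Qi i) (hc : ∀ y ∈ T.Qi i, Commute x y) :
    x ∈ zpowers z :=
  cs_centre h (T.t_le _) (T.t_sq _) hx hc

include h in
theorem blocks_inf {i : Fin 2} {x : G} (hx : x ∈ T.Qi i) (hx' : x ∈ T.Qi i.rev) : x ∈ zpowers z :=
  inf_mem h (T.t_le i.rev) hx ((T.Qi_eq_iv h i.rev).le hx')

include h in
theorem P_conj_Qi {p : G} (hp : p ∈ T.P) {i : Fin 2} {x : G} (hx : x ∈ T.Qi i) :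
    p * x * p⁻¹ ∈ T.Qi i := by
  refine mem_cs.2 ⟨conj_mem h (T.P_le hp) (mem_cs.1 hx).1, ?_⟩
  exact ((T.t_cen _ p hp).symm.mul_right (T.t_fix hx)).mul_right (T.t_cen _ p hp).symm.inv_right

include h in
/-- An element of `P` fixing a nontrivial class of a block centralises the block. -/
theorem P_faith {p : G} (hp : p ∈ T.P) {i : Fin 2} {x : G} (hx : x ∈ T.Qi i) (hxz : x ∉ zpowers z)
    (hf : p * x * p⁻¹ * x⁻¹ ∈ zpowers z) : ∀ y ∈ T.Qi i, Commute p y := by
  obtain ⟨e⟩ := T.iso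
  have hpz := T.P_le hp
  -- the square fixes the class, so it centralises the block
  have hsq : ∀ y ∈ T.Qi i, Commute (p * p) y := by
    have hs : p * p ∈ T.P := mul_mem hp hp
    have hs2 := P_fourth e hp
    have hs' := T.P_le hs
    have hfix : (p * p) * x * (p * p)⁻¹ * x⁻¹ ∈ zpowers z := by
      rw [show p * p * x * (p * p)⁻¹ * x⁻¹ =
        p * (p * x * p⁻¹ * x⁻¹) * p⁻¹ * (p * x * p⁻¹ * x⁻¹) by group, conj_zpow hpz hf]
      exact mul_mem hf hf
    have hx' : x ∈ cs Q (p * p) := mem_cs_of_fix h hs' hs2 (mem_cs.1 hx).1 hfix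
    intro y hy
    -- the square is one of the four central elements
    have hcases : p * p = 1 ∨ p * p = T.t 0 ∨ p * p = T.t 1 ∨ p * p = T.t 0 * T.t 1 := by
      have h0 := T.t_P 0
      have h1 := T.t_P 1
      have key : ∀ q a b : QuaternionGroup 2 × QuaternionGroup 2, q * q = 1 → a * a = 1 → b * b = 1 →
          a ≠ 1 → b ≠ 1 → a ≠ b → q = 1 ∨ q = a ∨ q = b ∨ q = a * b := by
        intro q a b hq ha hb ha1 hb1 hab
        rcases quat_sq q hq with rfl | rfl | rfl | rfl <;> rcases quat_sq a ha with rfl | rfl | rfl | rfl <;>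
          rcases quat_sq b hb with rfl | rfl | rfl | rfl <;> revert ha1 hb1 hab <;> decide +kernel
      have conv : ∀ (s : G) (hs : s ∈ T.P), s * s = 1 → e ⟨s, hs⟩ * e ⟨s, hs⟩ = 1 := fun s hs h2 => by
        rw [← map_mul, show (⟨s, hs⟩ : ↥T.P) * ⟨s, hs⟩ = 1 from Subtype.ext h2, map_one]
      have := key (e ⟨p * p, hs⟩) (e ⟨_, h0⟩) (e ⟨_, h1⟩) (conv _ _ hs2) (conv _ _ (T.t_sq 0))
        (conv _ _ (T.t_sq 1)) (fun e1 => T.t_ne 0 (congrArg Subtype.val (e.injective (e1.trans e.map_one.symm))))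
        (fun e1 => T.t_ne 1 (congrArg Subtype.val (e.injective (e1.trans e.map_one.symm))))
        (fun e1 => T.t_dist (congrArg Subtype.val (e.injective e1)))
      rw [← map_one e, ← map_mul] at this
      simp only [e.injective.eq_iff] at this
      simpa [Subtype.ext_iff] using this
    have hinv : ∀ k, T.t k = p * p → T.t k = T.t i.rev := fun k hk => by
      by_contra hne
      have hk' : k = i := by
        rcases eq_or_ne k i with rfl | hki
        · rfl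
        · exact absurd (congrArg T.t (eq_rev hki.symm)) hne
      subst hk'
      exact hxz (inf_mem h (T.t_le k) (hk ▸ hx') ((T.Qi_eq_iv h k).le hx))
    rcases hcases with e1 | e1 | e1 | e1
    · rw [e1]; exact Commute.one_left y
    · rw [e1, hinv 0 e1.symm]; exact T.t_fix hy
    · rw [e1, hinv 1 e1.symm]; exact T.t_fix hy
    · refine absurd ?_ hxz
      have hxi : x ∈ cs Q (T.t i) := by
        refine mem_cs.2 ⟨(mem_cs.1 hx).1, ?_⟩
        have h01 : T.t 0 * T.t 1 = T.t i * T.t i.rev := by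
          fin_cases i
          · rfl
          · exact T.t_cen 1 _ (T.t_P 0)
        have h2 := (mem_cs.1 hx').2
        rw [e1, h01] at h2
        simpa using h2.mul_left (T.t_fix hx).inv_left
      exact inf_mem h (T.t_le i) hxi ((T.Qi_eq_iv h i).le hx)
  -- the element itself
  intro y hy
  have hy' := T.P_conj_Qi h hp hy
  have hppy : p * (p * y * p⁻¹) * p⁻¹ = y := by
    rw [show p * (p * y * p⁻¹) * p⁻¹ = (p * p) * y * (p * p)⁻¹ by group, (hsq y hy).eq,
      mul_inv_cancel_right]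
  set w := p * y * p⁻¹ * y⁻¹ with hw
  have hwQ : w ∈ T.Qi i := mul_mem hy' (inv_mem hy)
  have hpw : p * w * p⁻¹ = w⁻¹ := by
    rw [hw, show p * (p * y * p⁻¹ * y⁻¹) * p⁻¹ = p * (p * y * p⁻¹) * p⁻¹ * (p * y * p⁻¹)⁻¹ by group, hppy]
    group
  -- the commutator with the fixed class is preserved
  have hxw : Commute x w := by
    have hc := comm_mem h (mem_cs.1 hx).1 (mem_cs.1 hy).1
    have e1 : p * (x * y * x⁻¹ * y⁻¹) * p⁻¹ = x * y * x⁻¹ * y⁻¹ := conj_zpow hpz hc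
    have e2 : p * x * p⁻¹ = (p * x * p⁻¹ * x⁻¹) * x := by group
    set a := p * x * p⁻¹ * x⁻¹ with ha
    have e3 : x * (w * y) * x⁻¹ * (w * y)⁻¹ = x * y * x⁻¹ * y⁻¹ := by
      have hwy : w * y = p * y * p⁻¹ := by rw [hw]; group
      rw [hwy]
      conv_rhs => rw [← e1]
      rw [show p * (x * y * x⁻¹ * y⁻¹) * p⁻¹ =
        (p * x * p⁻¹) * (p * y * p⁻¹) * (p * x * p⁻¹)⁻¹ * (p * y * p⁻¹)⁻¹ by group, e2,
        show a * x * (p * y * p⁻¹) * (a * x)⁻¹ * (p * y * p⁻¹)⁻¹ =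
          (a * (x * (p * y * p⁻¹) * x⁻¹) * a⁻¹) * (p * y * p⁻¹)⁻¹ by group,
        (comm_zpow (h.le (mul_mem (mul_mem (mem_cs.1 hx).1 (mem_cs.1 hy').1) (inv_mem (mem_cs.1 hx).1))) hf).eq.symm]
      group
    have e4 : x * (w * y) * x⁻¹ * (w * y)⁻¹ = (x * w * x⁻¹ * w⁻¹) * (x * y * x⁻¹ * y⁻¹) := by
      rw [show x * (w * y) * x⁻¹ * (w * y)⁻¹ =
        (x * w * x⁻¹ * w⁻¹) * (w * (x * y * x⁻¹ * y⁻¹) * w⁻¹) by group,
        conj_zpow (h.le (mem_cs.1 hwQ).1) hc]
    rw [e4] at e3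
    have := mul_eq_right.1 e3
    exact mul_inv_eq_iff_eq_mul.1 (mul_inv_eq_one.1 this)
  -- so it lies in the abelian part, and it is inverted
  by_cases hwz : w ∈ zpowers z
  · have h1 : w⁻¹ = w := by rw [← hpw, conj_zpow hpz hwz]
    have h2 : w = 1 := zc_sq h hwz (by nth_rw 1 [← h1]; exact inv_mul_cancel w)
    exact mul_inv_eq_iff_eq_mul.1 (mul_inv_eq_one.1 (hw ▸ h2))
  exfalso
  -- the centraliser of `x` in the block has order nine
  let A : Subgroup G := T.Qi i ⊓ centralizer ({x} : Set G)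
  have hA : A ≠ T.Qi i := fun e1 => hxz (T.blocks_centre h hx fun b hb =>
    (mem_centralizer_singleton_iff.1 (e1.ge hb).2 : b * x = x * b).symm)
  have hxA : x ∈ A := ⟨hx, mem_centralizer_singleton_iff.2 rfl⟩
  have hB : zpowers z ⊔ zpowers x ≤ A := sup_le (le_inf (T.z_mem_Qi h i) fun c hc =>
    mem_centralizer_singleton_iff.2 (comm_zpow (h.le (mem_cs.1 hx).1) hc).symm.eq) (Subgroup.zpowers_le.2 hxA)
  have hcard : Nat.card ↥(zpowers z ⊔ zpowers x : Subgroup G) = Nat.card ↥A := by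
    have d1 := card_dvd_of_le hB
    have d2 : Nat.card ↥A ∣ 3 ^ 3 := by
      have := card_dvd_of_le (inf_le_left : A ≤ T.Qi i)
      rwa [T.card_Qi i] at this
    have n2 : Nat.card ↥A ≠ 27 := fun e1 => hA (eq_of_le_of_card_ge inf_le_left (by rw [e1, T.card_Qi i]))
    have d3 : 3 ∣ Nat.card ↥(zpowers z ⊔ zpowers x : Subgroup G) := by
      have := card_dvd_of_le (le_sup_left : zpowers z ≤ zpowers z ⊔ zpowers x)
      rwa [Nat.card_zpowers, h.oz] at this
    have n3 : Nat.card ↥(zpowers z ⊔ zpowers x : Subgroup G) ≠ 3 := fun e1 => hxz (by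
      have : zpowers z = zpowers z ⊔ zpowers x :=
        eq_of_le_of_card_ge le_sup_left (by rw [e1, Nat.card_zpowers, h.oz])
      exact this.ge (mem_sup_right (mem_zpowers x)))
    have d1' := Nat.le_of_dvd Nat.card_pos d1
    obtain ⟨m, hm, hm'⟩ := (Nat.dvd_prime_pow Nat.prime_three).1 d2
    obtain ⟨l, hl, hl'⟩ := (Nat.dvd_prime_pow Nat.prime_three).1 (d1.trans d2)
    revert d1' n2 d3 n3 hm' hl'
    generalize Nat.card ↥A = u
    generalize Nat.card ↥(zpowers z ⊔ zpowers x : Subgroup G) = v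
    intro d3 n3 n2 d1' hm' hl'
    subst hm' hl'
    interval_cases m <;> interval_cases l <;> omega
  have hwA : w ∈ zpowers z ⊔ zpowers x :=
    (eq_of_le_of_card_ge hB hcard.ge).ge ⟨hwQ, mem_centralizer_singleton_iff.2 hxw.symm.eq⟩
  have hfx : zpowers z ⊔ zpowers x ≤ fx h p hpz := sup_le
    (fun c hc => ⟨zpowers_le_Q h hc, by rw [conj_zpow hpz hc, mul_inv_cancel]; exact one_mem _⟩)
    (Subgroup.zpowers_le.2 ⟨(mem_cs.1 hx).1, hf⟩)
  have := (hfx hwA).2
  rw [hpw] at this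
  exact hwz (mem_of_sq h (mem_cs.1 hwQ).1 (inv_mem_iff.1 (by rwa [mul_inv_rev])))

end Two

end Cfsg.Agent.U62Three.A
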