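import Cfsg.Agent.U62Three.A.Mats
import Mathlib.GroupTheory.Index

/-!
# The record of the two blocks
-/

set_option autoImplicit false

open Subgroup

namespace Cfsg.Agent.U62Three.A.Bas

universe u

variable {G : Type u} [Group G] {z : G} {Q : Subgroup G} (B : Bas z Q) [Finite G] (h : Hyp z Q)

omit [Finite G] in
theorem R_le_Hs' (i : Fin 2) : B.R i ≤ B.P := Two.R_le_P _ i

include h in
theorem R_le_Hs (i : Fin 2) : B.R i ≤ B.Hs := (B.R_le_Hs' i).trans (B.P_le_Hs h)

include h in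
theorem mat_R_ne {i : Fin 2} {r : G} (hr : r ∈ B.R i) (e : B.mat i r = M2.one) : r = 1 :=
  B.R_faith h hr (B.a_mem i) (fun hz => by
    have := B.vec_zpowers h i hz
    rw [B.vec_a h] at this
    exact absurd (congrArg Prod.fst this) (by decide)) ((B.mat_eq_one h (B.R_le_Hs h i hr) i).1 e _ (B.a_mem i))

include h in
theorem mat_R_other {i k : Fin 2} (hik : i ≠ k) {r : G} (hr : r ∈ B.R i) : B.mat k r = M2.one :=
  (B.mat_eq_one h (B.R_le_Hs h i hr) k).2 fun x hx => by
    rw [(B.R_cent hik hr hx).eq, mul_inv_cancel_right, mul_inv_cancel]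
    exact one_mem _

include h in
theorem mat_P_four {p : G} (hp : p ∈ B.P) (i : Fin 2) : M2.four (B.mat i p) = M2.one := by
  obtain ⟨e⟩ := B.iso
  have hs := B.P_le_Hs h hp
  rw [M2.four, ← B.mat_mul h hs hs, ← B.mat_mul h (mul_mem hs hs) (mul_mem hs hs), P_fourth e hp,
    B.mat_one h]

include h in
/-- The quaternion group induces every matrix of order dividing four. -/
theorem exists_R {i : Fin 2} {A : M2.Mat} (hd : M2.det A = 1) (h4 : M2.four A = M2.one) :
    ∃ r ∈ B.R i, B.mat i r = A := by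
  classical
  let f : ↥(B.R i) → {A : M2.Mat // M2.det A = 1 ∧ M2.four A = M2.one} := fun r =>
    ⟨B.mat i r, B.mat_det h (B.R_le_Hs h i r.2) i, B.mat_P_four h (B.R_le_Hs' i r.2) i⟩
  have hf : Function.Injective f := fun a b e => by
    have ha := B.R_le_Hs h i a.2
    have hb := B.R_le_Hs h i b.2
    have h1 : B.mat i ((a : G)⁻¹ * b) = M2.one := by
      rw [B.mat_mul h (inv_mem ha) hb, ← show B.mat i a = B.mat i b from congrArg Subtype.val e,
        ← B.mat_mul h (inv_mem ha) ha, inv_mul_cancel, B.mat_one h]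
    exact Subtype.ext (inv_mul_eq_one.1 (B.mat_R_ne h (mul_mem (inv_mem a.2) b.2) h1))
  have hb : Function.Bijective f := (Nat.bijective_iff_injective_and_card f).2
    ⟨hf, by rw [(B.card_R_and_sup h i).1, Nat.card_eq_fintype_card, M2.card_four]⟩
  obtain ⟨r, hr⟩ := hb.2 ⟨A, hd, h4⟩
  exact ⟨r, r.2, congrArg Subtype.val hr⟩

include h in
theorem odd {g : G} (hg : g ∈ B.Hs) : g ^ 3 ∈ Q ⊔ B.R 0 ⊔ B.R 1 := by
  have hm : ∀ i, B.mat i (g ^ 3) = M2.cube (B.mat i g) := fun i => by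
    rw [pow_succ', pow_two, B.mat_mul h hg (mul_mem hg hg), B.mat_mul h hg hg]; rfl
  have hd := fun i => B.mat_det h (pow_mem hg 3) i
  have h4 : ∀ i, M2.four (B.mat i (g ^ 3)) = M2.one := fun i => by
    rw [hm]; exact M2.cube_four _ (B.mat_det h hg i)
  obtain ⟨r, hr, er⟩ := B.exists_R h (i := 0) (hd 0) (h4 0)
  obtain ⟨s, hs, es⟩ := B.exists_R h (i := 1) (hd 1) (h4 1)
  have hr' := B.R_le_Hs h 0 hr
  have hs' := B.R_le_Hs h 1 hs
  have hrs : ∀ i, B.mat i (r * s) = B.mat i (g ^ 3) := fun i => by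
    rw [B.mat_mul h hr' hs']
    rcases fin_cases_two i with rfl | rfl
    · rw [B.mat_R_other h (by decide : (1 : Fin 2) ≠ 0) hs, ← er, M2.mul]
      exact Prod.ext (by simp [M2.app, M2.one]) (by simp [M2.app, M2.one])
    · rw [B.mat_R_other h (by decide : (0 : Fin 2) ≠ 1) hr, ← es, M2.mul]
      exact Prod.ext (M2.app_one _) (M2.app_one _)
  have hq : g ^ 3 * (r * s)⁻¹ ∈ Q := B.mem_Q_of_mat h (mul_mem (pow_mem hg 3) (inv_mem (mul_mem hr' hs')))
    fun i => by
      rw [B.mat_mul h (pow_mem hg 3) (inv_mem (mul_mem hr' hs')), ← hrs, ← B.mat_mul h (mul_mem hr' hs')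
        (inv_mem (mul_mem hr' hs')), mul_inv_cancel, B.mat_one h]
  have := mul_mem (mem_sup_left (T := B.R 1) (mem_sup_left (T := B.R 0) hq))
    (mul_mem (mem_sup_left (T := B.R 1) (mem_sup_right (S := Q) hr)) (mem_sup_right (S := Q ⊔ B.R 0) hs))
  rwa [inv_mul_cancel_right] at this

include h in
theorem dvd_Hs : Nat.card ↥B.Hs ∣ 3 ^ 5 * 2 ^ 6 * 3 ^ 2 := by
  classical
  let ψ : ↥B.Hs →* Matrix.SpecialLinearGroup (Fin 2) (ZMod 3) × Matrix.SpecialLinearGroup (Fin 2) (ZMod 3) :=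
    MonoidHom.mk' (fun g => (M2.toSL _ (B.mat_det h g.2 0), M2.toSL _ (B.mat_det h g.2 1))) fun a b => by
      have e : ∀ i, M2.toSL _ (B.mat_det h (a * b).2 i) =
          M2.toSL _ (B.mat_det h a.2 i) * M2.toSL _ (B.mat_det h b.2 i) := fun i => by
        rw [← M2.toSL_mul (B.mat_det h a.2 i) (B.mat_det h b.2 i)
          (by rw [← B.mat_mul h a.2 b.2]; exact B.mat_det h (mul_mem a.2 b.2) i)]
        simp only [Subgroup.coe_mul, B.mat_mul h a.2 b.2]
      exact Prod.ext (e 0) (e 1)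
  have hk : Nat.card ψ.ker = 3 ^ 5 := by
    have : ψ.ker = Q.subgroupOf B.Hs := by
      ext g
      rw [MonoidHom.mem_ker, mem_subgroupOf]
      constructor
      · intro e
        refine B.mem_Q_of_mat h g.2 fun i => ?_
        have e' : ∀ i, M2.toSL _ (B.mat_det h g.2 i) = 1 := fun i => by
          rcases fin_cases_two i with rfl | rfl
          · exact congrArg Prod.fst e
          · exact congrArg Prod.snd e
        refine M2.toSL_inj (B.mat_det h g.2 i) (by decide) ((e' i).trans ?_)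
        apply Subtype.ext
        ext a b
        fin_cases a <;> fin_cases b <;> rfl
      · intro hg
        refine Prod.ext ?_ ?_ <;>
        · apply Subtype.ext
          show !![_, _; _, _] = _
          rw [B.mat_Q h hg]
          ext a b
          fin_cases a <;> fin_cases b <;> rfl
    rw [this, Nat.card_congr (subgroupOfEquivOfLe (B.Q_le_Hs h)).toEquiv, h.card]
  have hr : Nat.card ψ.range ∣ 2 ^ 6 * 3 ^ 2 := by
    have := card_subgroup_dvd_card ψ.range
    rwa [Nat.card_prod, M2.card_SL] at this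
  have hc := ψ.ker.card_eq_card_quotient_mul_card_subgroup
  rw [hk, Nat.card_congr (QuotientGroup.quotientKerEquivRange ψ).toEquiv] at hc
  rw [hc, mul_comm, mul_assoc]
  exact Nat.mul_dvd_mul_left _ hr

include B h in
theorem dvd : Nat.card ↥(centralizer ({z} : Set G)) ∣ 3 ^ 5 * 2 ^ 7 * 3 ^ 2 := by
  let S := B.Hs.subgroupOf (centralizer ({z} : Set G))
  have hS : Nat.card S = Nat.card ↥B.Hs := Nat.card_congr (subgroupOfEquivOfLe B.Hs_le).toEquiv
  have hi : S.index ∣ 2 := by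
    by_cases hall : ∀ g ∈ centralizer ({z} : Set G), g ∈ B.Hs
    · rw [show S = ⊤ from (subgroupOf_eq_top.2 hall)]
      simp
    push Not at hall
    obtain ⟨a, ha, ha'⟩ := hall
    refine dvd_of_eq ((index_eq_two_iff (H := S)).2 ⟨⟨a, ha⟩, fun b => ?_⟩)
    simp only [S, mem_subgroupOf, Subgroup.coe_mul]
    by_cases hb : (b : G) ∈ B.Hs
    · exact Or.inr ⟨hb, fun h1 => ha' (by simpa using mul_mem (inv_mem hb) h1)⟩
    · refine Or.inl ⟨?_, hb⟩
      -- both swap the blocks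
      refine (B.mem_Hs_iff h (mul_mem b.2 ha)).2 fun x hx => ?_
      obtain ⟨k, hk⟩ := B.perm_P h ha 0
      obtain rfl : k = 1 := fin_one fun e => ha' ((B.mem_Hs_iff h ha).2 fun y hy => e ▸ (hk y).1 hy)
      obtain ⟨l, hl⟩ := B.perm_P h b.2 1
      obtain rfl : l = 0 := fin_zero fun e => by
        refine hb ((B.mem_Hs_iff h b.2).2 fun y hy => ?_)
        obtain ⟨m, hm⟩ := B.perm_P h b.2 0
        obtain rfl : m = 0 := fin_zero fun e' => B.Qi_ne h (SetLike.ext fun w => by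
          subst e e'; exact (hm w).trans (hl w).symm)
        exact (hm y).1 hy
      have := (hl _).1 ((hk x).1 hx)
      rwa [show (b : G) * a * x * ((b : G) * a)⁻¹ = b * (a * x * a⁻¹) * (b : G)⁻¹ by group]
  have h1 := card_mul_index S
  rw [hS] at h1
  rw [← h1, show 3 ^ 5 * 2 ^ 7 * 3 ^ 2 = (3 ^ 5 * 2 ^ 6 * 3 ^ 2) * 2 by norm_num]
  exact mul_dvd_mul (B.dvd_Hs h) hi

include B h in
theorem cube {x : G} (hx : x ∈ Q) : x ^ 3 = 1 := by
  have key : ∀ i, ∀ y ∈ B.Qi i, y ^ 3 = 1 := fun i y hy => by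
    have hw := B.t_inv h hy
    set w := B.t i * y * (B.t i)⁻¹ * y with hw'
    have e : B.t i * y ^ 3 * (B.t i)⁻¹ = y ^ 3 := conj_zpow (B.t_le i) (cube_mem h (B.toTwo.Qi_le i hy))
    rw [← conj_pow, show B.t i * y * (B.t i)⁻¹ = w * y⁻¹ by rw [hw']; group] at e
    have hc : Commute w y⁻¹ := (comm_zpow (h.le (B.toTwo.Qi_le i hy)) hw).symm.inv_right
    rw [hc.mul_pow, Q_cube_zero h hw, one_mul, inv_pow] at e
    exact zc_sq h (cube_mem h (B.toTwo.Qi_le i hy)) (by nth_rw 1 [← e]; exact inv_mul_cancel _)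
  obtain ⟨p, hp, q, hq, rfl⟩ := B.blocks_split h hx 0
  rw [(B.blocks_comm h (by decide : (0 : Fin 2) ≠ Fin.rev 0) hp hq).mul_pow, key _ _ hp, key _ _ hq, one_mul]

include h in
/-- The record. -/
noncomputable def blocks : Blocks z Q where
  Qi := B.Qi
  R := B.R
  t := B.t
  cardQ := B.card_Qi
  cube := fun _ hx => B.cube h hx
  z_mem := fun i => B.z_mem_Qi h i (mem_zpowers z)
  le := B.toTwo.Qi_le
  comm := fun _ _ hik _ hx _ hy => B.blocks_comm h hik hx hy
  sup := le_antisymm (sup_le (B.toTwo.Qi_le 0) (B.toTwo.Qi_le 1)) fun x hx => by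
    obtain ⟨a, ha, b, hb, rfl⟩ := B.blocks_split h hx 0
    exact mul_mem (mem_sup_left ha) (mem_sup_right hb)
  centre := fun _ _ hx hc => B.blocks_centre h hx hc
  quat := B.quat h
  R_le := fun i => (B.R_le_Hs' i).trans B.P_le
  R_norm := fun i k => (B.R_le_Hs h i).trans (by
    rcases fin_cases_two k with rfl | rfl
    · exact inf_le_left.trans inf_le_right
    · exact inf_le_right)
  R_cent := fun _ _ hik _ hr _ hx => B.R_cent hik hr hx
  R_comm := fun _ hr _ hs => B.R_comm h hr hs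
  t_mem := B.t_mem_R h
  t_order := fun i => orderOf_eq_prime (by rw [pow_two]; exact B.t_sq i) (B.t_ne i)
  t_inv := fun _ _ hx => B.t_inv h hx
  perm := fun _ hg i => B.perm_P h hg i
  norm := by
    have e : Q ⊔ B.R 0 ⊔ B.R 1 = Q ⊔ B.P := by
      rw [sup_assoc]; exact congrArg _ (B.card_R_and_sup h 0).2
    rw [e]; exact B.norm
  dvd := B.dvd h
  kernel := fun _ hg ht => B.mem_Q_of_triv h hg ht
  faith := fun _ _ hr _ hx hxz hf => B.R_faith h hr hx hxz hf
  odd := fun _ hg h0 => B.odd h ((B.mem_Hs_iff h hg).2 h0)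

end Cfsg.Agent.U62Three.A.Bas
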