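import Cfsg.Agent.U62Three.A.CoordsMono

/-!
# Coordinates for the centralisers of two orthogonal roots
-/

set_option autoImplicit false

namespace Cfsg.Agent.U62Three.A.Crd

/-- The first root. -/
def rA : V := E 2 - E 4
/-- The second root. -/
def rB : V := E 3 - E 5
/-- Their sum. -/
def rC : V := rA + rB
/-- A point not fixed by the first involution. -/
def pP : V := (E 0 - E 2) + (E 3 - E 2)
/-- A second point fixed by the first involution. -/
def pQ : V := (E 0 - E 1) + (E 4 - E 1)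

set_option synthInstance.maxSize 1000 in
theorem no_three : ∀ u w : V, isPt u → isPt (u + w) → isPt (u + w + w) → w = 0 := by decide +kernel

theorem isPt_pP : isPt pP := by decide +kernel

theorem span_AA : ∀ v : V, ∃ i j k l : ZMod 3,
    v = (i.val • ((1, 0), (0, 0)) + j.val • pP) + (k.val • rA + l.val • rB) := by decide +kernel

theorem line_point : ∀ v : V, (∀ k l : ZMod 3, v ≠ k.val • rA + l.val • rB) →
    ∃ ε k l : ZMod 3, isPt (ε.val • v + (k.val • rA + l.val • rB)) := by decide +kernel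

theorem AA_inj : ∀ k l k' l' : ZMod 3, k.val • rA + l.val • rB = k'.val • rA + l'.val • rB → k = k' ∧ l = l' := by
  decide +kernel

theorem diff_inj : ∀ a b c d : Fin 6, a ≠ b → E a - E b = E c - E d → a = c ∧ b = d := by decide +kernel

theorem four_pairs : ∀ a b c d : Fin 6, a ≠ b → c ≠ d → a ≠ c → a ≠ d → b ≠ c → b ≠ d →
    (E a - E b).1.2 ≠ 0 ∨ (E c - E d).1.2 ≠ 0 ∨
      ((E a - E b).2.1 ≠ 0 ∧ (E a - E b).2.2 = 0 ∧ (E c - E d).2.1 = 0 ∧ (E c - E d).2.2 ≠ 0) ∨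
      ((E c - E d).2.1 ≠ 0 ∧ (E c - E d).2.2 = 0 ∧ (E a - E b).2.1 = 0 ∧ (E a - E b).2.2 ≠ 0) := by
  decide +kernel

set_option synthInstance.maxSize 1000 in
theorem rest_pair : ∀ a b : Fin 6, a ≠ b → a ≠ 2 → a ≠ 3 → a ≠ 4 → a ≠ 5 → b ≠ 2 → b ≠ 3 → b ≠ 4 → b ≠ 5 →
    (a = 0 ∧ b = 1) ∨ (a = 1 ∧ b = 0) := by decide +kernel

theorem inverted_pair : ∀ a b : Fin 6, a ≠ b → Lt0 (E a - E b) = -(E a - E b) →
    (a = 0 ∧ b = 1) ∨ (a = 1 ∧ b = 0) := by decide +kernel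

set_option synthInstance.maxSize 1000 in
theorem rC_pairs : ∀ a b c d : Fin 6, a ≠ b → a ≠ c → a ≠ d → b ≠ c → b ≠ d → c ≠ d →
    2 ≤ a → 2 ≤ b → 2 ≤ c → 2 ≤ d → (E a - E c) + (E b - E d) = rC →
    (a = 2 ∧ b = 3 ∨ a = 3 ∧ b = 2) ∧ (c = 4 ∧ d = 5 ∨ c = 5 ∧ d = 4) := by decide +kernel

set_option synthInstance.maxSize 1000 in
theorem lines_B : ∀ v : V, Lt0 v = v → (∀ k : ZMod 3, v ≠ k.val • rC) → ∃ ε k : ZMod 3,
    (ε.val • v + k.val • rC = ((1, 0), (0, 0)) ∨ ε.val • v + k.val • rC = pQ ∨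
      ε.val • v + k.val • rC = rA ∨ ε.val • v + k.val • rC = E 2 - E 5) ∧ ε ≠ 0 := by decide +kernel

theorem isPt_pQ : isPt pQ ∧ Lt0 pQ = pQ ∧ rC.1.2 ≠ 0 := by decide +kernel

theorem rC_swap : rC = (E 2 - E 5) + (E 3 - E 4) := by decide +kernel

theorem rC_moved : ((E 4 - E 2) + (E 3 - E 5) : V).1.2 ≠ 0 := by decide +kernel

theorem rC_inj : ∀ k l : ZMod 3, k.val • rC = l.val • rC → k = l := by decide +kernel

theorem Lt0_fix : ∀ v : V, Lt0 v = v ↔ v.2.1 = 0 := by decide +kernel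

end Cfsg.Agent.U62Three.A.Crd
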