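import Cfsg.Agent.U62Three.A.Local
import Cfsg.Agent.U62Three.A.CoordsCent

/-!
# Elements of the centralisers of points and roots normalise the frame
-/

set_option autoImplicit false

open Subgroup

namespace Cfsg.Agent.U62Three.A

universe u

set_option synthInstance.maxSize 1000 in
theorem M2.commute_fix : ∀ A M : M2.Mat, M2.det A = 1 → M2.det M = 1 → M2.cube M = M2.one →
    ∀ v : ZMod 3 × ZMod 3, v ≠ 0 → M2.app A v = v → M2.app M v = v → M2.mul A M = M2.mul M A := by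
  decide +kernel

namespace Base

variable {G : Type u} [Group G] [Finite G] {z : G} {Q : Subgroup G} (S : Base z Q) (h : Hyp z Q)

include h in
theorem zJ : z ∈ S.Jg := (S.mem_Jg h).2 ⟨_, S.φ_z⟩

include h in
theorem yJ : S.y ∈ S.Jg := (S.mem_Jg h).2 ⟨_, S.φ_y⟩

include h in
theorem φJ (v : Crd.V) : S.φ v ∈ S.Jg := (S.mem_Jg h).2 ⟨v, rfl⟩

include h in
/-- An element of `C(z)` fixing the point modulo `Q` normalises the frame. -/
theorem norm_of_y {g : G} (hg : g ∈ centralizer ({z} : Set G)) (hy : g * S.y * g⁻¹ * S.y⁻¹ ∈ Q) :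
    g ∈ normalizer (S.Jg : Set G) := by
  obtain ⟨q, hq, hqy⟩ := coset_conj h S.hy (Tp_conj S.hy.mem g) hy
  set e := q * S.y * q⁻¹ * S.y⁻¹ with he
  have heQ : e ∈ Q := S.B.disp_Q h S.hy hq
  have hey : Commute S.y e := S.B.disp_commute h S.hy hq
  have hgy : g * S.y * g⁻¹ = e * S.y := by rw [← hqy, he]; group
  have hyJ : g * S.y * g⁻¹ ∈ S.Jg := by
    rw [hgy]; exact mul_mem (S.mem_J_of_Q h heQ hey.symm) (S.yJ h)
  have hd : ∀ i, g * S.d i * g⁻¹ ∈ S.Jg := fun i => by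
    have hx := conj_mem h hg (S.d_Q i)
    set x := g * S.d i * g⁻¹ with hxd
    have hc : Commute (e * S.y) x := by
      rw [← hgy]; exact (S.d_comm_y i).map (MulAut.conj g).toMonoidHom
    refine S.mem_J_of_Q h hx (Commute.symm (fix_commute h S.hy (h.le hx) ?_))
    have h1 : S.y * x * S.y⁻¹ = e⁻¹ * x * e := by
      calc S.y * x * S.y⁻¹ = e⁻¹ * ((e * S.y) * x) * S.y⁻¹ := by group
        _ = e⁻¹ * (x * (e * S.y)) * S.y⁻¹ := by rw [hc.eq]
        _ = _ := by group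
    rw [h1]
    have := comm_mem h (inv_mem heQ) hx
    rwa [inv_inv] at this
  have hz : g * z * g⁻¹ = z := conj_zpow hg (mem_zpowers z)
  refine S.norm_of_maps h fun x hx => ?_
  obtain ⟨v, rfl⟩ := (S.mem_Jg h).1 hx
  rw [φ, show g * (zp z v.1.1 * zp S.y v.1.2 * (zp (S.d 0) v.2.1 * zp (S.d 1) v.2.2)) * g⁻¹ =
    (g * zp z v.1.1 * g⁻¹) * (g * zp S.y v.1.2 * g⁻¹) *
      ((g * zp (S.d 0) v.2.1 * g⁻¹) * (g * zp (S.d 1) v.2.2 * g⁻¹)) by group]
  simp only [zp, ← conj_pow, hz]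
  exact mul_mem (mul_mem (pow_mem (S.zJ h) _) (pow_mem hyJ _)) (mul_mem (pow_mem (hd 0) _) (pow_mem (hd 1) _))

include h in
/-- An element of `C(z)` commuting with an element of the frame outside `Q` normalises the frame. -/
theorem norm_of_out {g : G} (hg : g ∈ centralizer ({z} : Set G)) {v : Crd.V} (hv : v.1.2 ≠ 0)
    (hc : Commute g (S.φ v)) : g ∈ normalizer (S.Jg : Set G) := by
  refine S.norm_of_y h hg ?_
  set w := S.φ ((v.1.1, 0), v.2) with hw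
  have hwQ : w ∈ Q := (S.φ_Q h).2 rfl
  have e : S.φ v = w * zp S.y v.1.2 := by
    have h1 : S.φ ((0, v.1.2), (0, 0)) = zp S.y v.1.2 := by simp [φ, zp_zero]
    rw [← h1, hw, ← S.φ_add h]
    congr 1
    simp [Prod.mk_zero_zero]
  have h2 : g * zp S.y v.1.2 * g⁻¹ * (zp S.y v.1.2)⁻¹ ∈ Q := by
    have h3 : g * zp S.y v.1.2 * g⁻¹ = (g * w * g⁻¹)⁻¹ * (w * zp S.y v.1.2) := by
      calc g * zp S.y v.1.2 * g⁻¹ = (g * w * g⁻¹)⁻¹ * (g * (w * zp S.y v.1.2) * g⁻¹) := by group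
        _ = _ := by rw [← e, hc.eq, mul_inv_cancel_right]
    rw [h3, show (g * w * g⁻¹)⁻¹ * (w * zp S.y v.1.2) * (zp S.y v.1.2)⁻¹ = (g * w * g⁻¹)⁻¹ * w by group]
    exact mul_mem (inv_mem (conj_mem h hg hwQ)) hwQ
  have hk : ∀ k : ZMod 3, k ≠ 0 → k.val = 1 ∨ k.val = 2 := by decide
  rcases hk _ hv with k1 | k1
  · simpa [zp, k1] using h2
  · simp only [zp, k1] at h2
    set u := g * S.y ^ 2 * g⁻¹ * (S.y ^ 2)⁻¹
    have h4 : S.y ^ 2 * S.y ^ 2 = S.y := by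
      rw [← pow_add, show 2 + 2 = 3 + 1 from rfl, pow_succ, S.hy.cube h, one_mul]
    have e2 : g * S.y * g⁻¹ * S.y⁻¹ = u * (S.y ^ 2 * u * (S.y ^ 2)⁻¹) := by
      calc g * S.y * g⁻¹ * S.y⁻¹ = g * (S.y ^ 2 * S.y ^ 2) * g⁻¹ * (S.y ^ 2 * S.y ^ 2)⁻¹ := by rw [h4]
        _ = _ := by simp only [u]; group
    rw [e2]
    exact mul_mem h2 (conj_mem h (pow_mem S.hy.cen 2) h2)

include h in
/-- An element of `C(z)` commuting with both axes normalises the frame. -/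
theorem norm_of_axes {g : G} (hg : g ∈ centralizer ({z} : Set G)) (hd : ∀ i, Commute g (S.d i)) :
    g ∈ normalizer (S.Jg : Set G) := by
  refine S.norm_of_y h hg ?_
  obtain ⟨hH, -⟩ := S.fix_d_Hs h hg hd
  have hyH := S.B.Pt_Hs h S.hy
  refine S.B.mem_Q_of_mat h (mul_mem (mul_mem (mul_mem hH hyH) (inv_mem hH)) (inv_mem hyH)) fun i => ?_
  have hc : S.B.mat i (g * S.y) = S.B.mat i (S.y * g) := by
    rw [S.B.mat_mul h hH hyH, S.B.mat_mul h hyH hH]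
    refine M2.commute_fix _ _ (S.B.mat_det h hH i) (S.B.mat_det h hyH i)
      (S.B.mat_cube h hyH (by rw [S.hy.cube h]; exact one_mem _) i) (S.B.vec i (S.d i)) (S.vec_d h i) ?_ ?_
    · rw [← S.B.vec_conj h hH i (S.d_Q i), (hd i).eq, mul_inv_cancel_right]
    · rw [← S.B.vec_conj h hyH i (S.d_Q i), (S.d_comm_y i).eq, mul_inv_cancel_right]
  rw [S.B.mat_mul h (mul_mem (mul_mem hH hyH) (inv_mem hH)) (inv_mem hyH),
    S.B.mat_mul h (mul_mem hH hyH) (inv_mem hH), hc, ← S.B.mat_mul h (mul_mem hyH hH) (inv_mem hH),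
    mul_inv_cancel_right, ← S.B.mat_mul h hyH (inv_mem hyH), mul_inv_cancel, S.B.mat_one h]

include h in
/-- The commuting with two axis elements. -/
theorem axes_of_pair {g : G} (hg : g ∈ centralizer ({z} : Set G)) {u w : Crd.V} (hu : u.1.2 = 0) (hw : w.1.2 = 0)
    (h1 : u.2.1 ≠ 0) (h2 : u.2.2 = 0) (h3 : w.2.1 = 0) (h4 : w.2.2 ≠ 0) (cu : Commute g (S.φ u))
    (cw : Commute g (S.φ w)) : ∀ i, Commute g (S.d i) := by
  have hk : ∀ k : ZMod 3, k ≠ 0 → k.val = 1 ∨ k.val = 2 := by decide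
  have hp : ∀ (x : G), x ^ 3 = 1 → ∀ k : ZMod 3, k ≠ 0 → Commute g (zp x k) → Commute g x := by
    intro x hx k hk0 hc
    rcases hk k hk0 with e | e
    · simpa [zp, e] using hc
    · have := hc.pow_right 2
      rwa [zp, e, ← pow_mul, show 2 * 2 = 3 + 1 from rfl, pow_succ, hx, one_mul] at this
  have hz : ∀ a : ZMod 3, Commute g (zp z a)⁻¹ := fun a => (comm_zpow hg (zp_mem a)).inv_right
  intro i
  rcases Bas.fin_cases_two i with rfl | rfl
  · refine hp _ (S.B.cube h (S.d_Q 0)) _ h1 ?_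
    have := (hz u.1.1).mul_right cu
    simpa [φ, hu, h2, zp_zero] using this
  · refine hp _ (S.B.cube h (S.d_Q 1)) _ h4 ?_
    have := (hz w.1.1).mul_right cw
    simpa [φ, hw, h3, zp_zero] using this

include h in
/-- The centraliser of a point and of two orthogonal roots normalises the frame. -/
theorem loc {g : G} {v : Crd.V} (hv : S.φ v ∈ Tp z) (hgv : Commute g (S.φ v)) {a b c d : Fin 6} (hab : a ≠ b)
    (hcd : c ≠ d) (hac : a ≠ c) (had : a ≠ d) (hbc : b ≠ c) (hbd : b ≠ d) (h1 : Commute g (S.j a b))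
    (h2 : Commute g (S.j c d)) : g ∈ normalizer (S.Jg : Set G) := by
  suffices hh : ∀ k : G, k * z * k⁻¹ ∈ S.Jg → Commute g (k * z * k⁻¹) → g ∈ normalizer (S.Jg : Set G) by
    obtain ⟨k, e | e⟩ := hv
    · exact hh k (e ▸ S.φJ h v) (e ▸ hgv)
    · have e' : k * z * k⁻¹ = (S.φ v)⁻¹ := by rw [e]; group
      exact hh k (e' ▸ inv_mem (S.φJ h v)) (e' ▸ hgv.inv_right)
  intro k hk hgk
  obtain ⟨σ, hσ⟩ := S.points h hk
  obtain ⟨n, hn, hnσ⟩ := S.real_all h σ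
  have hnz : n * z * n⁻¹ = k * z * k⁻¹ := by
    rw [hσ, ← hnσ, ← hnσ]
    calc n * z * n⁻¹ = n * (S.j 0 1 * S.j 2 1) * n⁻¹ := by rw [← S.hz h]
      _ = _ := by group
  set g' := n⁻¹ * g * n with hg'
  have hback : g' ∈ normalizer (S.Jg : Set G) → g ∈ normalizer (S.Jg : Set G) := fun hh => by
    have := mul_mem (mul_mem hn hh) (inv_mem hn)
    rwa [hg', show n * (n⁻¹ * g * n) * n⁻¹ = g by group] at this
  refine hback ?_
  have hcj : ∀ {x x' : G}, Commute g x → n * x' * n⁻¹ = x → Commute g' x' := fun {x x'} hx e => by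
    show n⁻¹ * g * n * x' = x' * (n⁻¹ * g * n)
    calc n⁻¹ * g * n * x' = n⁻¹ * (g * (n * x' * n⁻¹)) * n := by group
      _ = n⁻¹ * ((n * x' * n⁻¹) * g) * n := by rw [e, hx.eq]
      _ = _ := by group
  have hgz : g' ∈ centralizer ({z} : Set G) := mem_centralizer_singleton_iff.2 (hcj hgk hnz).eq
  have hpair : ∀ x w : Fin 6, n * S.j (σ.symm x) (σ.symm w) * n⁻¹ = S.j x w := fun x w => by
    rw [hnσ, σ.apply_symm_apply, σ.apply_symm_apply]
  have c1 := hcj h1 (hpair a b)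
  have c2 := hcj h2 (hpair c d)
  have hne : ∀ {x w : Fin 6}, x ≠ w → σ.symm x ≠ σ.symm w := fun hxw e => hxw (σ.symm.injective e)
  by_cases u1 : (Crd.E (σ.symm a) - Crd.E (σ.symm b)).1.2 ≠ 0
  · exact S.norm_of_out h hgz u1 c1
  by_cases u2 : (Crd.E (σ.symm c) - Crd.E (σ.symm d)).1.2 ≠ 0
  · exact S.norm_of_out h hgz u2 c2
  push Not at u1 u2
  refine S.norm_of_axes h hgz ?_
  rcases Crd.four_pairs _ _ _ _ (hne hab) (hne hcd) (hne hac) (hne had) (hne hbc) (hne hbd) with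
    e | e | ⟨e1, e2, e3, e4⟩ | ⟨e1, e2, e3, e4⟩
  · exact absurd u1 e
  · exact absurd u2 e
  · exact S.axes_of_pair h hgz u1 u2 e1 e2 e3 e4 c1 c2
  · exact S.axes_of_pair h hgz u2 u1 e1 e2 e3 e4 c2 c1

include h in
theorem φ_pt {v : Crd.V} (hv : Crd.isPt v) : S.φ v ∈ Tp z := by
  rcases hv with e | e | e | e
  · rw [e, S.φ_z]; exact self_mem_Tp z
  · rw [e, show (((2, 0), (0, 0)) : Crd.V) = -((1, 0), (0, 0)) by decide, S.φ_neg h, S.φ_z]
    exact Tp_inv (self_mem_Tp z)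
  · rw [e]; exact (S.pnt_pt h _).mem
  · rw [e, S.φ_neg h]; exact Tp_inv (S.pnt_pt h _).mem

include h in
/-- Points in the centraliser of the frame lie in the frame. -/
theorem pt_CJ {p : G} (hp : p ∈ Tp z) (hc : p ∈ S.CJ) : p ∈ S.Jg := by
  have hz : p ∈ centralizer ({z} : Set G) := S.B.Hs_le (S.CJ_info h hc).1
  by_cases hQ : p ∈ Q
  · obtain ⟨k, hk⟩ := mem_zpowers_iff.1 (weak_Tp h hp hQ)
    rw [← hk]; exact zpow_mem (S.zJ h) k
  · exact S.CJ_eq h hc (same h ⟨hp, hz, hQ⟩ S.B)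

include h in
/-- A point moved by a central translation is fixed. -/
theorem fix_pt {g : G} {v : Crd.V} (hv : S.φ v ∈ Tp z) {m : G} (hm : m ∈ S.CJ) (hgm : Commute g m)
    (e : g * S.φ v * g⁻¹ = S.φ v * m) : Commute g (S.φ v) := by
  have h1 := S.pt_CJ h (e ▸ Tp_conj hv g) (mul_mem (S.Jg_le_CJ h (S.φJ h v)) hm)
  have hmJ : m ∈ S.Jg := by simpa using mul_mem (inv_mem (S.φJ h v)) h1
  obtain ⟨w, rfl⟩ := (S.mem_Jg h).1 hmJ
  have e1 : g * S.φ v * g⁻¹ = S.φ (v + w) := by rw [e, S.φ_add h]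
  have e2 : g * S.φ (v + w) * g⁻¹ = S.φ (v + w + w) := by
    rw [S.φ_add h, show g * (S.φ v * S.φ w) * g⁻¹ = (g * S.φ v * g⁻¹) * (g * S.φ w * g⁻¹) by group, e1, hgm.eq,
      mul_inv_cancel_right, ← S.φ_add h]
  have hw0 : w = 0 := Crd.no_three v w (Crd.isPt_of (S.pts h hv))
    (Crd.isPt_of (S.pts h (e1 ▸ Tp_conj hv g)))
    (Crd.isPt_of (S.pts h (e2 ▸ Tp_conj (e1 ▸ Tp_conj hv g) g)))
  subst hw0
  rw [S.φ_zero, mul_one] at e
  exact mul_inv_eq_iff_eq_mul.1 e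

include h in
/-- An element mapping the two roots and two further points into the frame normalises it. -/
theorem norm_of_four {g : G} (hA : g * S.φ Crd.rA * g⁻¹ ∈ S.Jg) (hB : g * S.φ Crd.rB * g⁻¹ ∈ S.Jg)
    (hz : g * z * g⁻¹ ∈ S.Jg) (hP : g * S.φ Crd.pP * g⁻¹ ∈ S.Jg) : g ∈ normalizer (S.Jg : Set G) := by
  refine S.norm_of_maps h fun x hx => ?_
  obtain ⟨v, rfl⟩ := (S.mem_Jg h).1 hx
  have hn : ∀ (m : ℕ) (w : Crd.V), S.φ (m • w) = S.φ w ^ m := fun m w => by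
    induction m with
    | zero => rw [zero_smul, S.φ_zero, pow_zero]
    | succ m ih => rw [succ_nsmul, S.φ_add h, ih, pow_succ]
  obtain ⟨i, j, k, l, rfl⟩ := Crd.span_AA v
  simp only [S.φ_add h, hn, S.φ_z]
  rw [show g * (z ^ i.val * S.φ Crd.pP ^ j.val * (S.φ Crd.rA ^ k.val * S.φ Crd.rB ^ l.val)) * g⁻¹ =
    (g * z ^ i.val * g⁻¹) * (g * S.φ Crd.pP ^ j.val * g⁻¹) *
      ((g * S.φ Crd.rA ^ k.val * g⁻¹) * (g * S.φ Crd.rB ^ l.val * g⁻¹)) by group]
  simp only [← conj_pow]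
  exact mul_mem (mul_mem (pow_mem hz _) (pow_mem hP _)) (mul_mem (pow_mem hA _) (pow_mem hB _))

end Base

end Cfsg.Agent.U62Three.A
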