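import Mathlib.Data.ZMod.Basic
import Mathlib.GroupTheory.Perm.Basic
import Mathlib.Data.Fin.VecNotation
import Mathlib.Data.Fintype.Perm

/-!
# Coordinates of the six weight-one vectors
-/

set_option autoImplicit false

namespace Cfsg.Agent.U62Three.A.Crd

/-- Four coordinates: at `z`, at the point and at the two axes. -/
abbrev V := (ZMod 3 × ZMod 3) × (ZMod 3 × ZMod 3)

/-- The six weight-one vectors, up to a common translation. -/
def E : Fin 6 → V :=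
  ![((0, 0), (0, 0)), ((0, 0), (2, 0)), ((1, 0), (1, 0)), ((0, 1), (1, 0)), ((1, 1), (1, 2)), ((1, 1), (1, 1))]

/-- The point in a given class. -/
def pnt (w : ZMod 3 × ZMod 3) : V := ((w.1 * w.1 + w.2 * w.2, 1), w)

/-- A linear map by the images of the four basis vectors. -/
def lin (a b c d : V) (v : V) : V :=
  ((v.1.1 * a.1.1 + v.1.2 * b.1.1 + v.2.1 * c.1.1 + v.2.2 * d.1.1,
    v.1.1 * a.1.2 + v.1.2 * b.1.2 + v.2.1 * c.1.2 + v.2.2 * d.1.2),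
   (v.1.1 * a.2.1 + v.1.2 * b.2.1 + v.2.1 * c.2.1 + v.2.2 * d.2.1,
    v.1.1 * a.2.2 + v.1.2 * b.2.2 + v.2.1 * c.2.2 + v.2.2 * d.2.2))

/-- The first involution. -/
def Lt0 : V → V := lin ((1, 0), (0, 0)) ((0, 1), (0, 0)) ((0, 0), (2, 0)) ((0, 0), (0, 1))
/-- The second involution. -/
def Lt1 : V → V := lin ((1, 0), (0, 0)) ((0, 1), (0, 0)) ((0, 0), (1, 0)) ((0, 0), (0, 2))
/-- The translation in the first block. -/
def Lq0 : V → V := lin ((1, 0), (0, 0)) ((1, 1), (1, 0)) ((2, 0), (1, 0)) ((0, 0), (0, 1))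
/-- The translation in the second block. -/
def Lq1 : V → V := lin ((1, 0), (0, 0)) ((1, 1), (0, 1)) ((0, 0), (1, 0)) ((2, 0), (0, 1))
/-- The translation seen from the point. -/
def Ln : V → V := lin ((1, 1), (1, 0)) ((0, 1), (0, 0)) ((0, 2), (1, 0)) ((0, 0), (0, 1))

/-- The permutations of these five. -/
def pt0 : Equiv.Perm (Fin 6) := Equiv.swap 0 1
/-- See `pt0`. -/
def pt1 : Equiv.Perm (Fin 6) := Equiv.swap 4 5
/-- See `pt0`. -/
def pq0 : Equiv.Perm (Fin 6) := Equiv.swap 0 1 * Equiv.swap 1 2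
/-- See `pt0`. -/
def pq1 : Equiv.Perm (Fin 6) := Equiv.swap 3 5 * Equiv.swap 5 4
/-- See `pt0`. -/
def pn : Equiv.Perm (Fin 6) := Equiv.swap 0 1 * Equiv.swap 1 3

theorem Lt0_E : ∀ a b, Lt0 (E a - E b) = E (pt0 a) - E (pt0 b) := by decide +kernel
theorem Lt1_E : ∀ a b, Lt1 (E a - E b) = E (pt1 a) - E (pt1 b) := by decide +kernel
theorem Lq0_E : ∀ a b, Lq0 (E a - E b) = E (pq0 a) - E (pq0 b) := by decide +kernel
theorem Lq1_E : ∀ a b, Lq1 (E a - E b) = E (pq1 a) - E (pq1 b) := by decide +kernel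
theorem Ln_E : ∀ a b, Ln (E a - E b) = E (pn a) - E (pn b) := by decide +kernel

theorem swaps_gen (S : Submonoid (Equiv.Perm (Fin 6))) (h0 : pt0 ∈ S) (h1 : pt1 ∈ S) (h2 : pq0 ∈ S)
    (h3 : pq1 ∈ S) (h4 : pn ∈ S) : ∀ a : Fin 5, Equiv.swap a.castSucc a.succ ∈ S := by
  have e01 : Equiv.swap (0 : Fin 6) 1 = pt0 := rfl
  have e12 : Equiv.swap (1 : Fin 6) 2 = pq0 * pt0 * (pq0 * pq0) := by decide +kernel
  have e13 : Equiv.swap (1 : Fin 6) 3 = pn * pt0 * (pn * pn) := by decide +kernel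
  have e34 : Equiv.swap (3 : Fin 6) 4 = pq1 * pt1 * (pq1 * pq1) := by decide +kernel
  have e23 : Equiv.swap (2 : Fin 6) 3 =
      Equiv.swap 1 2 * Equiv.swap 1 3 * Equiv.swap 1 2 := by decide +kernel
  have m12 : Equiv.swap (1 : Fin 6) 2 ∈ S := e12 ▸ S.mul_mem (S.mul_mem h2 h0) (S.mul_mem h2 h2)
  have m13 : Equiv.swap (1 : Fin 6) 3 ∈ S := e13 ▸ S.mul_mem (S.mul_mem h4 h0) (S.mul_mem h4 h4)
  intro a
  fin_cases a
  · exact e01 ▸ h0
  · exact m12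
  · exact e23 ▸ S.mul_mem (S.mul_mem m12 m13) m12
  · exact e34 ▸ S.mul_mem (S.mul_mem h3 h1) (S.mul_mem h3 h3)
  · exact h1

/-- A permutation with three given values at `0, 1, 2`. -/
def perm3 (a b c : Fin 6) : Equiv.Perm (Fin 6) :=
  let s₁ := Equiv.swap 0 a
  let s₂ := s₁ * Equiv.swap 1 (s₁ b)
  s₂ * Equiv.swap 2 (s₂.symm c)

theorem perm3_spec : ∀ a b c : Fin 6, a ≠ b → a ≠ c → b ≠ c →
    perm3 a b c 0 = a ∧ perm3 a b c 1 = b ∧ perm3 a b c 2 = c := by decide +kernel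

theorem pnt_triple : ∀ w, ∃ a b c : Fin 6, a ≠ b ∧ a ≠ c ∧ b ≠ c ∧ pnt w = (E a - E b) + (E c - E b) := by
  decide +kernel

theorem pnt_triple_neg : ∀ w, ∃ a b c : Fin 6, a ≠ b ∧ a ≠ c ∧ b ≠ c ∧ -pnt w = (E a - E b) + (E c - E b) := by
  decide +kernel

theorem z_triple : ((1, 0), (0, 0)) = (E 0 - E 1) + (E 2 - E 1) := by decide +kernel

theorem zi_triple : ((2, 0), (0, 0)) = (E 3 - E 4) + (E 5 - E 4) := by decide +kernel

theorem span : ∀ v : V, v =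
    (v.1.1.val • ((E 0 - E 1) + (E 2 - E 1)) + v.1.2.val • ((E 0 - E 3) + (E 1 - E 3))) +
      (v.2.1.val • (E 0 - E 1) + v.2.2.val • (E 4 - E 5)) := by decide +kernel

theorem q_word : ∀ w : ZMod 3 × ZMod 3,
    Lq0^[w.1.val] (Lq1^[w.2.val] ((0, 1), (0, 0))) = pnt w := by decide +kernel

end Cfsg.Agent.U62Three.A.Crd
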