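import Cfsg.Agent.U62Three.A.Coords

/-!
# The maps of the six weight-one vectors fixing two points
-/

set_option autoImplicit false

namespace Cfsg.Agent.U62Three.A.Crd

/-- The points and their opposites, as a test. -/
def isPt (v : V) : Prop := v = ((1, 0), (0, 0)) ∨ v = ((2, 0), (0, 0)) ∨ v = pnt v.2 ∨ v = -pnt (-v.2)

instance (v : V) : Decidable (isPt v) := by unfold isPt; infer_instance

theorem isPt_of {v : V} (h : v = ((1, 0), (0, 0)) ∨ v = ((2, 0), (0, 0)) ∨ ∃ w, v = pnt w ∨ v = -pnt w) :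
    isPt v := by
  rcases h with h | h | ⟨w, h | h⟩
  · exact Or.inl h
  · exact Or.inr (Or.inl h)
  · subst h; exact Or.inr (Or.inr (Or.inl rfl))
  · subst h; refine Or.inr (Or.inr (Or.inr ?_))
    rw [show -(-pnt w).2 = w from neg_neg w]

/-- An element on one of the two axes. -/
def axis (a c : ZMod 3) (sw : Bool) : V := if sw then ((a, 0), (0, c)) else ((a, 0), (c, 0))

/-- A map fixing `z` and the line of the point. -/
def fixing (ε a₀ c₀ a₁ c₁ : ZMod 3) (sw : Bool) : V → V :=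
  lin ((1, 0), (0, 0)) ((0, ε), (0, 0)) (axis a₀ c₀ sw) (axis a₁ c₁ (!sw))

/-- Its permutation. -/
def fixPerm (c₀ c₁ : ZMod 3) (sw : Bool) : Equiv.Perm (Fin 6) :=
  if sw then (if c₀ = 1 then Equiv.swap 4 5 else 1) * (if c₁ = 1 then Equiv.swap 0 1 else 1) *
    (Equiv.swap 0 4 * Equiv.swap 1 5 * Equiv.swap 2 3)
  else (if c₀ = 2 then Equiv.swap 0 1 else 1) * (if c₁ = 2 then Equiv.swap 4 5 else 1)

theorem fixing_cases : ∀ ε a₀ c₀ a₁ c₁ : ZMod 3, ∀ sw : Bool, ε ≠ 0 → c₀ ≠ 0 → c₁ ≠ 0 →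
    isPt (fixing ε a₀ c₀ a₁ c₁ sw (pnt (1, 0))) → isPt (fixing ε a₀ c₀ a₁ c₁ sw (pnt (2, 0))) →
    isPt (fixing ε a₀ c₀ a₁ c₁ sw (pnt (0, 1))) → isPt (fixing ε a₀ c₀ a₁ c₁ sw (pnt (0, 2))) →
    ε = 1 ∧ a₀ = 0 ∧ a₁ = 0 := by decide +kernel

theorem fixing_E : ∀ c₀ c₁ : ZMod 3, c₀ ≠ 0 → c₁ ≠ 0 → ∀ a b,
    fixing 1 0 c₀ 0 c₁ false (E a - E b) = E (fixPerm c₀ c₁ false a) - E (fixPerm c₀ c₁ false b) ∧
    fixing 1 0 c₀ 0 c₁ true (E a - E b) = E (fixPerm c₀ c₁ true b) - E (fixPerm c₀ c₁ true a) := by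
  decide +kernel

theorem span_zero : ∀ v : V, v.1.2 = 0 → v = v.1.1.val • ((E 0 - E 1) + -(E 1 - E 2)) +
    (v.2.1.val • (E 0 - E 1) + v.2.2.val • (E 4 - E 5)) := by decide +kernel

theorem three_cases : ∀ c : ZMod 3, c = 0 ∨ c + c = 1 ∨ c = 1 := by decide

theorem neg_eq_two : ∀ v : V, -v = (2 : ZMod 3).val • v := by decide +kernel

theorem fin_two_not : ∀ {k l : Fin 2}, k ≠ l → decide (k = 1) = !decide (l = 1) := by decide

theorem hyperplane_point : ∀ k₁ k₂ k₃ : ZMod 3, ∃ w : ZMod 3 × ZMod 3,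
    w.1 * w.1 + w.2 * w.2 = k₁ + w.1 * k₂ + w.2 * k₃ := by decide +kernel

end Cfsg.Agent.U62Three.A.Crd
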