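import Cfsg.Agent.U62Three.A.Coords

/-!
# The cocycle of a weight-one element
-/

set_option autoImplicit false

namespace Cfsg.Agent.U62Three.A.Crd

theorem no_line : ∀ c : V, (Lt0 c = c) → (Lt1 c = c) → (Lq0 c = c) → (Lq1 c = c) → Ln c = c → c = 0 := by
  decide +kernel

theorem t0_split : ∀ u : V, Lt0 u + u = 0 → Lt0 (-u) + u = -u := by decide +kernel

theorem t1_split : ∀ u : V, Lt1 u + u = 0 → Lt1 (-u) + u = -u := by decide +kernel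

theorem Lt0_neg : ∀ u : V, Lt0 u = u → Lt0 (-u) = -u := by decide +kernel

theorem q1_zero : ∀ u : V, u = ((u.1.1, 0), (0, 0)) → Lt1 u + Lq1 u = 0 → u = 0 := by decide +kernel

theorem q1_zero' : ∀ u : V, u = ((u.1.1, 0), (0, 0)) → u + Lq1 (Lt1 u) = 0 → u = 0 := by decide +kernel

theorem q0_value : ∀ u : V, u = ((u.1.1, 0), (2, 0)) → u + Lq0 (Lt0 u) = 0 → u = E 0 - E 2 := by decide +kernel

theorem n_split : ∀ u : V, u + Ln u + Ln (Ln u) = 0 → Lt1 u = u → u + Ln (Lt0 u) = 0 →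
    ∃ k : ZMod 3, u + Ln ((k, 0), (0, 0)) = ((k, 0), (0, 0)) := by decide +kernel

theorem z_fixed : ∀ k : ZMod 3, Lt0 ((k, 0), (0, 0)) = ((k, 0), (0, 0)) ∧ Lt1 ((k, 0), (0, 0)) = ((k, 0), (0, 0)) ∧
    Lq0 ((k, 0), (0, 0)) = ((k, 0), (0, 0)) ∧ Lq1 ((k, 0), (0, 0)) = ((k, 0), (0, 0)) := by decide +kernel

theorem rel_t1 : ∀ v : V, Lt1 (Ln (Lt1 v)) = Ln v := by decide +kernel

theorem rel_t0' : ∀ v : V, Ln (Lt0 (Ln (Lt0 v))) = v := by decide +kernel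

theorem rel_t0 : ∀ v : V, Lt0 (Ln (Lt0 (Ln v))) = v := by decide +kernel

theorem E_shift : ∀ a : Fin 6, Lt0 (E a - E 2) = E (pt0 a) - E 2 ∧ Lt1 (E a - E 2) = E (pt1 a) - E 2 ∧
    (E 0 - E 2) + Lq0 (E a - E 2) = E (pq0 a) - E 2 ∧ Lq1 (E a - E 2) = E (pq1 a) - E 2 ∧
    Ln (E a - E 2) = E (pn a) - E 2 := by decide +kernel

set_option synthInstance.maxSize 1000 in
theorem scalar_fix : ∀ ε l : ZMod 3, ∀ u : V, Lt0 u = u → Lt1 u = u → Lq1 u = u → Ln u = u →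
    l.val • (E 0 - E 2) + Lq0 u = u + ε.val • (E 0 - E 2) → u = 0 ∧ l = ε := by decide +kernel

set_option synthInstance.maxSize 1000 in
theorem scalar_comm : ∀ ε : ZMod 3, ∀ v : V, Lt0 (ε.val • v) = ε.val • Lt0 v ∧ Lt1 (ε.val • v) = ε.val • Lt1 v ∧
    Lq0 (ε.val • v) = ε.val • Lq0 v ∧ Lq1 (ε.val • v) = ε.val • Lq1 v ∧ Ln (ε.val • v) = ε.val • Ln v := by
  decide +kernel

end Cfsg.Agent.U62Three.A.Crd
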