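import Cfsg.Agent.U62Three.A.Axes
import Mathlib.GroupTheory.Perm.Cycle.Type

/-!
# A point fixed by the two involutions
-/

set_option autoImplicit false

open Subgroup

namespace Cfsg.Agent.U62Three.A

universe u

variable {G : Type u} [Group G] [Finite G] {z : G} {Q : Subgroup G}

theorem exists_fixed (h : Hyp z Q) {y s : G} (hs2 : s * s = 1) {X : Subgroup G} (hX : X ≤ Q)
    (hsX : ∀ x ∈ X, s * x * s⁻¹ ∈ X) (hsy : ∃ x ∈ X, s * y * s⁻¹ = x * y * x⁻¹) :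
    ∃ x ∈ X, Commute s (x * y * x⁻¹) := by
  classical
  let O : Set G := Set.range fun x : ↥X => (x : G) * y * (x : G)⁻¹
  haveI : Fintype O := Fintype.ofFinite O
  obtain ⟨a, ha, e⟩ := hsy
  have hmaps : ∀ w ∈ O, s * w * s⁻¹ ∈ O := by
    rintro _ ⟨x, rfl⟩
    refine ⟨⟨s * x * s⁻¹ * a, mul_mem (hsX x x.2) ha⟩, ?_⟩
    show s * x * s⁻¹ * a * y * (s * x * s⁻¹ * a)⁻¹ = s * ((x : G) * y * (x : G)⁻¹) * s⁻¹
    rw [show s * x * s⁻¹ * a * y * (s * x * s⁻¹ * a)⁻¹ = s * x * s⁻¹ * (a * y * a⁻¹) * (s * x * s⁻¹)⁻¹ by group,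
      ← e]
    group
  let f : Function.End O := fun w => ⟨s * w * s⁻¹, hmaps w w.2⟩
  have hf : ∀ w, f (f w) = w := fun w => Subtype.ext (by
    show s * (s * (w : G) * s⁻¹) * s⁻¹ = w
    rw [show s * (s * (w : G) * s⁻¹) * s⁻¹ = (s * s) * w * (s * s)⁻¹ by group, hs2]; simp)
  let σ : Equiv.Perm O := ⟨f, f, hf, hf⟩
  have hodd : ¬ 2 ∣ Fintype.card O := by
    let C : Subgroup ↥X := (centralizer ({y} : Set G)).subgroupOf X
    have hcard : Nat.card O = C.index := by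
      rw [index_eq_card]
      refine (Nat.card_congr (Equiv.ofBijective
        (Quotient.lift (fun x : ↥X => (⟨(x : G) * y * (x : G)⁻¹, x, rfl⟩ : O)) ?_) ⟨?_, ?_⟩)).symm
      · intro p q hpq
        refine Subtype.ext ?_
        have h1 := mem_centralizer_singleton_iff.1 (mem_subgroupOf.1 (QuotientGroup.leftRel_apply.1 hpq))
        rw [Subgroup.coe_mul, Subgroup.coe_inv] at h1
        show (p : G) * y * (p : G)⁻¹ = (q : G) * y * (q : G)⁻¹
        calc (p : G) * y * (p : G)⁻¹ = (p : G) * (y * ((p : G)⁻¹ * q)) * (q : G)⁻¹ := by group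
          _ = (p : G) * (((p : G)⁻¹ * q) * y) * (q : G)⁻¹ := by rw [h1]
          _ = _ := by group
      · intro p q
        induction p using QuotientGroup.induction_on with
        | _ p =>
        induction q using QuotientGroup.induction_on with
        | _ q =>
        intro e1
        have e1' : (p : G) * y * (p : G)⁻¹ = (q : G) * y * (q : G)⁻¹ := congrArg Subtype.val e1
        rw [QuotientGroup.eq, mem_subgroupOf, mem_centralizer_singleton_iff, Subgroup.coe_mul, Subgroup.coe_inv]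
        calc (p : G)⁻¹ * q * y = (p : G)⁻¹ * ((q : G) * y * (q : G)⁻¹) * q := by group
          _ = (p : G)⁻¹ * ((p : G) * y * (p : G)⁻¹) * q := by rw [e1']
          _ = y * ((p : G)⁻¹ * q) := by group
      · rintro ⟨_, x, rfl⟩
        exact ⟨QuotientGroup.mk x, rfl⟩
    rw [← Nat.card_eq_fintype_card, hcard]
    intro h2
    have h4 : 2 ∣ 3 ^ 5 := (h2.trans (index_dvd_card C)).trans (h.card ▸ card_dvd_of_le hX)
    norm_num at h4
  obtain ⟨⟨_, x, rfl⟩, hw⟩ := Equiv.Perm.exists_fixed_point_of_prime (p := 2) (n := 1) hodd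
    (σ := σ) (Equiv.ext fun w => by rw [pow_one, pow_two]; exact hf w)
  refine ⟨x, x.2, ?_⟩
  exact mul_inv_eq_iff_eq_mul.1 (congrArg Subtype.val hw : s * ((x : G) * y * (x : G)⁻¹) * s⁻¹ = _)

theorem Pt.conj_Q (h : Hyp z Q) {y q : G} (hy : Pt z Q y) (hq : q ∈ Q) : Pt z Q (q * y * q⁻¹) :=
  ⟨Tp_conj hy.mem q, mul_mem (mul_mem (h.le hq) hy.cen) (inv_mem (h.le hq)), fun h1 => hy.out (by
    simpa [mul_assoc] using mul_mem (mul_mem (inv_mem hq) h1) hq)⟩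

namespace Bas

variable (B : Bas z Q)

theorem t_move (h : Hyp z Q) {y : G} (hy : Pt z Q y) (i : Fin 2) :
    ∃ q ∈ Q, B.t i * y * (B.t i)⁻¹ = q * y * q⁻¹ := by
  have htH : B.t i ∈ B.Hs := B.P_le_Hs h (B.t_P i)
  have hyH := B.Pt_Hs h hy
  obtain ⟨q, hq, e⟩ := coset_conj h hy (Tp_conj hy.mem (B.t i))
    (B.mem_Q_of_mat h (mul_mem (mul_mem (mul_mem htH hyH) (inv_mem htH)) (inv_mem hyH)) fun k => by
      rw [B.mat_mul h (mul_mem (mul_mem htH hyH) (inv_mem htH)) (inv_mem hyH),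
        B.mat_mul h (mul_mem htH hyH) (inv_mem htH), B.mat_mul h htH hyH,
        M2.sq_central _ (B.mat_det h htH k) (by rw [← B.mat_mul h htH htH, B.t_sq, B.mat_one h]) _
          (B.mat_det h hyH k),
        ← B.mat_mul h hyH htH, ← B.mat_mul h (mul_mem hyH htH) (inv_mem htH), mul_inv_cancel_right,
        ← B.mat_mul h hyH (inv_mem hyH), mul_inv_cancel, B.mat_one h])
  exact ⟨q, hq, e.symm⟩

/-- A point fixed by both involutions. -/
theorem exists_point (h : Hyp z Q) :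
    ∃ y, Pt z Q y ∧ B.cl 0 y = 1 ∧ (∀ i, Commute (B.t i) y) ∧ ∃ g, y = g * z * g⁻¹ ∨ y = g * z⁻¹ * g⁻¹ := by
  obtain ⟨g, hg1, hg2⟩ := h.moved
  have hp : Pt z Q (g * z * g⁻¹) := ⟨⟨g, Or.inl rfl⟩, hg1, hg2⟩
  obtain ⟨y, hy, hyc⟩ : ∃ y, Pt z Q y ∧ B.cl 0 y = 1 := by
    have hk : ∀ k : ZMod 3, k ≠ 0 → k = 1 ∨ -k = 1 := by decide
    rcases hk _ (two_block h hp B 0) with e | e
    · exact ⟨_, hp, e⟩
    · exact ⟨_, ⟨Tp_inv hp.mem, inv_mem hg1, fun h1 => hg2 (inv_mem_iff.1 h1)⟩,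
        by rw [B.cl_inv h (B.Pt_Hs h hp)]; exact e⟩
  have hconj : ∀ {p q : G}, Pt z Q p → q ∈ Q → B.cl 0 (q * p * q⁻¹) = B.cl 0 p := fun {p q} hp hq => by
    have hqH := B.Q_le_Hs h hq
    have hpH := B.Pt_Hs h hp
    rw [B.cl_mul h (mul_mem hqH hpH) (inv_mem hqH), B.cl_mul h hqH hpH, B.cl_inv h hqH, B.cl_Q h hq,
      zero_add, neg_zero, add_zero]
  obtain ⟨x, hx, hx0⟩ := exists_fixed h (y := y) (s := B.t 0) (B.t_sq 0) le_rfl
    (fun x hx => conj_mem h (B.toTwo.t_le 0) hx) (B.t_move h hy 0)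
  have hy1 := hy.conj_Q h hx
  set y₁ := x * y * x⁻¹ with hy₁
  -- the second involution moves it inside the centraliser of the first
  have h01 : Commute (B.t 0) (B.t 1) := B.t_cen 1 _ (B.t_P 0)
  obtain ⟨q, hq, hqe⟩ := B.t_move h hy1 1
  obtain ⟨a, ha, b, hb, rfl⟩ := B.blocks_split h hq 0
  have hb0 : Commute (B.t 0) b := by
    have := B.toTwo.t_fix hb
    rwa [Fin.rev_rev] at this
  have hpfix : Commute (B.t 0) (B.t 1 * y₁ * (B.t 1)⁻¹) := (h01.mul_right hx0).mul_right h01.inv_right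
  rw [hqe] at hpfix
  set p := b * y₁ * b⁻¹ with hp'
  have hb0p : Commute (B.t 0) p := (hb0.mul_right hx0).mul_right hb0.inv_right
  obtain ⟨c, hc, hca⟩ : ∃ c ∈ zpowers z, B.t 0 * a * (B.t 0)⁻¹ = c * a⁻¹ := ⟨_, B.t_inv h ha, by group⟩
  have haQ := B.toTwo.Qi_le 0 ha
  have hap : a⁻¹ * p * a = a * p * a⁻¹ := by
    have e1 : B.t 0 * (a * b * y₁ * (a * b)⁻¹) * (B.t 0)⁻¹ = a * b * y₁ * (a * b)⁻¹ := by
      rw [hpfix.eq, mul_inv_cancel_right]
    have hpH : p ∈ centralizer ({z} : Set G) :=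
      mul_mem (mul_mem (h.le (B.toTwo.Qi_le _ hb)) hy1.cen) (inv_mem (h.le (B.toTwo.Qi_le _ hb)))
    rw [show B.t 0 * (a * b * y₁ * (a * b)⁻¹) * (B.t 0)⁻¹ =
      (B.t 0 * a * (B.t 0)⁻¹) * (B.t 0 * p * (B.t 0)⁻¹) * (B.t 0 * a * (B.t 0)⁻¹)⁻¹ by rw [hp']; group,
      hb0p.eq, mul_inv_cancel_right, hca,
      show c * a⁻¹ * p * (c * a⁻¹)⁻¹ = c * (a⁻¹ * p * a) * c⁻¹ by group,
      (comm_zpow (mul_mem (mul_mem (inv_mem (h.le haQ)) hpH) (h.le haQ)) hc).symm.eq, mul_inv_cancel_right] at e1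
    rw [e1, hp']; group
  have hpa : Commute a p := by
    have h2 : a * a * p = p * (a * a) := by
      calc a * a * p = a * (a * p * a⁻¹) * a := by group
        _ = a * (a⁻¹ * p * a) * a := by rw [hap]
        _ = p * (a * a) := by group
    have h3 := B.cube h haQ
    have ha4 : a = a * a * (a * a) := by
      rw [show a * a * (a * a) = a ^ 3 * a by simp [pow_succ, mul_assoc], h3, one_mul]
    rw [ha4]
    exact Commute.mul_left h2 h2
  have hqe' : B.t 1 * y₁ * (B.t 1)⁻¹ = b * y₁ * b⁻¹ := by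
    rw [hqe, show a * b * y₁ * (a * b)⁻¹ = a * p * a⁻¹ by rw [hp']; group, hpa.eq, mul_inv_cancel_right]
  obtain ⟨w, hw, hw1⟩ := exists_fixed h (y := y₁) (s := B.t 1) (B.t_sq 1) (B.toTwo.Qi_le 1)
    (fun u hu => B.P_conj_Qi h (B.t_P 1) hu) ⟨b, hb, hqe'⟩
  have hwQ := B.toTwo.Qi_le 1 hw
  refine ⟨w * y₁ * w⁻¹, hy1.conj_Q h hwQ, by rw [hconj hy1 hwQ, hy₁, hconj hy hx, hyc], fun i => ?_,
    (hy1.conj_Q h hwQ).mem⟩
  rcases fin_cases_two i with rfl | rfl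
  · have hw0 : Commute (B.t 0) w := by
      have := B.toTwo.t_fix (i := 1) hw
      exact this
    exact (hw0.mul_right hx0).mul_right hw0.inv_right
  · exact hw1

end Bas

end Cfsg.Agent.U62Three.A
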