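import Cfsg.Agent.U62Three.A.Quat
import Mathlib.Data.ZMod.Basic

/-!
# The commutator form on the blocks

Commutators in `Q` are powers of `z`; their logarithm is an alternating form, and it gives coordinates on `Q`
modulo the centre, two for each block.
-/

set_option autoImplicit false

open Subgroup

namespace Cfsg.Agent.U62Three.A

universe u

variable {G : Type u} [Group G] {z : G} {Q : Subgroup G}

/-- The powers of `z` with exponents modulo three. -/
def zp (z : G) (k : ZMod 3) : G := z ^ k.val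

open Classical in
/-- The exponent of a power of `z`. -/
noncomputable def lg (z x : G) : ZMod 3 := if x = z then 1 else if x = z⁻¹ then 2 else 0

theorem zp_mem (k : ZMod 3) : zp z k ∈ zpowers z := pow_mem (mem_zpowers z) _

variable (h : Hyp z Q)

include h in
theorem zp_add (k l : ZMod 3) : zp z (k + l) = zp z k * zp z l := by
  rw [zp, zp, zp, ← pow_add, ZMod.val_add, ← pow_mod_orderOf (n := k.val + l.val), h.oz]

theorem zp_zero : zp z 0 = 1 := by simp [zp]

include h in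
theorem zp_lg {x : G} (hx : x ∈ zpowers z) : zp z (lg z x) = x := by
  classical
  unfold lg zp
  split_ifs with h1 h2
  · simp [h1, ZMod.val_one]
  · rw [h2]
    exact eq_inv_of_mul_eq_one_left (by rw [← pow_succ]; exact z_cube h)
  · rcases zc h hx with e | e | e
    · rw [e]; exact pow_zero z
    · exact absurd e h1
    · exact absurd e h2

include h in
theorem zp_inj {k l : ZMod 3} (e : zp z k = zp z l) : k = l := by
  have hk := ZMod.val_lt k
  have hl := ZMod.val_lt l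
  exact ZMod.val_injective 3 (pow_injOn_Iio_orderOf (Set.mem_Iio.2 (by rw [h.oz]; exact hk))
    (Set.mem_Iio.2 (by rw [h.oz]; exact hl)) e)

include h in
theorem lg_zp (k : ZMod 3) : lg z (zp z k) = k := zp_inj h (zp_lg h (zp_mem k))

include h in
theorem lg_mul {x y : G} (hx : x ∈ zpowers z) (hy : y ∈ zpowers z) : lg z (x * y) = lg z x + lg z y :=
  zp_inj h (by rw [zp_lg h (mul_mem hx hy), zp_add h, zp_lg h hx, zp_lg h hy])

include h in
theorem lg_one : lg z (1 : G) = 0 := zp_inj h (by rw [zp_lg h (one_mem _), zp_zero])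

include h in
theorem lg_eq_zero {x : G} (hx : x ∈ zpowers z) (e : lg z x = 0) : x = 1 := by
  rw [← zp_lg h hx, e, zp_zero]

include h in
theorem lg_inv {x : G} (hx : x ∈ zpowers z) : lg z x⁻¹ = -lg z x :=
  eq_neg_of_add_eq_zero_left (by rw [← lg_mul h (inv_mem hx) hx, inv_mul_cancel, lg_one h])

/-- The commutator form. -/
noncomputable def frm (z x y : G) : ZMod 3 := lg z (x * y * x⁻¹ * y⁻¹)

include h in
theorem frm_add_right {x y w : G} (hx : x ∈ Q) (hy : y ∈ Q) (hw : w ∈ Q) :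
    frm z x (y * w) = frm z x y + frm z x w := by
  rw [frm, show x * (y * w) * x⁻¹ * (y * w)⁻¹ = (x * y * x⁻¹ * y⁻¹) * (y * (x * w * x⁻¹ * w⁻¹) * y⁻¹) by group,
    conj_zpow (h.le hy) (comm_mem h hx hw), lg_mul h (comm_mem h hx hy) (comm_mem h hx hw)]
  rfl

include h in
theorem frm_skew {x y : G} (hx : x ∈ Q) (hy : y ∈ Q) : frm z y x = -frm z x y := by
  rw [frm, frm, ← lg_inv h (comm_mem h hx hy)]
  exact congrArg (lg z) (by group)

include h in
theorem frm_add_left {x y w : G} (hx : x ∈ Q) (hy : y ∈ Q) (hw : w ∈ Q) :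
    frm z (x * y) w = frm z x w + frm z y w := by
  rw [frm_skew h hw (mul_mem hx hy), frm_add_right h hw hx hy, frm_skew h hw hx, frm_skew h hw hy, neg_add]

include h in
theorem frm_eq_zero {x y : G} (hx : x ∈ Q) (hy : y ∈ Q) : frm z x y = 0 ↔ Commute x y := by
  refine ⟨fun e => ?_, fun e => ?_⟩
  · exact mul_inv_eq_iff_eq_mul.1 (mul_inv_eq_one.1 (lg_eq_zero h (comm_mem h hx hy) e))
  · rw [frm, e.eq, show y * x * x⁻¹ * y⁻¹ = 1 by group, lg_one h]

include h in
theorem frm_self {x : G} : frm z x x = 0 := by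
  rw [frm, show x * x * x⁻¹ * x⁻¹ = 1 by group, lg_one h]

include h in
theorem frm_conj {g x y : G} (hg : g ∈ centralizer ({z} : Set G)) (hx : x ∈ Q) (hy : y ∈ Q) :
    frm z (g * x * g⁻¹) (g * y * g⁻¹) = frm z x y := by
  rw [frm, show g * x * g⁻¹ * (g * y * g⁻¹) * (g * x * g⁻¹)⁻¹ * (g * y * g⁻¹)⁻¹ =
    g * (x * y * x⁻¹ * y⁻¹) * g⁻¹ by group, conj_zpow hg (comm_mem h hx hy)]
  rfl

include h in
theorem frm_zpowers {x c : G} (hx : x ∈ Q) (hc : c ∈ zpowers z) : frm z x c = 0 :=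
  (frm_eq_zero h hx (zpowers_le_Q h hc)).2 (comm_zpow (h.le hx) hc)

/-- The involutions together with a symplectic pair in each block. -/
structure Bas (z : G) (Q : Subgroup G) extends Two z Q where
  /-- The first vectors. -/
  a : Fin 2 → G
  /-- The second vectors. -/
  b : Fin 2 → G
  a_mem : ∀ i, a i ∈ toTwo.Qi i
  b_mem : ∀ i, b i ∈ toTwo.Qi i
  pair : ∀ i, frm z (a i) (b i) = 1

variable [Finite G]

include h in
theorem exists_bas : Nonempty (Bas z Q) := by
  obtain ⟨T⟩ := exists_two h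
  have key : ∀ i, ∃ p : G × G, p.1 ∈ T.Qi i ∧ p.2 ∈ T.Qi i ∧ frm z p.1 p.2 = 1 := by
    intro i
    obtain ⟨x, hx, hxz⟩ : ∃ x ∈ T.Qi i, x ∉ zpowers z := by
      by_contra hall
      push Not at hall
      have := Nat.le_of_dvd (by rw [Nat.card_zpowers, h.oz]; norm_num) (card_dvd_of_le (fun y hy => hall y hy :
        T.Qi i ≤ zpowers z))
      rw [Nat.card_zpowers, h.oz, T.card_Qi i] at this
      omega
    obtain ⟨y, hy, hxy⟩ : ∃ y ∈ T.Qi i, frm z x y ≠ 0 := by
      by_contra hall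
      push Not at hall
      exact hxz (T.blocks_centre h hx fun y hy => (frm_eq_zero h (T.Qi_le i hx) (T.Qi_le i hy)).1 (hall y hy))
    have hk : ∀ k : ZMod 3, k ≠ 0 → k = 1 ∨ k = -1 := by decide
    rcases hk _ hxy with e | e
    · exact ⟨(x, y), hx, hy, e⟩
    · exact ⟨(y, x), hy, hx, by rw [frm_skew h (T.Qi_le i hx) (T.Qi_le i hy), e, neg_neg]⟩
  exact ⟨⟨T, fun i => (key i).choose.1, fun i => (key i).choose.2, fun i => (key i).choose_spec.1,
    fun i => (key i).choose_spec.2.1, fun i => (key i).choose_spec.2.2⟩⟩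

namespace Bas

variable (B : Bas z Q)

/-- The two coordinates in a block. -/
noncomputable def vec (i : Fin 2) (x : G) : ZMod 3 × ZMod 3 := (frm z x (B.b i), frm z (B.a i) x)

omit [Finite G] in
theorem a_Q (i : Fin 2) : B.a i ∈ Q := B.toTwo.Qi_le i (B.a_mem i)

omit [Finite G] in
theorem b_Q (i : Fin 2) : B.b i ∈ Q := B.toTwo.Qi_le i (B.b_mem i)

include h in
theorem vec_mul (i : Fin 2) {x y : G} (hx : x ∈ Q) (hy : y ∈ Q) :
    B.vec i (x * y) = B.vec i x + B.vec i y :=
  Prod.ext (frm_add_left h hx hy (B.b_Q i)) (frm_add_right h (B.a_Q i) hx hy)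

include h in
theorem vec_zpowers (i : Fin 2) {c : G} (hc : c ∈ zpowers z) : B.vec i c = 0 :=
  Prod.ext (by
    show frm z c (B.b i) = 0
    rw [frm_skew h (B.b_Q i) (zpowers_le_Q h hc), frm_zpowers h (B.b_Q i) hc, neg_zero])
    (frm_zpowers h (B.a_Q i) hc)

include h in
theorem vec_one (i : Fin 2) : B.vec i 1 = 0 := B.vec_zpowers h i (one_mem _)

include h in
theorem vec_inv (i : Fin 2) {x : G} (hx : x ∈ Q) : B.vec i x⁻¹ = -B.vec i x :=
  eq_neg_of_add_eq_zero_left (by rw [← B.vec_mul h i (inv_mem hx) hx, inv_mul_cancel, B.vec_one h])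

include h in
theorem vec_other {i k : Fin 2} (hik : i ≠ k) {x : G} (hx : x ∈ B.Qi k) : B.vec i x = 0 :=
  Prod.ext ((frm_eq_zero h (B.toTwo.Qi_le k hx) (B.b_Q i)).2 (B.blocks_comm h hik.symm hx (B.b_mem i)))
    ((frm_eq_zero h (B.a_Q i) (B.toTwo.Qi_le k hx)).2 (B.blocks_comm h hik (B.a_mem i) hx))

include h in
theorem vec_a (i : Fin 2) : B.vec i (B.a i) = (1, 0) := Prod.ext (B.pair i) (frm_self h)

include h in
theorem vec_b (i : Fin 2) : B.vec i (B.b i) = (0, 1) := Prod.ext (frm_self h) (B.pair i)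

include h in
theorem vec_pow (i : Fin 2) {x : G} (hx : x ∈ Q) (n : ℕ) : B.vec i (x ^ n) = n • B.vec i x := by
  induction n with
  | zero => rw [pow_zero, B.vec_one h, zero_smul]
  | succ n ih => rw [pow_succ, B.vec_mul h i (pow_mem hx n) hx, ih, succ_nsmul]

include h in
theorem exists_vec (i : Fin 2) (v : ZMod 3 × ZMod 3) : ∃ x ∈ B.Qi i, B.vec i x = v := by
  refine ⟨B.a i ^ v.1.val * B.b i ^ v.2.val, mul_mem (pow_mem (B.a_mem i) _) (pow_mem (B.b_mem i) _), ?_⟩
  rw [B.vec_mul h i (pow_mem (B.a_Q i) _) (pow_mem (B.b_Q i) _), B.vec_pow h i (B.a_Q i), B.vec_a h,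
    B.vec_pow h i (B.b_Q i), B.vec_b h]
  simp [Prod.ext_iff]

include h in
theorem block_ker {i : Fin 2} {x : G} (hx : x ∈ B.Qi i) (hv : B.vec i x = 0) : x ∈ zpowers z := by
  classical
  let ψ : ↥(B.Qi i) →* Multiplicative (ZMod 3 × ZMod 3) :=
    MonoidHom.mk' (fun y => Multiplicative.ofAdd (B.vec i y)) fun y w => by
      simp only [Subgroup.coe_mul, B.vec_mul h i (B.toTwo.Qi_le i y.2) (B.toTwo.Qi_le i w.2), ofAdd_add]
  have hs : Function.Surjective ψ := fun v => by
    obtain ⟨y, hy, e⟩ := B.exists_vec h i (Multiplicative.toAdd v)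
    exact ⟨⟨y, hy⟩, by show Multiplicative.ofAdd (B.vec i y) = v; rw [e]; rfl⟩
  have hle : (zpowers z).subgroupOf (B.Qi i) ≤ ψ.ker := fun y hy => by
    show Multiplicative.ofAdd (B.vec i y) = 1
    rw [B.vec_zpowers h i (mem_subgroupOf.1 hy)]; rfl
  have hk := ψ.ker.card_eq_card_quotient_mul_card_subgroup
  rw [Nat.card_congr (QuotientGroup.quotientKerEquivOfSurjective ψ hs).toEquiv, B.card_Qi i,
    Nat.card_congr Multiplicative.toAdd, Nat.card_prod, Nat.card_zmod] at hk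
  have e : (zpowers z).subgroupOf (B.Qi i) = ψ.ker := eq_of_le_of_card_ge hle (by
    rw [Nat.card_congr (subgroupOfEquivOfLe (B.z_mem_Qi h i)).toEquiv, Nat.card_zpowers, h.oz]
    omega)
  have : (⟨x, hx⟩ : ↥(B.Qi i)) ∈ ψ.ker := by
    show Multiplicative.ofAdd (B.vec i x) = 1
    rw [hv]; rfl
  exact mem_subgroupOf.1 (e.ge this)

include h in
/-- The coordinates determine an element of `Q` modulo the centre. -/
theorem vec_ker {x : G} (hx : x ∈ Q) (hv : ∀ i, B.vec i x = 0) : x ∈ zpowers z := by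
  obtain ⟨p, hp, q, hq, rfl⟩ := B.blocks_split h hx 0
  have h0 := hv 0
  have h1 := hv (Fin.rev 0)
  rw [B.vec_mul h _ (B.toTwo.Qi_le _ hp) (B.toTwo.Qi_le _ hq)] at h0 h1
  rw [B.vec_other h (by decide : (0 : Fin 2) ≠ Fin.rev 0) hq, add_zero] at h0
  rw [B.vec_other h (by decide : Fin.rev (0 : Fin 2) ≠ 0) hp, zero_add] at h1
  exact mul_mem (B.block_ker h hp h0) (B.block_ker h hq h1)

include h in
theorem vec_ext {x y : G} (hx : x ∈ Q) (hy : y ∈ Q) (hv : ∀ i, B.vec i x = B.vec i y) :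
    x * y⁻¹ ∈ zpowers z :=
  B.vec_ker h (mul_mem hx (inv_mem hy)) fun i => by
    rw [B.vec_mul h i hx (inv_mem hy), B.vec_inv h i hy, hv i, add_neg_cancel]

/-- The alternating form of two pairs. -/
def det2 (v w : ZMod 3 × ZMod 3) : ZMod 3 := v.1 * w.2 - v.2 * w.1

include h in
/-- The form in coordinates. -/
theorem frm_eq {x y : G} (hx : x ∈ Q) (hy : y ∈ Q) :
    frm z x y = det2 (B.vec 0 x) (B.vec 0 y) + det2 (B.vec 1 x) (B.vec 1 y) := by
  -- replace the second element by its standard form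
  have hw : ∀ i, ∃ w ∈ B.Qi i, B.vec i w = B.vec i y ∧
      frm z x w = det2 (B.vec i x) (B.vec i y) := by
    intro i
    refine ⟨B.a i ^ (B.vec i y).1.val * B.b i ^ (B.vec i y).2.val,
      mul_mem (pow_mem (B.a_mem i) _) (pow_mem (B.b_mem i) _), ?_, ?_⟩
    · rw [B.vec_mul h i (pow_mem (B.a_Q i) _) (pow_mem (B.b_Q i) _), B.vec_pow h i (B.a_Q i), B.vec_a h,
        B.vec_pow h i (B.b_Q i), B.vec_b h]
      simp [Prod.ext_iff]
    · have hpow : ∀ (w : G), w ∈ Q → ∀ n : ℕ, frm z x (w ^ n) = n • frm z x w := fun w hw n => by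
        induction n with
        | zero => rw [pow_zero, frm_zpowers h hx (one_mem _), zero_smul]
        | succ n ih => rw [pow_succ, frm_add_right h hx (pow_mem hw n) hw, ih, succ_nsmul]
      rw [frm_add_right h hx (pow_mem (B.a_Q i) _) (pow_mem (B.b_Q i) _), hpow _ (B.a_Q i), hpow _ (B.b_Q i),
        frm_skew h (B.a_Q i) hx]
      simp [det2, vec]
      ring
  obtain ⟨w0, hw0, e0, f0⟩ := hw 0
  obtain ⟨w1, hw1, e1, f1⟩ := hw 1
  have hq0 := B.toTwo.Qi_le 0 hw0
  have hq1 := B.toTwo.Qi_le 1 hw1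
  have hz : y * (w0 * w1)⁻¹ ∈ zpowers z := B.vec_ext h hy (mul_mem hq0 hq1) fun i => by
    fin_cases i
    · show B.vec 0 y = B.vec 0 (w0 * w1)
      rw [B.vec_mul h 0 hq0 hq1, B.vec_other h (by decide : (0 : Fin 2) ≠ 1) hw1, add_zero, e0]
    · show B.vec 1 y = B.vec 1 (w0 * w1)
      rw [B.vec_mul h 1 hq0 hq1, B.vec_other h (by decide : (1 : Fin 2) ≠ 0) hw0, zero_add, e1]
  rw [show y = y * (w0 * w1)⁻¹ * (w0 * w1) by group,
    frm_add_right h hx (zpowers_le_Q h hz) (mul_mem hq0 hq1), frm_zpowers h hx hz, zero_add,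
    frm_add_right h hx hq0 hq1, f0, f1, ← show y = y * (w0 * w1)⁻¹ * (w0 * w1) by group]

end Bas

end Cfsg.Agent.U62Three.A
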