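import Cfsg.Agent.U62Three.A.Fixed
import Cfsg.Agent.U62Three.A.Coords
import Mathlib.GroupTheory.Perm.Closure

/-!
# The frame
-/

set_option autoImplicit false

open Subgroup

namespace Cfsg.Agent.U62Three.A

universe u

variable {G : Type u} [Group G] [Finite G] {z : G} {Q : Subgroup G}

/-- A point fixed by the involutions, with its axes. -/
structure Base (z : G) (Q : Subgroup G) where
  /-- The blocks. -/
  B : Bas z Q
  /-- The point. -/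
  y : G
  hy : Pt z Q y
  cl : B.cl 0 y = 1
  fix : ∀ i, Commute (B.t i) y
  /-- The group of the point. -/
  Qy : Subgroup G
  hyy : Hyp y Qy
  /-- The axes. -/
  ax : ∀ i, Axis B y Qy i

theorem exists_base (h : Hyp z Q) : Nonempty (Base z Q) := by
  obtain ⟨B⟩ := exists_bas h
  obtain ⟨y, hy, hc, hf, -⟩ := B.exists_point h
  obtain ⟨Qy, hyy⟩ := hyp_Tp h hy.mem
  exact ⟨⟨B, y, hy, hc, hf, Qy, hyy, fun i => (B.exists_axis h hy hyy i).some⟩⟩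

namespace Base

variable (S : Base z Q) (h : Hyp z Q)

/-- The axis elements. -/
def d (i : Fin 2) : G := (S.ax i).d

include h in
theorem cl_eq (i : Fin 2) : S.B.cl i S.y = 1 := by
  rcases Bas.fin_cases_two i with rfl | rfl
  · exact S.cl
  · rw [← same h S.hy S.B]; exact S.cl

omit [Finite G] in
theorem d_Q (i : Fin 2) : S.d i ∈ Q := S.B.toTwo.Qi_le i (S.ax i).d_mem

omit [Finite G] in
theorem d_comm_y (i : Fin 2) : Commute S.y (S.d i) := (S.ax i).comm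

include h in
theorem d_comm : Commute (S.d 0) (S.d 1) :=
  S.B.blocks_comm h (by decide : (0 : Fin 2) ≠ 1) (S.ax 0).d_mem (S.ax 1).d_mem

omit [Finite G] in
theorem y_comm_z : Commute S.y z := mem_centralizer_singleton_iff.1 S.hy.cen

include h in
theorem d_comm_z (i : Fin 2) : Commute (S.d i) z := mem_centralizer_singleton_iff.1 (h.le (S.d_Q i))

include h in
theorem zp_y_add (k l : ZMod 3) : zp S.y (k + l) = zp S.y k * zp S.y l := zp_add S.hyy k l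

include h in
theorem zp_d_add (i : Fin 2) (k l : ZMod 3) : zp (S.d i) (k + l) = zp (S.d i) k * zp (S.d i) l := by
  rw [zp, zp, zp, ← pow_add, ZMod.val_add]
  exact pow_eq_pow_mod _ (S.B.cube h (S.d_Q i)) |>.symm

/-- The element with given coordinates. -/
def φ (v : Crd.V) : G := zp z v.1.1 * zp S.y v.1.2 * (zp (S.d 0) v.2.1 * zp (S.d 1) v.2.2)

include h in
theorem φ_add (v w : Crd.V) : S.φ (v + w) = S.φ v * S.φ w := by
  have hzp : ∀ {a b : G} (k l : ZMod 3), Commute a b → Commute (zp a k) (zp b l) := fun k l hab =>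
    hab.pow_pow _ _
  simp only [φ, Prod.fst_add, Prod.snd_add, zp_add h, S.zp_y_add h, S.zp_d_add h]
  rw [(hzp w.1.1 v.1.2 S.y_comm_z.symm).mul_mul_mul_comm, (hzp w.2.1 v.2.2 (S.d_comm h)).mul_mul_mul_comm]
  refine Commute.mul_mul_mul_comm ?_ _ _
  refine Commute.mul_left (Commute.mul_right ?_ ?_) (Commute.mul_right ?_ ?_)
  · exact hzp _ _ (S.d_comm_z h 0).symm
  · exact hzp _ _ (S.d_comm_z h 1).symm
  · exact hzp _ _ (S.d_comm_y 0)
  · exact hzp _ _ (S.d_comm_y 1)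

theorem φ_zero : S.φ 0 = 1 := by simp [φ, zp]

include h in
theorem φ_neg (v : Crd.V) : S.φ (-v) = (S.φ v)⁻¹ :=
  eq_inv_of_mul_eq_one_left (by rw [← S.φ_add h, neg_add_cancel, S.φ_zero])

include h in
theorem φ_sub (v w : Crd.V) : S.φ (v - w) = S.φ v * (S.φ w)⁻¹ := by
  rw [sub_eq_add_neg, S.φ_add h, S.φ_neg h]

theorem φ_z : S.φ ((1, 0), (0, 0)) = z := by simp [φ, zp, ZMod.val_one]

theorem φ_y : S.φ ((0, 1), (0, 0)) = S.y := by simp [φ, zp, ZMod.val_one]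

theorem φ_d0 : S.φ ((0, 0), (1, 0)) = S.d 0 := by simp [φ, zp, ZMod.val_one]

theorem φ_d1 : S.φ ((0, 0), (0, 1)) = S.d 1 := by simp [φ, zp, ZMod.val_one]

include h in
theorem φ_Q {v : Crd.V} : S.φ v ∈ Q ↔ v.1.2 = 0 := by
  have hrest : zp (S.d 0) v.2.1 * zp (S.d 1) v.2.2 ∈ Q :=
    mul_mem (pow_mem (S.d_Q 0) _) (pow_mem (S.d_Q 1) _)
  have hzQ : zp z v.1.1 ∈ Q := zpowers_le_Q h (zp_mem _)
  constructor
  · intro hv
    have hy' : zp S.y v.1.2 ∈ Q := by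
      have h1 := mul_mem (mul_mem (inv_mem hzQ) hv) (inv_mem hrest)
      simpa [φ, mul_assoc] using h1
    exact zp_inj S.hyy (by rw [S.hy.zpow_Q h (zp_mem _) hy', zp_zero])
  · intro hv
    rw [φ, hv, zp_zero, mul_one]
    exact mul_mem hzQ hrest

include h in
theorem vec_d (i : Fin 2) : S.B.vec i (S.d i) ≠ 0 := fun e => (S.ax i).d_z (S.B.block_ker h (S.ax i).d_mem e)

include h in
theorem φ_inj : Function.Injective S.φ := by
  intro v w e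
  rw [← sub_eq_zero]
  have e0 : S.φ (v - w) = 1 := by rw [S.φ_sub h, e, mul_inv_cancel]
  generalize v - w = x at e0
  have hb : x.1.2 = 0 := (S.φ_Q h).1 (e0 ▸ one_mem _)
  obtain ⟨⟨a, b⟩, c, k⟩ := x
  subst hb
  have hzero : ∀ (n : ZMod 3) (v : ZMod 3 × ZMod 3), v ≠ 0 → n.val • v = 0 → n = 0 := by decide +kernel
  have hvd : ∀ (i : Fin 2) (n : ZMod 3), S.B.vec i (zp (S.d i) n) = n.val • S.B.vec i (S.d i) := fun i n =>
    S.B.vec_pow h i (S.d_Q i) _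
  have hev : ∀ i, S.B.vec i (zp (S.d 0) c * zp (S.d 1) k) = 0 := fun i => by
    have e1 : zp (S.d 0) c * zp (S.d 1) k = (zp z a)⁻¹ := by
      simp only [φ, zp_zero, mul_one] at e0
      exact eq_inv_of_mul_eq_one_right e0
    rw [e1]
    exact S.B.vec_zpowers h i (inv_mem (zp_mem _))
  have hmul : ∀ i, S.B.vec i (zp (S.d 0) c * zp (S.d 1) k) = S.B.vec i (zp (S.d 0) c) + S.B.vec i (zp (S.d 1) k) :=
    fun i => S.B.vec_mul h i (pow_mem (S.d_Q 0) _) (pow_mem (S.d_Q 1) _)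
  have hc : c = 0 := by
    have h0 := hev 0
    rw [hmul, hvd 0, S.B.vec_other h (by decide : (0 : Fin 2) ≠ 1) (x := zp (S.d 1) k) (pow_mem (S.ax 1).d_mem _),
      add_zero] at h0
    exact hzero _ _ (S.vec_d h 0) h0
  have hk : k = 0 := by
    have h0 := hev 1
    rw [hmul, hvd 1, S.B.vec_other h (by decide : (1 : Fin 2) ≠ 0) (x := zp (S.d 0) c) (pow_mem (S.ax 0).d_mem _),
      zero_add] at h0
    exact hzero _ _ (S.vec_d h 1) h0
  subst hc hk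
  simp only [φ, zp_zero, mul_one] at e0
  have ha : a = 0 := zp_inj h (e0.trans (zp_zero (z := z)).symm)
  subst ha
  rfl

/-- The subgroup of order 81. -/
def Jg : Subgroup G := closure (Set.range S.φ)

include h in
theorem mem_Jg {x : G} : x ∈ S.Jg ↔ ∃ v, S.φ v = x := by
  refine ⟨fun hx => ?_, fun ⟨v, hv⟩ => hv ▸ subset_closure ⟨v, rfl⟩⟩
  induction hx using closure_induction with
  | mem x hx => exact hx
  | one => exact ⟨0, S.φ_zero⟩
  | mul x w _ _ hx hw =>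
      obtain ⟨a, rfl⟩ := hx
      obtain ⟨b, rfl⟩ := hw
      exact ⟨a + b, S.φ_add h a b⟩
  | inv x _ hx =>
      obtain ⟨a, rfl⟩ := hx
      exact ⟨-a, S.φ_neg h a⟩

include h in
theorem card_Jg : Nat.card ↥S.Jg = 81 := by
  rw [← Nat.card_congr (Equiv.ofBijective (fun v : Crd.V => (⟨S.φ v, (S.mem_Jg h).2 ⟨v, rfl⟩⟩ : S.Jg))
    ⟨fun a b e => S.φ_inj h (congrArg Subtype.val e), fun x => by
      obtain ⟨v, hv⟩ := (S.mem_Jg h).1 x.2
      exact ⟨v, Subtype.ext hv⟩⟩)]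
  rw [Nat.card_prod, Nat.card_prod, Nat.card_zmod]

/-- `n` acts as `L` on the coordinates. -/
def Acts (n : G) (L : Crd.V → Crd.V) : Prop := ∀ v, n * S.φ v * n⁻¹ = S.φ (L v)

include h in
theorem acts_lin {n : G} {a b c d : Crd.V} (ha : n * z * n⁻¹ = S.φ a) (hb : n * S.y * n⁻¹ = S.φ b)
    (hc : n * S.d 0 * n⁻¹ = S.φ c) (hd : n * S.d 1 * n⁻¹ = S.φ d) : S.Acts n (Crd.lin a b c d) := by
  intro v
  have hp : ∀ (x : G) (w : Crd.V) (k : ZMod 3), n * x * n⁻¹ = S.φ w → n * zp x k * n⁻¹ = S.φ (k.val • w) := by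
    intro x w k e
    have h1 : ∀ m : ℕ, (S.φ w) ^ m = S.φ (m • w) := fun m => by
      induction m with
      | zero => rw [pow_zero, zero_smul, S.φ_zero]
      | succ m ih => rw [pow_succ, succ_nsmul, S.φ_add h, ih]
    rw [zp, ← conj_pow, e, h1]
  rw [φ, show n * (zp z v.1.1 * zp S.y v.1.2 * (zp (S.d 0) v.2.1 * zp (S.d 1) v.2.2)) * n⁻¹ =
    (n * zp z v.1.1 * n⁻¹) * (n * zp S.y v.1.2 * n⁻¹) * ((n * zp (S.d 0) v.2.1 * n⁻¹) *
      (n * zp (S.d 1) v.2.2 * n⁻¹)) by group, hp _ _ _ ha, hp _ _ _ hb, hp _ _ _ hc, hp _ _ _ hd,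
    ← S.φ_add h, ← S.φ_add h, ← S.φ_add h]
  congr 1
  simp [Crd.lin, Prod.ext_iff]
  ring_nf
  simp

include h in
theorem norm_of_maps {n : G} (hn : ∀ x ∈ S.Jg, n * x * n⁻¹ ∈ S.Jg) : n ∈ normalizer (S.Jg : Set G) := by
  refine mem_normalizer_iff.2 fun x => ⟨hn x, fun hx => ?_⟩
  have hbij : Function.Bijective fun w : S.Jg => (⟨n * w * n⁻¹, hn w w.2⟩ : S.Jg) :=
    Finite.injective_iff_bijective.1 fun a b e => Subtype.ext
      (mul_left_cancel (mul_right_cancel (congrArg Subtype.val e : n * a * n⁻¹ = n * b * n⁻¹)))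
  obtain ⟨w, hw⟩ := hbij.2 ⟨_, hx⟩
  rw [← mul_left_cancel (mul_right_cancel (congrArg Subtype.val hw : n * w * n⁻¹ = n * x * n⁻¹))]
  exact w.2

theorem Acts.norm {n : G} {L : Crd.V → Crd.V} (hL : S.Acts n L) (h : Hyp z Q) :
    n ∈ normalizer (S.Jg : Set G) := S.norm_of_maps h fun x hx => by
  obtain ⟨v, rfl⟩ := (S.mem_Jg h).1 hx
  rw [hL]
  exact subset_closure ⟨_, rfl⟩

/-- The root elements. -/
def j (a b : Fin 6) : G := S.φ (Crd.E a - Crd.E b)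

/-- A permutation realised by an element. -/
def realised (S : Base z Q) (h : Hyp z Q) : Submonoid (Equiv.Perm (Fin 6)) where
  carrier := {σ | ∃ n ∈ normalizer (S.Jg : Set G), ∀ a b, n * S.j a b * n⁻¹ = S.j (σ a) (σ b)}
  one_mem' := ⟨1, one_mem _, fun a b => by simp⟩
  mul_mem' := by
    rintro σ τ ⟨n, hn, hσ⟩ ⟨m, hm, hτ⟩
    refine ⟨n * m, mul_mem hn hm, fun a b => ?_⟩
    rw [show n * m * S.j a b * (n * m)⁻¹ = n * (m * S.j a b * m⁻¹) * n⁻¹ by group, hτ, hσ]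
    rfl

theorem Acts.real {n : G} {L : Crd.V → Crd.V} (hL : S.Acts n L) (h : Hyp z Q) {σ : Equiv.Perm (Fin 6)}
    (hE : ∀ a b, L (Crd.E a - Crd.E b) = Crd.E (σ a) - Crd.E (σ b)) : σ ∈ S.realised h :=
  ⟨n, hL.norm S h, fun a b => by rw [j, hL, hE]; rfl⟩

include h in
theorem t_acts : S.Acts (S.B.t 0) Crd.Lt0 ∧ S.Acts (S.B.t 1) Crd.Lt1 := by
  have hz : ∀ i, S.B.t i * z * (S.B.t i)⁻¹ = S.φ ((1, 0), (0, 0)) := fun i => by
    rw [conj_zpow (S.B.toTwo.t_le i) (mem_zpowers z), S.φ_z]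
  have hy : ∀ i, S.B.t i * S.y * (S.B.t i)⁻¹ = S.φ ((0, 1), (0, 0)) := fun i => by
    rw [(S.fix i).eq, mul_inv_cancel_right, S.φ_y]
  have hoth : ∀ i k, i ≠ k → S.B.t i * S.d k * (S.B.t i)⁻¹ = S.d k := fun i k hik => by
    show S.B.t i * (S.ax k).d * (S.B.t i)⁻¹ = (S.ax k).d
    rw [(S.B.R_cent hik (S.B.t_mem_R h i) (S.ax k).d_mem).eq, mul_inv_cancel_right]
  have hinv : ∀ i, S.B.t i * S.d i * (S.B.t i)⁻¹ = (S.d i)⁻¹ := fun i => by
    have htQ : S.B.t i * S.d i * (S.B.t i)⁻¹ ∈ S.Qy :=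
      (mem_normalizer_iff.1 (S.hyy.normal (mem_centralizer_singleton_iff.2 (S.fix i).eq)) _).1 (S.ax i).d_Qy
    exact eq_inv_of_mul_eq_one_left (S.hy.zpowers_inf h S.hyy (S.B.t_inv h (S.ax i).d_mem)
      (mul_mem htQ (S.ax i).d_Qy))
  exact ⟨S.acts_lin h (hz 0) (hy 0) (by rw [hinv, ← S.φ_d0, ← S.φ_neg h]; rfl)
      (by rw [hoth 0 1 (by decide), S.φ_d1]),
    S.acts_lin h (hz 1) (hy 1) (by rw [hoth 1 0 (by decide), S.φ_d0])
      (by rw [hinv, ← S.φ_d1, ← S.φ_neg h]; rfl)⟩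

include h in
theorem q_acts : S.Acts (S.ax 0).q Crd.Lq0 ∧ S.Acts (S.ax 1).q Crd.Lq1 := by
  have hq : ∀ i, (S.ax i).q ∈ Q := fun i => S.B.toTwo.Qi_le i (S.ax i).q_mem
  have hz : ∀ i, (S.ax i).q * z * (S.ax i).q⁻¹ = S.φ ((1, 0), (0, 0)) := fun i => by
    rw [conj_zpow (h.le (hq i)) (mem_zpowers z), S.φ_z]
  have hy : ∀ i, (S.ax i).q * S.y * (S.ax i).q⁻¹ = S.d i * z * S.y := fun i => by
    rw [(S.ax i).disp, S.cl_eq h]; simp [zp, ZMod.val_one, d]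
  have hd : ∀ i, (S.ax i).q * S.d i * (S.ax i).q⁻¹ = S.φ ((2, 0), (0, 0)) * S.d i := fun i => by
    have := (S.ax i).qd
    rw [S.cl_eq h] at this
    rw [show S.φ ((2, 0), (0, 0)) = zp z (-1) by simp [φ, zp_zero]; rfl]
    exact this
  have hoth : ∀ i k, i ≠ k → (S.ax i).q * S.d k * (S.ax i).q⁻¹ = S.d k := fun i k hik => by
    show (S.ax i).q * (S.ax k).d * (S.ax i).q⁻¹ = (S.ax k).d
    rw [(S.B.blocks_comm h hik (S.ax i).q_mem (S.ax k).d_mem).eq, mul_inv_cancel_right]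
  refine ⟨S.acts_lin h (hz 0) (b := ((1, 1), (1, 0))) ?_ (c := ((2, 0), (1, 0))) ?_
      (by rw [hoth 0 1 (by decide), S.φ_d1]),
    S.acts_lin h (hz 1) (b := ((1, 1), (0, 1))) ?_ (by rw [hoth 1 0 (by decide), S.φ_d0])
      (d := ((2, 0), (0, 1))) ?_⟩
  · rw [hy]
    rw [show (((1, 1), (1, 0)) : Crd.V) = ((0, 0), (1, 0)) + ((1, 0), (0, 0)) + ((0, 1), (0, 0)) by decide,
      S.φ_add h, S.φ_add h, S.φ_d0, S.φ_z, S.φ_y]
  · rw [hd]
    conv_lhs => rw [← S.φ_d0, ← S.φ_add h]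
    rfl
  · rw [hy]
    rw [show (((1, 1), (0, 1)) : Crd.V) = ((0, 0), (0, 1)) + ((1, 0), (0, 0)) + ((0, 1), (0, 0)) by decide,
      S.φ_add h, S.φ_add h, S.φ_d1, S.φ_z, S.φ_y]
  · rw [hd]
    conv_lhs => rw [← S.φ_d1, ← S.φ_add h]
    rfl

include h in
theorem pnt_mem (w : ZMod 3 × ZMod 3) :
    ∃ q ∈ Q, q * S.y * q⁻¹ = S.φ (Crd.pnt w) ∧
      ∃ σ : Equiv.Perm (Fin 6), ∀ a b, q * S.j a b * q⁻¹ = S.j (σ a) (σ b) := by
  refine ⟨(S.ax 0).q ^ w.1.val * (S.ax 1).q ^ w.2.val, mul_mem (pow_mem (S.B.toTwo.Qi_le 0 (S.ax 0).q_mem) _)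
    (pow_mem (S.B.toTwo.Qi_le 1 (S.ax 1).q_mem) _), ?_,
    Crd.pq0 ^ w.1.val * Crd.pq1 ^ w.2.val, ?_⟩
  have hpow : ∀ (g : G) (L : Crd.V → Crd.V), S.Acts g L → ∀ m : ℕ, S.Acts (g ^ m) (L^[m]) := by
    intro g L hL m
    induction m with
    | zero => intro v; simp
    | succ m ih =>
      intro v
      rw [pow_succ', show g * g ^ m * S.φ v * (g * g ^ m)⁻¹ = g * (g ^ m * S.φ v * (g ^ m)⁻¹) * g⁻¹ by group, ih,
        hL, Function.iterate_succ', Function.comp]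
  have e1 := hpow _ _ (S.q_acts h).2 w.2.val ((0, 1), (0, 0))
  rw [S.φ_y] at e1
  rw [show ∀ a b : G, a * b * S.y * (a * b)⁻¹ = a * (b * S.y * b⁻¹) * a⁻¹ from fun a b => by group, e1,
    hpow _ _ (S.q_acts h).1, Crd.q_word]
  have hq : ∀ (g : G) (σ : Equiv.Perm (Fin 6)), (∀ a b, g * S.j a b * g⁻¹ = S.j (σ a) (σ b)) →
      ∀ (m : ℕ) a b, g ^ m * S.j a b * (g ^ m)⁻¹ = S.j ((σ ^ m) a) ((σ ^ m) b) := by
    intro g σ hg m
    induction m with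
    | zero => simp
    | succ m ih =>
      intro a b
      rw [pow_succ', show g * g ^ m * S.j a b * (g * g ^ m)⁻¹ = g * (g ^ m * S.j a b * (g ^ m)⁻¹) * g⁻¹ by group,
        ih, hg, pow_succ']
      rfl
  intro a b
  rw [show ∀ g k x : G, g * k * x * (g * k)⁻¹ = g * (k * x * k⁻¹) * g⁻¹ from fun g k x => by group,
    hq _ _ (fun a b => by rw [j, (S.q_acts h).2, Crd.Lq1_E]; rfl),
    hq _ _ (fun a b => by rw [j, (S.q_acts h).1, Crd.Lq0_E]; rfl)]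
  rfl

include h in
theorem pnt_pt (w : ZMod 3 × ZMod 3) : Pt z Q (S.φ (Crd.pnt w)) := by
  obtain ⟨q, hq, e, -⟩ := S.pnt_mem h w
  exact e ▸ S.hy.conj_Q h hq

include h in
/-- The points in the subgroup of order 81. -/
theorem pts {v : Crd.V} (hv : S.φ v ∈ Tp z) :
    v = ((1, 0), (0, 0)) ∨ v = ((2, 0), (0, 0)) ∨ ∃ w, v = Crd.pnt w ∨ v = -Crd.pnt w := by
  have key : ∀ u : Crd.V, S.φ u ∈ Tp z → u.1.2 = 1 → u = Crd.pnt u.2 := fun u hu hu1 => by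
    refine S.φ_inj h (eq_of_class h (S.pnt_pt h u.2) hu ?_)
    rw [← S.φ_sub h]
    obtain ⟨⟨a, b⟩, w⟩ := u
    subst hu1
    have e : (((a, 1), w) : Crd.V) - Crd.pnt w = ((a - (w.1 * w.1 + w.2 * w.2), 0), (0, 0)) := by
      simp [Crd.pnt, Prod.ext_iff]
    rw [e]
    simpa [φ, zp] using pow_mem (mem_zpowers z) _
  have h3 : ∀ k : ZMod 3, k = 0 ∨ k = 1 ∨ k = -1 := by decide
  rcases h3 v.1.2 with e | e | e
  · have hz := weak_Tp h hv ((S.φ_Q h).2 e)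
    rcases zc h hz with e1 | e1 | e1
    · have h1 := Tp_cube h hv
      exfalso
      obtain ⟨g, e2 | e2⟩ := hv <;> rw [e1] at e2
      · exact z_ne h (conj_eq_one_iff.1 e2.symm)
      · exact z_ne h (inv_eq_one.1 (conj_eq_one_iff.1 e2.symm))
    · exact Or.inl (S.φ_inj h (e1.trans S.φ_z.symm))
    · exact Or.inr (Or.inl (S.φ_inj h (e1.trans (by rw [show (((2, 0), (0, 0)) : Crd.V) = -((1, 0), (0, 0)) by decide, S.φ_neg h, S.φ_z]))))
  · exact Or.inr (Or.inr ⟨v.2, Or.inl (key v hv e)⟩)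
  · refine Or.inr (Or.inr ⟨(-v).2, Or.inr ?_⟩)
    rw [← key (-v) (by rw [S.φ_neg h]; exact Tp_inv hv) (by simp [e]), neg_neg]

include h in
theorem n_acts : ∃ n, n ∈ S.Qy ∧ S.Acts n Crd.Ln := by
  have hzy : Pt S.y S.Qy z := S.hy.symm h S.hyy
  have hT : Tp S.y = Tp z := Tp_eq S.hy.mem
  obtain ⟨n, hn, hnz⟩ := coset_conj S.hyy hzy (p := S.φ (Crd.pnt (1, 0))) (by rw [hT]; exact (S.pnt_pt h _).mem) (by
    rw [show S.φ (Crd.pnt (1, 0)) * z⁻¹ = S.φ (Crd.pnt (1, 0) - ((1, 0), (0, 0))) by rw [S.φ_sub h, S.φ_z],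
      show Crd.pnt (1, 0) - ((1, 0), (0, 0)) = ((0, 1), (1, 0)) by decide]
    simp only [φ, zp, ZMod.val_zero, pow_zero, one_mul, mul_one, ZMod.val_one, pow_one]
    exact mul_mem (z_mem S.hyy) (S.ax 0).d_Qy)
  have hny : n * S.y * n⁻¹ = S.φ ((0, 1), (0, 0)) := by
    rw [conj_zpow (S.hyy.le hn) (mem_zpowers _), S.φ_y]
  have hd : ∀ i, ∃ l : ZMod 3, n * S.d i * n⁻¹ = S.φ ((0, l), (0, 0)) * S.d i := fun i => by
    refine ⟨lg S.y (n * S.d i * n⁻¹ * (S.d i)⁻¹), ?_⟩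
    simp only [φ, d, zp_zero, one_mul, mul_one]
    rw [zp_lg S.hyy (comm_mem S.hyy hn (S.ax i).d_Qy), inv_mul_cancel_right]
  obtain ⟨l, hl⟩ := hd 0
  obtain ⟨m, hm⟩ := hd 1
  have hA : S.Acts n (Crd.lin ((1, 1), (1, 0)) ((0, 1), (0, 0)) ((0, l), (1, 0)) ((0, m), (0, 1))) := by
    refine S.acts_lin h (by rw [hnz]; congr 1) hny ?_ ?_
    · rw [hl]
      conv_lhs => rw [← S.φ_d0, ← S.φ_add h]
      congr 1; simp
    · rw [hm]
      conv_lhs => rw [← S.φ_d1, ← S.φ_add h]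
      congr 1; simp
  have key : ∀ w, ∀ v, v = Crd.lin ((1, 1), (1, 0)) ((0, 1), (0, 0)) ((0, l), (1, 0)) ((0, m), (0, 1)) (Crd.pnt w) →
      v = ((1, 0), (0, 0)) ∨ v = ((2, 0), (0, 0)) ∨ ∃ w, v = Crd.pnt w ∨ v = -Crd.pnt w := fun w v hv => by
    refine S.pts h ?_
    rw [hv, ← hA]
    exact Tp_conj (S.pnt_pt h w).mem n
  have hlm : ∀ l m : ZMod 3, (∀ w, ∀ v, v =
      Crd.lin ((1, 1), (1, 0)) ((0, 1), (0, 0)) ((0, l), (1, 0)) ((0, m), (0, 1)) (Crd.pnt w) →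
      v = ((1, 0), (0, 0)) ∨ v = ((2, 0), (0, 0)) ∨ ∃ w, v = Crd.pnt w ∨ v = -Crd.pnt w) → l = 2 ∧ m = 0 := by
    intro l m hh
    have h0 := hh (1, 0) _ rfl
    have h1 := hh (0, 1) _ rfl
    revert h0 h1
    clear hh
    revert l m
    decide +kernel
  obtain ⟨rfl, rfl⟩ := hlm l m key
  exact ⟨n, hn, hA⟩

include h in
theorem real_all (σ : Equiv.Perm (Fin 6)) : σ ∈ S.realised h := by
  obtain ⟨n, -, hn⟩ := S.n_acts h
  have hsw := Crd.swaps_gen (S.realised h) ((S.t_acts h).1.real S h Crd.Lt0_E)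
    ((S.t_acts h).2.real S h Crd.Lt1_E) ((S.q_acts h).1.real S h Crd.Lq0_E)
    ((S.q_acts h).2.real S h Crd.Lq1_E) (hn.real S h Crd.Ln_E)
  have : (⊤ : Submonoid (Equiv.Perm (Fin 6))) ≤ S.realised h := by
    rw [← Equiv.Perm.mclosure_swap_castSucc_succ 5, Submonoid.closure_le]
    rintro _ ⟨a, rfl⟩
    exact hsw a
  exact this trivial

include h in
theorem span : S.Jg = closure (Set.range fun x : Fin 6 × Fin 6 => S.j x.1 x.2) := by
  refine le_antisymm ((closure_le _).2 ?_) ((closure_le _).2 ?_)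
  · rintro _ ⟨v, rfl⟩
    have hj : ∀ a b, S.j a b ∈ closure (Set.range fun x : Fin 6 × Fin 6 => S.j x.1 x.2) :=
      fun a b => subset_closure ⟨(a, b), rfl⟩
    have hn : ∀ (m : ℕ) (w : Crd.V), S.φ (m • w) = S.φ w ^ m := fun m w => by
      induction m with
      | zero => rw [zero_smul, S.φ_zero, pow_zero]
      | succ m ih => rw [succ_nsmul, S.φ_add h, ih, pow_succ]
    rw [Crd.span v, SetLike.mem_coe]
    simp only [S.φ_add h, hn]
    exact mul_mem (mul_mem (pow_mem (mul_mem (hj 0 1) (hj 2 1)) _) (pow_mem (mul_mem (hj 0 3) (hj 1 3)) _))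
      (mul_mem (pow_mem (hj 0 1) _) (pow_mem (hj 4 5) _))
  · rintro _ ⟨x, rfl⟩
    exact subset_closure ⟨_, rfl⟩

end Base

end Cfsg.Agent.U62Three.A
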