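import Cfsg.Agent.U62Three.A.Frame
import Cfsg.Agent.U62Three.A.CoordsMono
import Cfsg.Agent.S1324

/-!
# The frame record
-/

set_option autoImplicit false

open Subgroup

namespace Cfsg.Agent.U62Three.A.Base

universe u

variable {G : Type u} [Group G] [Finite G] {z : G} {Q : Subgroup G} (S : Base z Q) (h : Hyp z Q)

include h in
theorem j_mul (a b c : Fin 6) : S.j a b * S.j b c = S.j a c := by
  rw [j, j, j, ← S.φ_add h, sub_add_sub_cancel]

include h in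
theorem φ_cube (v : Crd.V) : S.φ v * S.φ v * S.φ v = 1 := by
  rw [← S.φ_add h, ← S.φ_add h, show v + v + v = 0 by revert v; decide +kernel, S.φ_zero]

include h in
theorem j_triple (a b c : Fin 6) : S.φ ((Crd.E a - Crd.E b) + (Crd.E c - Crd.E b)) = S.j a b * S.j c b :=
  S.φ_add h _ _

include h in
theorem hz : z = S.j 0 1 * S.j 2 1 := by rw [← S.j_triple h, ← Crd.z_triple, S.φ_z]

include h in
theorem hy_j : S.y = S.j 0 3 * S.j 1 3 := by
  rw [← S.j_triple h, show (Crd.E 0 - Crd.E 3) + (Crd.E 1 - Crd.E 3) = ((0, 1), (0, 0)) by decide, S.φ_y]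

include h in
theorem mem_J_of_Q {x : G} (hx : x ∈ Q) (hc : Commute x S.y) : x ∈ S.Jg := by
  have hyH := S.B.Pt_Hs h S.hy
  have hfix : ∀ u ∈ Q, Commute u S.y → ∀ i, M2.app (S.B.mat i S.y) (S.B.vec i u) = S.B.vec i u := fun u hu hcu i => by
    rw [← S.B.vec_conj h hyH i hu, hcu.symm.eq, mul_inv_cancel_right]
  have hk : ∀ i, ∃ n : ZMod 3, n.val • S.B.vec i (S.d i) = S.B.vec i x := fun i =>
    M2.det2_multiple _ _ (S.vec_d h i) (M2.fix_line _ (S.B.mat_det h hyH i)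
      (S.B.mat_cube h hyH (by rw [S.hy.cube h]; exact one_mem _) i)
      (fun e => two_block h S.hy S.B i (by rw [Bas.cl, e, M2.cls_one])) _ _
      (hfix _ (S.d_Q i) (S.d_comm_y i).symm i) (hfix x hx hc i))
  choose n hn using hk
  have hm : ∀ i, zp (S.d i) (n i) ∈ Q := fun i => pow_mem (S.d_Q i) _
  have hc' : x * (zp (S.d 0) (n 0) * zp (S.d 1) (n 1))⁻¹ ∈ zpowers z :=
    S.B.vec_ext h hx (mul_mem (hm 0) (hm 1)) fun i => by
      rw [S.B.vec_mul h i (hm 0) (hm 1)]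
      rcases Bas.fin_cases_two i with rfl | rfl
      · rw [S.B.vec_other h (by decide : (0 : Fin 2) ≠ 1) (x := zp (S.d 1) (n 1)) (pow_mem (S.ax 1).d_mem _),
          add_zero, zp, S.B.vec_pow h 0 (S.d_Q 0), hn]
      · rw [S.B.vec_other h (by decide : (1 : Fin 2) ≠ 0) (x := zp (S.d 0) (n 0)) (pow_mem (S.ax 0).d_mem _),
          zero_add, zp, S.B.vec_pow h 1 (S.d_Q 1), hn]
  refine (S.mem_Jg h).2 ⟨((lg z (x * (zp (S.d 0) (n 0) * zp (S.d 1) (n 1))⁻¹), 0), (n 0, n 1)), ?_⟩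
  simp only [φ, zp_zero, mul_one]
  rw [zp_lg h hc', inv_mul_cancel_right]

include h in
theorem fix_d_Hs {g : G} (hg : g ∈ centralizer ({z} : Set G)) (hd : ∀ i, Commute g (S.d i)) :
    g ∈ S.B.Hs ∧ g ^ 3 ∈ Q := by
  have hH : g ∈ S.B.Hs := by
    obtain ⟨k, hk⟩ := S.B.perm_P h hg 0
    have h1 := (hk (S.d 0)).1 (S.ax 0).d_mem
    rw [(hd 0).eq, mul_inv_cancel_right] at h1
    obtain rfl : k = 0 := Bas.fin_zero fun e => by
      subst e
      exact (S.ax 0).d_z (S.B.blocks_inf h (S.ax 0).d_mem h1)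
    exact (S.B.mem_Hs_iff h hg).2 fun x hx => (hk x).1 hx
  refine ⟨hH, S.B.mem_Q_of_mat h (pow_mem hH 3) fun i => ?_⟩
  have hm : S.B.mat i (g ^ 3) = M2.cube (S.B.mat i g) := by
    rw [pow_succ', pow_two, S.B.mat_mul h hH (mul_mem hH hH), S.B.mat_mul h hH hH]; rfl
  rw [hm]
  refine M2.fix_cube _ (S.B.mat_det h hH i) (S.B.vec i (S.d i)) (S.vec_d h i) ?_
  rw [← S.B.vec_conj h hH i (S.d_Q i), (hd i).eq, mul_inv_cancel_right]

include h in
theorem sig_z {Y : Subgroup G} (hcop : (Nat.card ↥Y).Coprime 3) (hY : Y ≤ centralizer ({z} : Set G))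
    (hJ : S.Jg ≤ normalizer (Y : Set G)) : Y = ⊥ := by
  have h3 : ∀ g ∈ Y, g ^ 3 = 1 → g = 1 := fun g hg e => by
    have h1 : orderOf g ∣ 3 := orderOf_dvd_of_pow_eq_one e
    have h2 : orderOf g ∣ Nat.card ↥Y := by
      rw [← orderOf_mk g hg]; exact orderOf_dvd_natCard _
    exact orderOf_eq_one_iff.1 (Nat.eq_one_of_dvd_coprimes hcop h2 h1)
  refine (eq_bot_iff_forall _).2 fun g hg => ?_
  have hgH := hY hg
  have hd : ∀ i, Commute g (S.d i) := fun i => by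
    have hdn : S.d i ∈ normalizer (Y : Set G) := hJ (by
      rcases Bas.fin_cases_two i with rfl | rfl
      · exact (S.mem_Jg h).2 ⟨_, S.φ_d0⟩
      · exact (S.mem_Jg h).2 ⟨_, S.φ_d1⟩)
    have h1 : g * S.d i * g⁻¹ * (S.d i)⁻¹ ∈ Q := mul_mem (conj_mem h hgH (S.d_Q i)) (inv_mem (S.d_Q i))
    have h2 : g * S.d i * g⁻¹ * (S.d i)⁻¹ ∈ Y := by
      rw [show g * S.d i * g⁻¹ * (S.d i)⁻¹ = g * (S.d i * g⁻¹ * (S.d i)⁻¹) by group]
      exact mul_mem hg ((mem_normalizer_iff.1 hdn _).1 (inv_mem hg))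
    exact mul_inv_eq_iff_eq_mul.1 (mul_inv_eq_one.1 (h3 _ h2 (S.B.cube h h1)))
  have hQ := (S.fix_d_Hs h hgH hd).2
  exact h3 g hg (h3 _ (pow_mem hg 3) (S.B.cube h hQ))

include h in
theorem points {g : G} (hg : g * z * g⁻¹ ∈ S.Jg) :
    ∃ σ : Equiv.Perm (Fin 6), g * z * g⁻¹ = S.j (σ 0) (σ 1) * S.j (σ 2) (σ 1) := by
  obtain ⟨v, hv⟩ := (S.mem_Jg h).1 hg
  rw [← hv]
  have key : ∀ u, (∃ a b c : Fin 6, a ≠ b ∧ a ≠ c ∧ b ≠ c ∧ u = (Crd.E a - Crd.E b) + (Crd.E c - Crd.E b)) →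
      ∃ σ : Equiv.Perm (Fin 6), S.φ u = S.j (σ 0) (σ 1) * S.j (σ 2) (σ 1) := by
    rintro u ⟨a, b, c, hab, hac, hbc, rfl⟩
    obtain ⟨e0, e1, e2⟩ := Crd.perm3_spec a b c hab hac hbc
    exact ⟨Crd.perm3 a b c, by rw [e0, e1, e2, S.j_triple h]⟩
  rcases S.pts h (v := v) (hv ▸ Tp_conj (self_mem_Tp z) g) with e | e | ⟨w, e | e⟩ <;> subst e
  · exact key _ ⟨0, 1, 2, by decide, by decide, by decide, Crd.z_triple⟩
  · exact key _ ⟨3, 4, 5, by decide, by decide, by decide, Crd.zi_triple⟩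
  · exact key _ (Crd.pnt_triple w)
  · exact key _ (Crd.pnt_triple_neg w)

include h in
theorem sig (X : Subgroup G) (hcop : (Nat.card ↥X).Coprime 3) (hJ : S.Jg ≤ normalizer (X : Set G)) : X = ⊥ := by
  classical
  haveI : Fact (Nat.Prime 3) := ⟨Nat.prime_three⟩
  have hcomm : ∀ a b : S.Jg, a * b = b * a := fun a b => Subtype.ext (by
    obtain ⟨v, hv⟩ := (S.mem_Jg h).1 a.2
    obtain ⟨w, hw⟩ := (S.mem_Jg h).1 b.2
    rw [Subgroup.coe_mul, Subgroup.coe_mul, ← hv, ← hw, ← S.φ_add h, ← S.φ_add h, add_comm])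
  have hel : IsElementaryAbelian 3 S.Jg := ⟨⟨⟨hcomm⟩⟩, fun a ha => by
    obtain ⟨v, rfl⟩ := (S.mem_Jg h).1 ha
    rw [pow_succ, pow_two]; exact S.φ_cube h v⟩
  rw [S1324.result 3 S.Jg X hel (by rw [S.card_Jg h]; norm_num)
    (Nat.prime_three.coprime_iff_not_dvd.1 hcop.symm) hJ]
  refine iSup_eq_bot.2 fun ⟨B, hB, hidx⟩ => ?_
  -- a conjugate of `z` centralised
  obtain ⟨g, hg⟩ : ∃ g : G, g * z * g⁻¹ ∈ B ∧ g * z * g⁻¹ ∈ S.Jg := by
    suffices hh : ∃ p ∈ B, p ∈ Tp z by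
      obtain ⟨p, hp, g, e | e⟩ := hh
      · exact ⟨g, e ▸ hp, hB (e ▸ hp)⟩
      · have e' : g * z * g⁻¹ = p⁻¹ := by rw [e]; group
        exact ⟨g, e' ▸ inv_mem hp, hB (e' ▸ inv_mem hp)⟩
    by_cases hzB : z ∈ B
    · exact ⟨z, hzB, self_mem_Tp z⟩
    have hex : ∀ x ∈ S.Jg, ∃ k : ZMod 3, zp z k * x ∈ B := by
      intro x hx
      have hzJ : ∀ k, zp z k ∈ S.Jg := fun k => pow_mem ((S.mem_Jg h).2 ⟨_, S.φ_z⟩) _
      let f : ZMod 3 → ↥S.Jg ⧸ B.subgroupOf S.Jg := fun k => QuotientGroup.mk ⟨zp z k, hzJ k⟩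
      have hf : Function.Injective f := fun a b e => by
        rw [QuotientGroup.eq, mem_subgroupOf, Subgroup.coe_mul, Subgroup.coe_inv] at e
        have e' : zp z (b - a) ∈ B := by
          rwa [show zp z (b - a) = (zp z a)⁻¹ * zp z b by
            rw [eq_inv_mul_iff_mul_eq, ← zp_add h, add_sub_cancel]]
        rcases Crd.three_cases (b - a) with e1 | e1 | e1
        · exact (sub_eq_zero.1 e1).symm
        · refine absurd ?_ hzB
          have h5 := mul_mem e' e'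
          rw [← zp_add h, e1] at h5
          simpa [zp, ZMod.val_one] using h5
        · exact absurd (by simpa [e1, zp, ZMod.val_one] using e') hzB
      have hbij : Function.Bijective f := (Nat.bijective_iff_injective_and_card f).2
        ⟨hf, le_antisymm (Nat.card_le_card_of_injective f hf) (by
          rw [← index_eq_card, Nat.card_zmod]; exact hidx)⟩
      obtain ⟨k, hk⟩ := hbij.2 (QuotientGroup.mk ⟨x, hx⟩)
      refine ⟨-k, ?_⟩
      rw [QuotientGroup.eq, mem_subgroupOf, Subgroup.coe_mul, Subgroup.coe_inv] at hk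
      rwa [show zp z (-k) = (zp z k)⁻¹ from eq_inv_of_mul_eq_one_left (by rw [← zp_add h, neg_add_cancel, zp_zero])]
    have hk : ∀ u : Crd.V, ∃ k : ZMod 3, S.φ (((k, 0), (0, 0)) + u) ∈ B := fun u => by
      obtain ⟨k, hk⟩ := hex _ ((S.mem_Jg h).2 ⟨u, rfl⟩)
      exact ⟨k, by rw [S.φ_add h]; simpa [φ, zp_zero] using hk⟩
    obtain ⟨k₁, h1⟩ := hk ((0, 1), (0, 0))
    obtain ⟨k₂, h2⟩ := hk ((0, 0), (1, 0))
    obtain ⟨k₃, h3⟩ := hk ((0, 0), (0, 1))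
    obtain ⟨w, hw⟩ := Crd.hyperplane_point k₁ k₂ k₃
    refine ⟨S.φ (Crd.pnt w), ?_, (S.pnt_pt h w).mem⟩
    have hn : ∀ (m : ℕ) (v : Crd.V), S.φ (m • v) = S.φ v ^ m := fun m v => by
      induction m with
      | zero => rw [zero_smul, S.φ_zero, pow_zero]
      | succ m ih => rw [succ_nsmul, S.φ_add h, ih, pow_succ]
    have := mul_mem (mul_mem h1 (pow_mem h2 w.1.val)) (pow_mem h3 w.2.val)
    rw [← hn, ← hn, ← S.φ_add h, ← S.φ_add h] at this
    convert this using 2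
    simp [Crd.pnt, Prod.ext_iff, hw]
  obtain ⟨σ, hσ⟩ := S.points h hg.2
  obtain ⟨n, hn, hnσ⟩ := S.real_all h σ
  have hnz : n * z * n⁻¹ = g * z * g⁻¹ :=
    calc n * z * n⁻¹ = n * (S.j 0 1 * S.j 2 1) * n⁻¹ := by rw [← S.hz h]
      _ = (n * S.j 0 1 * n⁻¹) * (n * S.j 2 1 * n⁻¹) := by group
      _ = _ := by rw [hnσ, hnσ, hσ]
  set Y := X ⊓ centralizer (B : Set G) with hY
  let Y' := Y.map (MulAut.conj n⁻¹).toMonoidHom
  have hY' : Y' = ⊥ := by
    refine S.sig_z h ?_ ?_ ?_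
    · rw [card_map_of_injective (MulAut.conj n⁻¹).injective]
      exact Nat.Coprime.coprime_dvd_left (card_dvd_of_le inf_le_left) hcop
    · rintro _ ⟨x, hx, rfl⟩
      rw [mem_centralizer_singleton_iff]
      show n⁻¹ * x * n⁻¹⁻¹ * z = z * (n⁻¹ * x * n⁻¹⁻¹)
      have e := mem_centralizer_iff.1 hx.2 _ (hnz ▸ hg.1)
      calc n⁻¹ * x * n⁻¹⁻¹ * z = n⁻¹ * (x * (n * z * n⁻¹)) * n := by group
        _ = n⁻¹ * ((n * z * n⁻¹) * x) * n := by rw [e]
        _ = _ := by group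
    · intro a ha
      have han : n * a * n⁻¹ ∈ S.Jg := (mem_normalizer_iff.1 hn a).1 ha
      have hbn : n * a * n⁻¹ ∈ normalizer (Y : Set G) := by
        refine mem_normalizer_iff.2 fun x => ?_
        have hcB : ∀ b ∈ B, b * (n * a * n⁻¹) = (n * a * n⁻¹) * b := fun b hb =>
          congrArg Subtype.val (hcomm ⟨b, hB hb⟩ ⟨_, han⟩)
        generalize n * a * n⁻¹ = c at han hcB ⊢
        rw [hY, mem_inf, mem_inf, ← mem_normalizer_iff.1 (hJ han) x, mem_centralizer_iff, mem_centralizer_iff]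
        refine and_congr_right fun _ => forall₂_congr fun b hb => ?_
        have e := hcB b hb
        constructor
        · intro e1
          calc b * (c * x * c⁻¹) = b * c * x * c⁻¹ := by group
            _ = c * (b * x) * c⁻¹ := by rw [e]; group
            _ = c * (x * b) * c⁻¹ := by rw [e1]
            _ = c * x * (b * c⁻¹) := by group
            _ = c * x * (c⁻¹ * b) := by rw [(Commute.inv_right e).eq]
            _ = c * x * c⁻¹ * b := by group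
        · intro e1
          have : c * (b * x) * c⁻¹ = c * (x * b) * c⁻¹ := by
            calc c * (b * x) * c⁻¹ = (c * b) * x * c⁻¹ := by group
              _ = (b * c) * x * c⁻¹ := by rw [e]
              _ = b * (c * x * c⁻¹) := by group
              _ = c * x * c⁻¹ * b := e1
              _ = c * x * c⁻¹ * (b * c) * c⁻¹ := by group
              _ = c * x * c⁻¹ * (c * b) * c⁻¹ := by rw [e]
              _ = _ := by group
          exact mul_left_cancel (mul_right_cancel this)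
      have h1 : (MulAut.conj n⁻¹).toMonoidHom (n * a * n⁻¹) ∈ normalizer (Y' : Set G) :=
        le_normalizer_map _ (mem_map_of_mem _ hbn)
      rwa [show (MulAut.conj n⁻¹).toMonoidHom (n * a * n⁻¹) = a by simp [mul_assoc]] at h1
  exact (map_eq_bot_iff_of_injective _ (MulAut.conj n⁻¹).injective).1 hY'

/-- The record. -/
noncomputable def frame (S : Base z Q) (h : Hyp z Q) : Frame z where
  j := S.j
  J := S.Jg
  span := S.span h
  cube := fun a b => S.φ_cube h _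
  comm := fun a b c d => by
    show S.φ _ * S.φ _ = S.φ _ * S.φ _
    rw [← S.φ_add h, ← S.φ_add h, add_comm]
  cocycle := S.j_mul h
  card := S.card_Jg h
  hz := S.hz h
  perm := S.real_all h
  sig := S.sig h

/-- `n` acts on the frame as plus or minus a permutation. -/
def Mono (n : G) : Prop := ∃ σ : Equiv.Perm (Fin 6),
  (∀ a b, n * S.j a b * n⁻¹ = S.j (σ a) (σ b)) ∨ ∀ a b, n * S.j a b * n⁻¹ = S.j (σ b) (σ a)

theorem Mono.mul {m n : G} (hm : S.Mono m) (hn : S.Mono n) : S.Mono (m * n) := by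
  obtain ⟨σ, hσ⟩ := hm
  obtain ⟨τ, hτ⟩ := hn
  have e : ∀ x : G, m * n * x * (m * n)⁻¹ = m * (n * x * n⁻¹) * m⁻¹ := fun x => by group
  refine ⟨σ * τ, ?_⟩
  rcases hσ with hσ | hσ <;> rcases hτ with hτ | hτ
  · exact Or.inl fun a b => by rw [e, hτ, hσ]; rfl
  · exact Or.inr fun a b => by rw [e, hτ, hσ]; rfl
  · exact Or.inr fun a b => by rw [e, hτ, hσ]; rfl
  · exact Or.inl fun a b => by rw [e, hτ, hσ]; rfl

include h in
theorem conj_Q_zero {n : G} (hn : n ∈ normalizer (S.Jg : Set G)) (hnz : n ∈ centralizer ({z} : Set G)) (i : Fin 2) :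
    ∃ (k : Fin 2) (a c : ZMod 3), c ≠ 0 ∧ (∀ x ∈ S.B.Qi i, n * x * n⁻¹ ∈ S.B.Qi k) ∧
      n * S.d i * n⁻¹ = S.φ (Crd.axis a c (decide (k = 1))) := by
  obtain ⟨k, hk⟩ := S.B.perm_P h hnz i
  have hdJ : S.d i ∈ S.Jg := by
    rcases Bas.fin_cases_two i with rfl | rfl
    · exact (S.mem_Jg h).2 ⟨_, S.φ_d0⟩
    · exact (S.mem_Jg h).2 ⟨_, S.φ_d1⟩
  obtain ⟨v, hv⟩ := (S.mem_Jg h).1 ((mem_normalizer_iff.1 hn _).1 hdJ)
  have hin := (hk _).1 (S.ax i).d_mem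
  change n * S.d i * n⁻¹ ∈ _ at hin
  rw [← hv] at hin
  have hv0 := (S.φ_Q h).1 (S.B.toTwo.Qi_le k hin)
  obtain ⟨⟨a, b⟩, c, e⟩ := v
  change b = 0 at hv0
  subst hv0
  have hzero : ∀ (n : ZMod 3) (v : ZMod 3 × ZMod 3), v ≠ 0 → n.val • v = 0 → n = 0 := by decide +kernel
  have hout := S.B.vec_other h (i := k.rev) (Two.rev_ne k) hin
  simp only [φ, zp_zero, mul_one] at hout
  have hm : ∀ (l : Fin 2) (r : ZMod 3), zp (S.d l) r ∈ Q := fun l r => pow_mem (S.d_Q l) _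
  rw [S.B.vec_mul h _ (zpowers_le_Q h (zp_mem a)) (mul_mem (hm 0 c) (hm 1 e)),
    S.B.vec_zpowers h _ (zp_mem a), zero_add, S.B.vec_mul h _ (hm 0 c) (hm 1 e), zp, zp,
    S.B.vec_pow h _ (S.d_Q 0), S.B.vec_pow h _ (S.d_Q 1)] at hout
  have hne : ((c, e) : ZMod 3 × ZMod 3) ≠ 0 := fun e1 => (S.ax i).d_z (by
    simp only [Prod.mk_eq_zero] at e1
    have h1 := conj_zpow (inv_mem hnz) (zp_mem (z := z) a)
    have h2 : S.φ ((a, 0), c, e) = zp z a := by simp [φ, e1.1, e1.2, zp_zero]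
    rw [show zp z a = n * S.d i * n⁻¹ from h2.symm.trans hv, show n⁻¹ * (n * S.d i * n⁻¹) * n⁻¹⁻¹ = S.d i by group,
      ← hv, h2] at h1
    exact (show S.d i ∈ zpowers z from h1 ▸ zp_mem a))
  rcases Bas.fin_cases_two k with rfl | rfl
  · have e0 : S.B.vec (Fin.rev 0) (S.d 0) = 0 := S.B.vec_other h (by decide) (S.ax 0).d_mem
    rw [e0, smul_zero, zero_add] at hout
    obtain rfl : e = 0 := hzero _ _ (S.vec_d h 1) hout
    exact ⟨0, a, c, fun e1 => hne (by rw [e1]; rfl), fun x hx => (hk x).1 hx, hv.symm⟩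
  · have e0 : S.B.vec (Fin.rev 1) (S.d 1) = 0 := S.B.vec_other h (by decide) (S.ax 1).d_mem
    rw [e0, smul_zero, add_zero] at hout
    obtain rfl : c = 0 := hzero _ _ (S.vec_d h 0) hout
    exact ⟨1, a, e, fun e1 => hne (by rw [e1]; rfl), fun x hx => (hk x).1 hx, hv.symm⟩

include h in
theorem mono {n : G} (hn : n ∈ normalizer (S.Jg : Set G)) : S.Mono n := by
  have hzJ : z ∈ S.Jg := (S.mem_Jg h).2 ⟨_, S.φ_z⟩
  obtain ⟨σ, hσ⟩ := S.points h ((mem_normalizer_iff.1 hn _).1 hzJ)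
  obtain ⟨m, hm, hmσ⟩ := S.real_all h σ
  set n₁ := m⁻¹ * n
  have hn₁ : n₁ ∈ normalizer (S.Jg : Set G) := mul_mem (inv_mem hm) hn
  have hn₁z : n₁ ∈ centralizer ({z} : Set G) := by
    have e : n * z * n⁻¹ = m * z * m⁻¹ :=
      (hσ.trans (by rw [← hmσ, ← hmσ]; group :
        S.j (σ 0) (σ 1) * S.j (σ 2) (σ 1) = m * (S.j 0 1 * S.j 2 1) * m⁻¹)).trans (by rw [← S.hz h])
    rw [mem_centralizer_singleton_iff]
    calc m⁻¹ * n * z = m⁻¹ * (n * z * n⁻¹) * n := by group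
      _ = z * (m⁻¹ * n) := by rw [e]; group
  -- the image of the point
  obtain ⟨v, hv⟩ := (S.mem_Jg h).1 ((mem_normalizer_iff.1 hn₁ _).1 ((S.mem_Jg h).2 ⟨_, S.φ_y⟩))
  have hvQ : S.φ v ∉ Q := fun h1 => S.hy.out (by
    rw [hv] at h1
    simpa [mul_assoc] using conj_mem h (inv_mem hn₁z) h1)
  obtain ⟨w, ε, hε, hvw⟩ : ∃ w, ∃ ε : ZMod 3, ε ≠ 0 ∧ v = ε.val • Crd.pnt w := by
    rcases S.pts h (v := v) (hv ▸ Tp_conj S.hy.mem n₁) with e | e | ⟨w, e | e⟩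
    · exact absurd ((S.φ_Q h).2 (by rw [e])) hvQ
    · exact absurd ((S.φ_Q h).2 (by rw [e])) hvQ
    · exact ⟨w, 1, by decide, by rw [e]; simp [ZMod.val_one]⟩
    · exact ⟨w, 2, by decide, e.trans (Crd.neg_eq_two _)⟩
  obtain ⟨q, hq, hqy, τ, hτ⟩ := S.pnt_mem h w
  have hqn : q ∈ normalizer (S.Jg : Set G) := S.norm_of_maps h fun x hx => by
    rw [S.span h] at hx
    induction hx using closure_induction with
    | mem x hx =>
        obtain ⟨⟨a, b⟩, rfl⟩ := hx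
        rw [hτ]; exact subset_closure ⟨_, rfl⟩
    | one => simpa using one_mem S.Jg
    | mul x y _ _ hx hy => rw [← conj_mul]; exact mul_mem hx hy
    | inv x _ hx => rw [← conj_inv]; exact inv_mem hx
  have hqz := h.le hq
  set n₂ := q⁻¹ * n₁
  have hn₂ : n₂ ∈ normalizer (S.Jg : Set G) := mul_mem (inv_mem hqn) hn₁
  have hn₂z : n₂ ∈ centralizer ({z} : Set G) := mul_mem (inv_mem hqz) hn₁z
  have hn₂y : n₂ * S.y * n₂⁻¹ = S.φ ((0, ε), (0, 0)) := by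
    have e2 : n₁ * S.y * n₁⁻¹ = (S.φ (Crd.pnt w)) ^ ε.val := by
      rw [← hv, hvw]
      generalize ε.val = k
      induction k with
      | zero => rw [zero_smul, S.φ_zero, pow_zero]
      | succ k ih => rw [succ_nsmul, S.φ_add h, ih, pow_succ]
    show q⁻¹ * n₁ * S.y * (q⁻¹ * n₁)⁻¹ = _
    rw [show q⁻¹ * n₁ * S.y * (q⁻¹ * n₁)⁻¹ = q⁻¹ * (n₁ * S.y * n₁⁻¹) * q⁻¹⁻¹ by group, e2, ← conj_pow, ← hqy,
      show q⁻¹ * (q * S.y * q⁻¹) * q⁻¹⁻¹ = S.y by group]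
    simp [φ, zp]
  obtain ⟨k₀, a₀, c₀, hc₀, hk₀, e₀⟩ := S.conj_Q_zero h hn₂ hn₂z 0
  obtain ⟨k₁, a₁, c₁, hc₁, hk₁, e₁⟩ := S.conj_Q_zero h hn₂ hn₂z 1
  have hk : decide (k₁ = 1) = !decide (k₀ = 1) := by
    have : k₁ ≠ k₀ := fun e => by
      subst e
      refine S.B.Qi_ne h ?_
      obtain ⟨k', hk'⟩ := S.B.perm_P h hn₂z 0
      have e' : k' = k₁ := by
        by_contra hne
        have h1 := hk₀ _ (S.ax 0).d_mem
        have h2 := (hk' _).1 (S.ax 0).d_mem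
        have h3 := conj_zpow (inv_mem hn₂z) (S.B.blocks_inf h h1 (Two.eq_rev (Ne.symm hne) ▸ h2))
        rw [show n₂⁻¹ * (n₂ * (S.ax 0).d * n₂⁻¹) * n₂⁻¹⁻¹ = (S.ax 0).d by group] at h3
        exact (S.ax 0).d_z (by rw [h3]; exact S.B.blocks_inf h h1 (Two.eq_rev (Ne.symm hne) ▸ h2))
      subst e'
      exact (eq_of_le_of_card_ge (fun x hx => (hk' x).2 (hk₁ x hx)) (by rw [S.B.card_Qi, S.B.card_Qi])).symm
    exact Crd.fin_two_not this
  rw [hk] at e₁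
  have hA : S.Acts n₂ (Crd.fixing ε a₀ c₀ a₁ c₁ (decide (k₀ = 1))) :=
    S.acts_lin h (by rw [mem_centralizer_singleton_iff.1 hn₂z, mul_inv_cancel_right, S.φ_z]) hn₂y e₀ e₁
  have hpt : ∀ u, Crd.isPt (Crd.fixing ε a₀ c₀ a₁ c₁ (decide (k₀ = 1)) (Crd.pnt u)) := fun u =>
    Crd.isPt_of (S.pts h (by rw [← hA]; exact Tp_conj (S.pnt_pt h u).mem _))
  obtain ⟨rfl, rfl, rfl⟩ := Crd.fixing_cases ε a₀ c₀ a₁ c₁ _ hε hc₀ hc₁ (hpt _) (hpt _) (hpt _) (hpt _)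
  have hM₂ : S.Mono n₂ := by
    refine ⟨Crd.fixPerm c₀ c₁ (decide (k₀ = 1)), ?_⟩
    cases hdec : decide (k₀ = 1)
    · exact Or.inl fun a b => by rw [j, hA, hdec, (Crd.fixing_E c₀ c₁ hc₀ hc₁ a b).1]; rfl
    · exact Or.inr fun a b => by rw [j, hA, hdec, (Crd.fixing_E c₀ c₁ hc₀ hc₁ a b).2]; rfl
  have e : n = m * (q * n₂) := by
    show n = m * (q * (q⁻¹ * (m⁻¹ * n))); group
  rw [e]
  exact Mono.mul S ⟨σ, Or.inl hmσ⟩ (Mono.mul S ⟨τ, Or.inl hτ⟩ hM₂)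

end Cfsg.Agent.U62Three.A.Base
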