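import Cfsg.Agent.U62Three.A.Split

/-!
# The two involutions and their quaternion groups

The centre of the complement part consists of three involutions; two of them invert a block of order 27 and
centralise the other, and the complement part is the product of the two kernels of the actions on the blocks.
-/

set_option autoImplicit false

open Subgroup

namespace Cfsg.Agent.U62Three.A

universe u

variable {G : Type u} [Group G] {z : G} {Q : Subgroup G}

/-- The complement part and its two involutions. -/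
structure Two (z : G) (Q : Subgroup G) where
  /-- The complement part. -/
  P : Subgroup G
  P_le : P ≤ centralizer ({z} : Set G)
  iso : Nonempty (↥P ≃* QuaternionGroup 2 × QuaternionGroup 2)
  norm : centralizer ({z} : Set G) ≤ normalizer ((Q ⊔ P : Subgroup G) : Set G)
  /-- The involutions. -/
  t : Fin 2 → G
  t_P : ∀ i, t i ∈ P
  t_ne : ∀ i, t i ≠ 1
  t_sq : ∀ i, t i * t i = 1
  t_cen : ∀ i, ∀ p ∈ P, Commute p (t i)
  t_dist : t 0 ≠ t 1
  t_card : ∀ i, Nat.card ↥(cs Q (t i)) = 27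

theorem quat_sq : ∀ x : QuaternionGroup 2 × QuaternionGroup 2, x * x = 1 →
    x = 1 ∨ x = (QuaternionGroup.a 2, 1) ∨ x = (1, QuaternionGroup.a 2) ∨
      x = (QuaternionGroup.a 2, QuaternionGroup.a 2) := by decide +kernel

theorem quat_central : ∀ x : QuaternionGroup 2 × QuaternionGroup 2, x * x = 1 → ∀ y, y * x = x * y := by
  decide +kernel

theorem quat_fourth : ∀ x : QuaternionGroup 2 × QuaternionGroup 2, x * x * (x * x) = 1 := by decide +kernel

theorem P_fourth {P : Subgroup G} (e : ↥P ≃* QuaternionGroup 2 × QuaternionGroup 2) {p : G} (hp : p ∈ P) :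
    p * p * (p * p) = 1 := by
  have := quat_fourth (e ⟨p, hp⟩)
  rw [← map_mul, ← map_mul, ← map_one e] at this
  exact congrArg Subtype.val (e.injective this)

theorem P_central {P : Subgroup G} (e : ↥P ≃* QuaternionGroup 2 × QuaternionGroup 2) {p s : G}
    (hp : p ∈ P) (hs : s ∈ P) (h2 : s * s = 1) : Commute p s := by
  have h2' : (⟨s, hs⟩ : ↥P) * ⟨s, hs⟩ = 1 := Subtype.ext h2
  have := quat_central (e ⟨s, hs⟩) (by rw [← map_mul, h2', map_one]) (e ⟨p, hp⟩)
  rw [← map_mul, ← map_mul] at this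
  exact congrArg Subtype.val (e.injective this)

variable [Finite G]

theorem not_both {h : Hyp z Q} {s s' : G} (hs : s ∈ centralizer ({z} : Set G))
    (hs' : s' ∈ centralizer ({z} : Set G)) (h2 : s * s = 1) (h2' : s' * s' = 1) (hc : Commute s s')
    (hne : s * s' ≠ 1) (hh : ∀ x ∈ Q, x ∈ iv h s hs ↔ x ∈ iv h s' hs') : False := by
  have hm : s * s' ∈ centralizer ({z} : Set G) := mul_mem hs hs'
  have hm2 : (s * s') * (s * s') = 1 := by
    rw [show s * s' * (s * s') = s * (s' * s) * s' by group, hc.symm.eq, ← mul_assoc, h2, one_mul, h2']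
  have hall : ∀ x ∈ Q, x ∈ cs Q (s * s') := by
    intro x hx
    obtain ⟨a, ha, b, hb, rfl⟩ := split h hs h2 hx
    have hb' := (hh b hb.1).1 hb
    have ha' : a ∈ cs Q s' := by
      obtain ⟨c, hcc, d, hd, rfl⟩ := split h hs' h2' (mem_cs.1 ha).1
      have hd' := (hh d hd.1).2 hd
      have : d ∈ zpowers z := iv_centre h hs h2 hd' fun e he => by
        have h1 := (commute h hs ha he)
        have h3 := (commute h hs' hcc ((hh e he.1).1 he))
        simpa using h3.inv_left.mul_left h1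
      exact mul_mem hcc ((zpowers_le h hs').1 this)
    refine mem_cs_of_fix h hm hm2 hx ?_
    obtain ⟨w, hw, e1⟩ : ∃ w ∈ zpowers z, s * b * s⁻¹ = w * b⁻¹ := ⟨_, hb.2, by group⟩
    obtain ⟨w', hw', e2⟩ : ∃ w' ∈ zpowers z, s' * b * s'⁻¹ = w' * b⁻¹ := ⟨_, hb'.2, by group⟩
    have e3 : s * s' * (a * b) * (s * s')⁻¹ = a * (w' * (b * w⁻¹)) := by
      rw [show s * s' * (a * b) * (s * s')⁻¹ = (s * (s' * a * s'⁻¹) * s⁻¹) * (s * (s' * b * s'⁻¹) * s⁻¹)
        by group, (mem_cs.1 ha').2.eq, mul_inv_cancel_right, (mem_cs.1 ha).2.eq, mul_inv_cancel_right, e2,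
        show s * (w' * b⁻¹) * s⁻¹ = (s * w' * s⁻¹) * (s * b * s⁻¹)⁻¹ by group, conj_zpow hs hw', e1]
      group
    rw [e3, show a * (w' * (b * w⁻¹)) * (a * b)⁻¹ = (a * w' * a⁻¹) * ((a * b) * w⁻¹ * (a * b)⁻¹) by group,
      conj_zpow (h.le (mem_cs.1 ha).1) hw', conj_zpow (h.le hx) (inv_mem hw)]
    exact mul_mem hw' (inv_mem hw)
  have hcard := Subgroup.card_le_of_le (H := Q) (K := cs Q (s * s')) hall
  rw [h.card] at hcard
  rcases card_cs h hm hm2 hne with ⟨e, -⟩ | ⟨e, -⟩ <;> omega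

theorem exists_two (h : Hyp z Q) : Nonempty (Two z Q) := by
  obtain ⟨P, hP, ⟨e⟩, hn⟩ := h.quat
  let m : QuaternionGroup 2 × QuaternionGroup 2 → G := fun x => ((e.symm x : ↥P) : G)
  have mm : ∀ x y, m (x * y) = m x * m y := fun x y => by simp [m]
  have minj : ∀ x y, m x = m y → x = y := fun x y exy => e.symm.injective (Subtype.ext exy)
  have mone : m 1 = 1 := by simp [m]
  let c : QuaternionGroup 2 := QuaternionGroup.a 2
  let A : Fin 3 → QuaternionGroup 2 × QuaternionGroup 2 := ![(c, 1), (1, c), (c, c)]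
  have hA : ∀ i, A i * A i = 1 ∧ A i ≠ 1 := by decide +kernel
  have hAA : ∀ i k, i ≠ k → A i * A k ≠ 1 := by decide +kernel
  have hinj : ∀ i k, A i = A k → i = k := by decide +kernel
  let s : Fin 3 → G := fun i => m (A i)
  have hsP : ∀ i, s i ∈ P := fun i => (e.symm (A i)).2
  have hs2 : ∀ i, s i * s i = 1 := fun i => by rw [← mm, (hA i).1, mone]
  have hs1 : ∀ i, s i ≠ 1 := fun i ei => (hA i).2 (minj _ _ (ei.trans mone.symm))
  have hsc : ∀ i, ∀ p ∈ P, Commute p (s i) := fun i p hp => P_central e hp (hsP i) (hs2 i)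
  have hone : ∀ i k, i ≠ k → ¬ (Nat.card ↥(cs Q (s i)) = 3 ∧ Nat.card ↥(cs Q (s k)) = 3) := by
    rintro i k hik ⟨ei, ek⟩
    have full : ∀ l, Nat.card ↥(cs Q (s l)) = 3 → ∀ x ∈ Q, x ∈ iv h (s l) (hP (hsP l)) := by
      intro l el x hx
      refine iv_of_commute h (hP (hsP l)) (hs2 l) hx fun a ha => ?_
      have : cs Q (s l) = zpowers z := (eq_of_le_of_card_ge (zpowers_le h (hP (hsP l))).1
        (by rw [el, Nat.card_zpowers, h.oz])).symm
      exact comm_zpow (h.le hx) (this ▸ ha)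
    refine not_both (h := h) (hP (hsP i)) (hP (hsP k)) (hs2 i) (hs2 k) (hsc k _ (hsP i)) ?_
      fun x hx => ⟨fun _ => full k ek x hx, fun _ => full i ei x hx⟩
    rw [← mm]
    exact fun e1 => hAA i k hik (minj _ _ (e1.trans mone.symm))
  have h27 : ∀ i, Nat.card ↥(cs Q (s i)) = 3 ∨ Nat.card ↥(cs Q (s i)) = 27 := fun i =>
    (card_cs h (hP (hsP i)) (hs2 i) (hs1 i)).imp And.left And.left
  obtain ⟨i, k, hik, ei, ek⟩ : ∃ i k : Fin 3, i ≠ k ∧ Nat.card ↥(cs Q (s i)) = 27 ∧
      Nat.card ↥(cs Q (s k)) = 27 := by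
    rcases h27 0 with a | a <;> rcases h27 1 with b | b <;> rcases h27 2 with d | d
    all_goals first
      | exact (hone 0 1 (by decide) (And.intro a b)).elim
      | exact (hone 0 2 (by decide) (And.intro a d)).elim
      | exact (hone 1 2 (by decide) (And.intro b d)).elim
      | exact ⟨0, 1, by decide, a, b⟩
      | exact ⟨0, 2, by decide, a, d⟩
      | exact ⟨1, 2, by decide, b, d⟩
  exact ⟨⟨P, hP, ⟨e⟩, hn, ![s i, s k], fun l => by fin_cases l <;> simp [hsP], fun l => by
    fin_cases l <;> simp [hs1], fun l => by fin_cases l <;> simp [hs2], fun l p hp => by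
    fin_cases l <;> simp [hsc _ p hp], fun e1 => hik (hinj i k (minj _ _ e1)), fun l => by fin_cases l <;> simp [ei, ek]⟩⟩

end Cfsg.Agent.U62Three.A
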