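import Cfsg.Agent.U62Three.A.FrameFacts

/-!
# The centraliser of the frame
-/

set_option autoImplicit false

open Subgroup

namespace Cfsg.Agent.U62Three.A.Base

universe u

variable {G : Type u} [Group G] [Finite G] {z : G} {Q : Subgroup G} (S : Base z Q) (h : Hyp z Q)

/-- The centraliser of the frame. -/
def CJ : Subgroup G := centralizer (S.Jg : Set G)

include h in
theorem CJ_comm {g : G} (hg : g ∈ S.CJ) (v : Crd.V) : Commute g (S.φ v) :=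
  (mem_centralizer_iff.1 hg _ ((S.mem_Jg h).2 ⟨v, rfl⟩)).symm

include h in
theorem CJ_of {g : G} (hz : Commute g z) (hy : Commute g S.y) (hd : ∀ i, Commute g (S.d i)) : g ∈ S.CJ :=
  mem_centralizer_iff.2 fun x hx => by
    obtain ⟨v, rfl⟩ := (S.mem_Jg h).1 hx
    exact (((hz.pow_right _).mul_right (hy.pow_right _)).mul_right
      (((hd 0).pow_right _).mul_right ((hd 1).pow_right _))).symm.eq

include h in
theorem Jg_le_CJ : S.Jg ≤ S.CJ := fun x hx => mem_centralizer_iff.2 fun w hw => by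
  obtain ⟨v, rfl⟩ := (S.mem_Jg h).1 hx
  obtain ⟨u, rfl⟩ := (S.mem_Jg h).1 hw
  rw [← S.φ_add h, ← S.φ_add h, add_comm]

include h in
theorem CJ_info {g : G} (hg : g ∈ S.CJ) : g ∈ S.B.Hs ∧ g ^ 3 ∈ Q ∧ g ^ 3 ∈ S.Jg := by
  have hz : Commute g z := by have := S.CJ_comm h hg ((1, 0), (0, 0)); rwa [S.φ_z] at this
  have hy : Commute g S.y := by have := S.CJ_comm h hg ((0, 1), (0, 0)); rwa [S.φ_y] at this
  have hd : ∀ i, Commute g (S.d i) := fun i => by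
    rcases Bas.fin_cases_two i with rfl | rfl
    · have := S.CJ_comm h hg ((0, 0), (1, 0)); rwa [S.φ_d0] at this
    · have := S.CJ_comm h hg ((0, 0), (0, 1)); rwa [S.φ_d1] at this
  have h1 := S.fix_d_Hs h (mem_centralizer_singleton_iff.2 hz.eq) hd
  exact ⟨h1.1, h1.2, S.mem_J_of_Q h h1.2 (hy.pow_left 3)⟩

include h in
theorem centJ : IsPGroup 3 ↥S.CJ := fun g => ⟨2, Subtype.ext (by
  rw [SubgroupClass.coe_pow, OneMemClass.coe_one, show 3 ^ 2 = 3 * 3 by norm_num, pow_mul]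
  exact S.B.cube h (S.CJ_info h g.2).2.1)⟩

include h in
/-- An element of the centraliser with equal classes lies in the frame. -/
theorem CJ_eq {g : G} (hg : g ∈ S.CJ) (e : S.B.cl 0 g = S.B.cl 1 g) : g ∈ S.Jg := by
  obtain ⟨hH, h3, -⟩ := S.CJ_info h hg
  have hyH := S.B.Pt_Hs h S.hy
  set k := S.B.cl 0 g
  have hy : Commute g S.y := by have := S.CJ_comm h hg ((0, 1), (0, 0)); rwa [S.φ_y] at this
  set w := g * (S.y ^ k.val)⁻¹ with hw
  have hwy : Commute g (S.y ^ k.val)⁻¹ := (hy.pow_right _).inv_right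
  have hw3 : w ^ 3 ∈ Q := by
    rw [hw, hwy.mul_pow, inv_pow, ← pow_mul, mul_comm, pow_mul, S.hy.cube h, one_pow, inv_one, mul_one]
    exact h3
  have hcl : ∀ i, S.B.cl i w = 0 := fun i => by
    rw [hw, S.B.cl_mul h hH (inv_mem (pow_mem hyH _)), S.B.cl_inv h (pow_mem hyH _), S.B.cl_pow h hyH,
      S.cl_eq h, nsmul_one, ZMod.natCast_zmod_val]
    rcases Bas.fin_cases_two i with rfl | rfl
    · exact add_neg_cancel _
    · rw [← e]; exact add_neg_cancel _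
  have hQ := S.B.mem_Q_of_cl h (mul_mem hH (inv_mem (pow_mem hyH _))) hw3 hcl
  have hwJ := S.mem_J_of_Q h hQ (hy.mul_left ((Commute.refl S.y).pow_left _).inv_left)
  have := mul_mem hwJ (pow_mem ((S.mem_Jg h).2 ⟨_, S.φ_y⟩ : S.y ∈ S.Jg) k.val)
  rwa [inv_mul_cancel_right] at this

include h in
theorem dvd_of_cl {g : G} (hg : g ∈ S.B.Hs) (e : S.B.cl 0 g ≠ S.B.cl 1 g) :
    3 ^ 7 ∣ Nat.card ↥(centralizer ({z} : Set G)) := by
  classical
  let ψ : ↥S.B.Hs →* Multiplicative (ZMod 3 × ZMod 3) :=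
    MonoidHom.mk' (fun x => Multiplicative.ofAdd (S.B.cl 0 x, S.B.cl 1 x)) fun a b => by
      rw [← ofAdd_add, Prod.mk_add_mk, ← S.B.cl_mul h a.2 b.2, ← S.B.cl_mul h a.2 b.2]
      rfl
  have hsurj : Function.Surjective ψ := fun v => by
    have hkl : ∀ g₀ g₁ a b : ZMod 3, g₀ ≠ g₁ →
        ∃ k l : ZMod 3, k.val • g₀ + l.val • (1 : ZMod 3) = a ∧ k.val • g₁ + l.val • (1 : ZMod 3) = b := by
      decide +kernel
    obtain ⟨k, l, h1, h2⟩ := hkl _ _ (Multiplicative.toAdd v).1 (Multiplicative.toAdd v).2 e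
    have hyH := S.B.Pt_Hs h S.hy
    refine ⟨⟨g ^ k.val * S.y ^ l.val, mul_mem (pow_mem hg _) (pow_mem hyH _)⟩, ?_⟩
    show Multiplicative.ofAdd (_, _) = v
    simp only [S.B.cl_mul h (pow_mem hg _) (pow_mem hyH _), S.B.cl_pow h hg, S.B.cl_pow h hyH, S.cl_eq h, h1, h2]
    rfl
  have hk := ψ.ker.card_eq_card_quotient_mul_card_subgroup
  rw [Nat.card_congr (QuotientGroup.quotientKerEquivOfSurjective ψ hsurj).toEquiv,
    Nat.card_congr Multiplicative.toAdd, Nat.card_prod, Nat.card_zmod] at hk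
  have hQ : Q.subgroupOf S.B.Hs ≤ ψ.ker := fun x hx => by
    show Multiplicative.ofAdd (_, _) = 1
    rw [S.B.cl_Q h (mem_subgroupOf.1 hx), S.B.cl_Q h (mem_subgroupOf.1 hx)]
    rfl
  have h1 := card_dvd_of_le hQ
  rw [Nat.card_congr (subgroupOfEquivOfLe (S.B.Q_le_Hs h)).toEquiv, h.card] at h1
  refine dvd_trans ?_ (card_dvd_of_le S.B.Hs_le)
  rw [hk, show 3 ^ 7 = 3 * 3 * 3 ^ 5 by norm_num]
  exact mul_dvd_mul_left _ h1

include h in
theorem narrow (hn : ¬ 3 ^ 7 ∣ Nat.card ↥(centralizer ({z} : Set G))) : S.CJ = S.Jg := by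
  refine le_antisymm (fun g hg => S.CJ_eq h hg ?_) (S.Jg_le_CJ h)
  by_contra e
  exact hn (S.dvd_of_cl h (S.CJ_info h hg).1 e)

include h in
theorem moved {g : G} (hg : g * z * g⁻¹ ∈ centralizer ({z} : Set G) ∧ g * z * g⁻¹ ∉ zpowers z) :
    ∃ k ∈ centralizer ({z} : Set G),
      k * (g * z * g⁻¹) * k⁻¹ = S.j 0 3 * S.j 1 3 ∨ k * (g * z * g⁻¹) * k⁻¹ = (S.j 0 3 * S.j 1 3)⁻¹ := by
  rw [← S.hy_j h]
  have hp : Pt z Q (g * z * g⁻¹) := ⟨⟨g, Or.inl rfl⟩, hg.1, fun h1 => hg.2 (h.weak g h1)⟩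
  have hk : ∀ k : ZMod 3, k ≠ 0 → k = 1 ∨ -k = 1 := by decide
  rcases hk _ (two_block h hp S.B 0) with e | e
  · obtain ⟨k, hk, e1⟩ := conj_of_cl h S.B S.hy hp (by rw [e, S.cl])
    exact ⟨k, hk, Or.inl e1⟩
  · obtain ⟨k, hk, e1⟩ := conj_of_cl h S.B S.hy (p := (g * z * g⁻¹)⁻¹)
      ⟨Tp_inv hp.mem, inv_mem hp.cen, fun h1 => hp.out (inv_mem_iff.1 h1)⟩
      (by rw [S.B.cl_inv h (S.B.Pt_Hs h hp), e, S.cl])
    exact ⟨k, hk, Or.inr (by rw [← e1]; group)⟩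

include h in
theorem j_inf {x : G} (hx : x ∈ S.Jg) (hQ : x ∈ Q) :
    x ∈ closure ({S.j 0 1, S.j 1 2, S.j 3 4, S.j 4 5} : Set G) := by
  obtain ⟨v, rfl⟩ := (S.mem_Jg h).1 hx
  have hv := (S.φ_Q h).1 hQ
  have hn : ∀ (m : ℕ) (w : Crd.V), S.φ (m • w) = S.φ w ^ m := fun m w => by
    induction m with
    | zero => rw [zero_smul, S.φ_zero, pow_zero]
    | succ m ih => rw [succ_nsmul, S.φ_add h, ih, pow_succ]
  have h01 : S.j 0 1 ∈ closure ({S.j 0 1, S.j 1 2, S.j 3 4, S.j 4 5} : Set G) := subset_closure (by simp)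
  have h12 : S.j 1 2 ∈ closure ({S.j 0 1, S.j 1 2, S.j 3 4, S.j 4 5} : Set G) := subset_closure (by simp)
  have h45 : S.j 4 5 ∈ closure ({S.j 0 1, S.j 1 2, S.j 3 4, S.j 4 5} : Set G) := subset_closure (by simp)
  rw [Crd.span_zero v hv]
  simp only [S.φ_add h, S.φ_neg h, hn]
  exact mul_mem (pow_mem (mul_mem h01 (inv_mem h12)) _) (mul_mem (pow_mem h01 _) (pow_mem h45 _))

include h in
theorem j_blocks : (S.j 0 1 ∈ S.B.Qi 0 ∧ S.j 1 2 ∈ S.B.Qi 0) ∧ (S.j 3 4 ∈ S.B.Qi 1 ∧ S.j 4 5 ∈ S.B.Qi 1) := by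
  have hz : ∀ i, z ∈ S.B.Qi i := fun i => S.B.z_mem_Qi h i (mem_zpowers z)
  have e : ∀ (a c k : ZMod 3), S.φ ((a, 0), (c, k)) = zp z a * (zp (S.d 0) c * zp (S.d 1) k) := fun a c k => by
    simp [φ, zp_zero]
  refine ⟨⟨?_, ?_⟩, ?_, ?_⟩
  · rw [j, show Crd.E 0 - Crd.E 1 = ((0, 0), (1, 0)) by decide, S.φ_d0]
    exact (S.ax 0).d_mem
  · rw [j, show Crd.E 1 - Crd.E 2 = ((2, 0), (1, 0)) by decide, e, zp_zero, mul_one]
    exact mul_mem (pow_mem (hz 0) _) (pow_mem (S.ax 0).d_mem _)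
  · rw [j, show Crd.E 3 - Crd.E 4 = ((2, 0), (0, 1)) by decide, e, zp_zero, one_mul]
    exact mul_mem (pow_mem (hz 1) _) (pow_mem (S.ax 1).d_mem _)
  · rw [j, show Crd.E 4 - Crd.E 5 = ((0, 0), (0, 1)) by decide, S.φ_d1]
    exact (S.ax 1).d_mem

include h in
theorem t_swap : (∀ a b, S.B.t 0 * S.j a b * (S.B.t 0)⁻¹ = S.j (Equiv.swap 0 1 a) (Equiv.swap 0 1 b)) ∧
    ∀ a b, S.B.t 1 * S.j a b * (S.B.t 1)⁻¹ = S.j (Equiv.swap 4 5 a) (Equiv.swap 4 5 b) :=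
  ⟨fun a b => by rw [j, (S.t_acts h).1, Crd.Lt0_E]; rfl,
    fun a b => by rw [j, (S.t_acts h).2, Crd.Lt1_E]; rfl⟩

end Cfsg.Agent.U62Three.A.Base
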