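import Cfsg.Agent.U62Three.A.Form
import Mathlib.LinearAlgebra.Matrix.SpecialLinearGroup

/-!
# Two by two matrices over the field with three elements, as pairs of columns
-/

set_option autoImplicit false

namespace Cfsg.Agent.U62Three.A.M2

open Bas (det2)

/-- A matrix by its two columns. -/
abbrev Mat := (ZMod 3 × ZMod 3) × (ZMod 3 × ZMod 3)

/-- The action on a column. -/
def app (A : Mat) (v : ZMod 3 × ZMod 3) : ZMod 3 × ZMod 3 :=
  (v.1 * A.1.1 + v.2 * A.2.1, v.1 * A.1.2 + v.2 * A.2.2)

/-- The product. -/
def mul (A B : Mat) : Mat := (app A B.1, app A B.2)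

/-- The unit. -/
def one : Mat := ((1, 0), (0, 1))

/-- The determinant. -/
def det (A : Mat) : ZMod 3 := det2 A.1 A.2

/-- The cube. -/
def cube (A : Mat) : Mat := mul A (mul A A)

/-- The fourth power. -/
def four (A : Mat) : Mat := mul (mul A A) (mul A A)

/-- The class of the unipotent part, a homomorphism with kernel the quaternion group. -/
def cls (A : Mat) : ZMod 3 := (four A).1.2 - (1 - (four A).1.2 * (four A).1.2) * (four A).2.1

theorem ext {A B : Mat} (h : ∀ v, app A v = app B v) : A = B := by
  revert h; revert A B; intro A B h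
  have h1 := h (1, 0)
  have h2 := h (0, 1)
  simp only [app, one_mul, zero_mul, add_zero, zero_add] at h1 h2
  exact Prod.ext h1 h2

theorem app_mul (A B : Mat) (v : ZMod 3 × ZMod 3) : app (mul A B) v = app A (app B v) := by
  simp only [app, mul, Prod.mk.injEq]; constructor <;> ring

theorem app_one (v : ZMod 3 × ZMod 3) : app one v = v := by simp [app, one]

theorem cls_mul : ∀ A B : Mat, det A = 1 → det B = 1 → cls (mul A B) = cls A + cls B := by
  decide +kernel

theorem cls_one : cls one = 0 := by decide +kernel

theorem cls_zero : ∀ A : Mat, det A = 1 → cube A = one → cls A = 0 → A = one := by decide +kernel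

theorem cls_four : ∀ A : Mat, det A = 1 → four A = one → cls A = 0 := by decide +kernel

theorem cube_four : ∀ A : Mat, det A = 1 → four (cube A) = one := by decide +kernel

theorem card_four : Fintype.card {A : Mat // det A = 1 ∧ four A = one} = 8 := by decide +kernel

theorem card_det : Fintype.card {A : Mat // det A = 1} = 24 := by decide +kernel

/-- A unipotent matrix other than the unit fixes exactly a line. -/
theorem fix_line : ∀ A : Mat, det A = 1 → cube A = one → A ≠ one → ∀ v w : ZMod 3 × ZMod 3, app A v = v → app A w = w →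
    det2 v w = 0 := by decide +kernel

set_option synthInstance.maxSize 1000 in
theorem exists_fix : ∀ A : Mat, det A = 1 → cube A = one → ∃ v : ZMod 3 × ZMod 3, app A v = v ∧ v ≠ 0 := by decide +kernel

/-- The fixed vectors of a nontrivial unipotent matrix are the displacements. -/
theorem disp : ∀ A : Mat, det A = 1 → cube A = one → A ≠ one → ∀ v : ZMod 3 × ZMod 3, app A v = v →
    ∃ u : ZMod 3 × ZMod 3, app A u = u + v := by decide +kernel

theorem disp_fix : ∀ A : Mat, det A = 1 → cube A = one → ∀ u : ZMod 3 × ZMod 3, app A (app A u - u) = app A u - u := by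
  decide +kernel

theorem det_disp : ∀ A : Mat, det A = 1 → cube A = one → ∀ u : ZMod 3 × ZMod 3, app A u ≠ u →
    det2 u (app A u) = cls A := by decide +kernel

theorem exists_move : ∀ A : Mat, det A = 1 → A ≠ one → app A (1, 0) ≠ (1, 0) ∨ app A (0, 1) ≠ (0, 1) := by
  decide +kernel

set_option synthInstance.maxSize 1000 in
theorem conj_class : ∀ A B : Mat, det A = 1 → cube A = one → det B = 1 → cube B = one → cls A = cls B →
    ∃ C : Mat, det C = 1 ∧ four C = one ∧ mul C A = mul B C := by decide +kernel

theorem sq_central : ∀ A : Mat, det A = 1 → mul A A = one → ∀ B : Mat, det B = 1 → mul A B = mul B A := by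
  decide +kernel

theorem fix_cube : ∀ A : Mat, det A = 1 → ∀ v : ZMod 3 × ZMod 3, v ≠ 0 → app A v = v → cube A = one := by
  decide +kernel

theorem det2_multiple : ∀ v w : ZMod 3 × ZMod 3, v ≠ 0 → det2 v w = 0 → ∃ n : ZMod 3, n.val • v = w := by
  decide +kernel

set_option synthInstance.maxSize 1000 in
theorem unique_fix : ∀ A B : Mat, det A = 1 → cube A = one → det B = 1 → cube B = one → cls A = cls B →
    ∀ v : ZMod 3 × ZMod 3, v ≠ 0 → app A v = v → app B v = v → A = B := by decide +kernel

/-- The matrix in the special linear group. -/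
def toSL (A : Mat) (h : det A = 1) : Matrix.SpecialLinearGroup (Fin 2) (ZMod 3) :=
  ⟨!![A.1.1, A.2.1; A.1.2, A.2.2], by rw [Matrix.det_fin_two_of, ← h]; simp only [det, det2]; ring⟩

theorem toSL_mul {A B : Mat} (hA : det A = 1) (hB : det B = 1) (hC : det (mul A B) = 1) :
    toSL (mul A B) hC = toSL A hA * toSL B hB := by
  apply Subtype.ext
  show !![_, _; _, _] = !![A.1.1, A.2.1; A.1.2, A.2.2] * !![B.1.1, B.2.1; B.1.2, B.2.2]
  rw [Matrix.mul_fin_two]
  simp only [mul, app]
  ext i j
  fin_cases i <;> fin_cases j <;> simp <;> ring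

theorem toSL_inj {A B : Mat} (hA : det A = 1) (hB : det B = 1) (e : toSL A hA = toSL B hB) : A = B := by
  have h := congrArg (fun M : Matrix.SpecialLinearGroup (Fin 2) (ZMod 3) => (M : Matrix (Fin 2) (Fin 2) (ZMod 3))) e
  simp only [toSL] at h
  have h00 := congrFun (congrFun h 0) 0
  have h01 := congrFun (congrFun h 0) 1
  have h10 := congrFun (congrFun h 1) 0
  have h11 := congrFun (congrFun h 1) 1
  simp at h00 h01 h10 h11
  exact Prod.ext (Prod.ext h00 h10) (Prod.ext h01 h11)

theorem card_SL : Nat.card (Matrix.SpecialLinearGroup (Fin 2) (ZMod 3)) = 24 := by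
  rw [← card_det, ← Nat.card_eq_fintype_card]
  refine (Nat.card_congr (Equiv.ofBijective (fun A : {A : Mat // det A = 1} => toSL A.1 A.2) ⟨?_, ?_⟩)).symm
  · intro A B e
    exact Subtype.ext (toSL_inj A.2 B.2 e)
  · intro M
    refine ⟨⟨((M 0 0, M 1 0), (M 0 1, M 1 1)), ?_⟩, ?_⟩
    · have hM := M.2
      rw [Matrix.det_fin_two] at hM
      show det2 _ _ = 1
      simp only [det2]; linear_combination hM
    · apply Subtype.ext
      ext i j
      fin_cases i <;> fin_cases j <;> rfl

end Cfsg.Agent.U62Three.A.M2
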