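import Cfsg.Agent.U62Three.A.MatTwo

/-!
# The action of `C(z)` on the two blocks
-/

set_option autoImplicit false

open Subgroup

namespace Cfsg.Agent.U62Three.A.Bas

universe u

variable {G : Type u} [Group G] {z : G} {Q : Subgroup G} (B : Bas z Q) [Finite G] (h : Hyp z Q)

/-- The elements of `C(z)` preserving both blocks. -/
def Hs : Subgroup G :=
  centralizer ({z} : Set G) ⊓ normalizer (B.Qi 0 : Set G) ⊓ normalizer (B.Qi 1 : Set G)

theorem fin_one : ∀ {k : Fin 2}, k ≠ 0 → k = 1 := by decide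

theorem fin_zero : ∀ {k : Fin 2}, k ≠ 1 → k = 0 := by decide

theorem fin_cases_two : ∀ k : Fin 2, k = 0 ∨ k = 1 := by decide

omit [Finite G] in
theorem Hs_le : B.Hs ≤ centralizer ({z} : Set G) := inf_le_left.trans inf_le_left

omit [Finite G] in
theorem conj_Qi {g : G} (hg : g ∈ B.Hs) (i : Fin 2) {x : G} (hx : x ∈ B.Qi i) : g * x * g⁻¹ ∈ B.Qi i := by
  fin_cases i
  · exact (mem_normalizer_iff.1 hg.1.2 x).1 hx
  · exact (mem_normalizer_iff.1 hg.2 x).1 hx

include h in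
theorem Qi_ne : B.Qi 0 ≠ B.Qi 1 := fun e => by
  have h1 : B.vec 0 (B.a 0) = 0 := B.vec_other h (by decide : (0 : Fin 2) ≠ 1) (e ▸ B.a_mem 0)
  rw [B.vec_a h] at h1
  exact absurd (congrArg Prod.fst h1) (by decide)

include h in
theorem mem_Hs_iff {g : G} (hg : g ∈ centralizer ({z} : Set G)) :
    g ∈ B.Hs ↔ ∀ x ∈ B.Qi 0, g * x * g⁻¹ ∈ B.Qi 0 := by
  refine ⟨fun h1 x hx => B.conj_Qi h1 0 hx, fun h1 => ?_⟩
  obtain ⟨k, hk⟩ := B.perm_P h hg 0
  obtain ⟨l, hl⟩ := B.perm_P h hg 1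
  have hk0 : k = 0 := by
    by_contra hne
    obtain rfl : k = 1 := fin_one hne
    refine B.Qi_ne h (eq_of_le_of_card_ge (fun x hx => ?_) (by rw [B.card_Qi, B.card_Qi]))
    have hy : g⁻¹ * x * g ∈ Q := by
      simpa using conj_mem h (inv_mem hg) (B.toTwo.Qi_le 0 hx)
    -- the conjugation is onto by counting
    let f : ↥(B.Qi 0) → ↥(B.Qi 0) := fun y => ⟨g * y * g⁻¹, h1 y y.2⟩
    have hf : Function.Bijective f := Finite.injective_iff_bijective.1 fun a b e =>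
      Subtype.ext (mul_left_cancel (mul_right_cancel (congrArg Subtype.val e : g * a * g⁻¹ = g * b * g⁻¹)))
    obtain ⟨y, hy⟩ := hf.2 ⟨x, hx⟩
    have h2 := (hk y).1 y.2
    rwa [show g * (y : G) * g⁻¹ = x from congrArg Subtype.val hy] at h2
  subst hk0
  have hl1 : l = 1 := by
    by_contra hne
    obtain rfl : l = 0 := fin_zero hne
    exact B.Qi_ne h (SetLike.ext fun x => (hk x).trans (hl x).symm)
  subst hl1
  exact ⟨⟨hg, mem_normalizer_iff.2 hk⟩, mem_normalizer_iff.2 hl⟩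

include h in
theorem Q_le_Hs : Q ≤ B.Hs := fun q hq => (B.mem_Hs_iff h (h.le hq)).2 fun x hx => by
  rw [show q * x * q⁻¹ = (q * x * q⁻¹ * x⁻¹) * x by group]
  exact mul_mem (B.z_mem_Qi h 0 (comm_mem h hq (B.toTwo.Qi_le 0 hx))) hx

include h in
theorem P_le_Hs : B.P ≤ B.Hs := fun _p hp =>
  (B.mem_Hs_iff h (B.P_le hp)).2 fun _x hx => B.P_conj_Qi h hp hx

include h in
theorem sq_mem_Hs {g : G} (hg : g ∈ centralizer ({z} : Set G)) : g * g ∈ B.Hs := by
  obtain ⟨k, hk⟩ := B.perm_P h hg 0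
  obtain ⟨l, hl⟩ := B.perm_P h hg k
  have hl0 : l = 0 := by
    rcases (fin_cases_two k) with rfl | rfl
    · by_contra hne
      obtain rfl : l = 1 := fin_one hne
      exact B.Qi_ne h (SetLike.ext fun x => by
        constructor
        · intro hx
          have := (hl (g⁻¹ * x * g)).1 ((hk _).2 (by simpa [mul_assoc] using hx))
          simpa [mul_assoc] using this
        · intro hx
          have := (hk (g⁻¹ * x * g)).1 ((hl _).2 (by simpa [mul_assoc] using hx))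
          simpa [mul_assoc] using this)
    · by_contra hne
      obtain rfl : l = 1 := fin_one hne
      exact B.Qi_ne h (SetLike.ext fun x => (hk x).trans (hl x).symm)
  subst hl0
  refine (B.mem_Hs_iff h (mul_mem hg hg)).2 fun x hx => ?_
  have := (hl _).1 ((hk x).1 hx)
  rwa [show g * g * x * (g * g)⁻¹ = g * (g * x * g⁻¹) * g⁻¹ by group]

include h in
theorem mem_Hs_of_cube {g : G} (hg : g ∈ centralizer ({z} : Set G)) (h3 : g ^ 3 ∈ B.Hs) : g ∈ B.Hs := by
  have h4 := mul_mem h3 (inv_mem (B.sq_mem_Hs h hg))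
  rwa [pow_succ', pow_two, show g * (g * g) * (g * g)⁻¹ = g by group] at h4

/-- The standard element with given coordinates. -/
noncomputable def std (i : Fin 2) (v : ZMod 3 × ZMod 3) : G := B.a i ^ v.1.val * B.b i ^ v.2.val

omit [Finite G] in
theorem std_mem (i : Fin 2) (v : ZMod 3 × ZMod 3) : B.std i v ∈ B.Qi i :=
  mul_mem (pow_mem (B.a_mem i) _) (pow_mem (B.b_mem i) _)

omit [Finite G] in
theorem std_Q (i : Fin 2) (v : ZMod 3 × ZMod 3) : B.std i v ∈ Q := B.toTwo.Qi_le i (B.std_mem i v)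

include h in
theorem vec_std (i : Fin 2) (v : ZMod 3 × ZMod 3) : B.vec i (B.std i v) = v := by
  rw [std, B.vec_mul h i (pow_mem (B.a_Q i) _) (pow_mem (B.b_Q i) _), B.vec_pow h i (B.a_Q i), B.vec_a h,
    B.vec_pow h i (B.b_Q i), B.vec_b h]
  simp [Prod.ext_iff]

include h in
theorem exists_both (v : Fin 2 → ZMod 3 × ZMod 3) : ∃ q ∈ Q, ∀ i, B.vec i q = v i := by
  refine ⟨B.std 0 (v 0) * B.std 1 (v 1), mul_mem (B.std_Q _ _) (B.std_Q _ _), fun i => ?_⟩
  fin_cases i <;> simp only [Fin.zero_eta, Fin.mk_one] <;>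
    rw [B.vec_mul h _ (B.std_Q _ _) (B.std_Q _ _), B.vec_std h]
  · rw [B.vec_other h (by decide : (0 : Fin 2) ≠ 1) (B.std_mem 1 _), add_zero]
  · rw [B.vec_other h (by decide : (1 : Fin 2) ≠ 0) (B.std_mem 0 _), zero_add]

/-- The matrix of an element on a block. -/
noncomputable def mat (i : Fin 2) (g : G) : M2.Mat := (B.vec i (g * B.a i * g⁻¹), B.vec i (g * B.b i * g⁻¹))

include h in
theorem vec_conj {g : G} (hg : g ∈ B.Hs) (i : Fin 2) {x : G} (hx : x ∈ Q) :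
    B.vec i (g * x * g⁻¹) = M2.app (B.mat i g) (B.vec i x) := by
  have hgz := B.Hs_le hg
  have hik : i ≠ i.rev := (Two.rev_ne i).symm
  set w := B.std i (B.vec i x) * B.std i.rev (B.vec i.rev x) with hw
  have hwQ : w ∈ Q := mul_mem (B.std_Q _ _) (B.std_Q _ _)
  have hc : x * w⁻¹ ∈ zpowers z := B.vec_ext h hx hwQ fun k => by
    rw [hw, B.vec_mul h k (B.std_Q _ _) (B.std_Q _ _)]
    rcases eq_or_ne k i with rfl | hki
    · rw [B.vec_std h, B.vec_other h hik (B.std_mem _ _), add_zero]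
    · obtain rfl : k = i.rev := Two.eq_rev hki.symm
      rw [B.vec_std h, B.vec_other h hki (B.std_mem _ _), zero_add]
  have e : g * x * g⁻¹ = x * w⁻¹ * (g * w * g⁻¹) := by
    conv_lhs => rw [show x = x * w⁻¹ * w by group]
    rw [show g * (x * w⁻¹ * w) * g⁻¹ = (g * (x * w⁻¹) * g⁻¹) * (g * w * g⁻¹) by group, conj_zpow hgz hc]
  have hcp : ∀ (n : ℕ) (y : G), g * y ^ n * g⁻¹ = (g * y * g⁻¹) ^ n := fun n y => conj_pow.symm
  rw [e, B.vec_mul h i (zpowers_le_Q h hc) (conj_mem h hgz hwQ), B.vec_zpowers h i hc, zero_add, hw,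
    show g * (B.std i (B.vec i x) * B.std i.rev (B.vec i.rev x)) * g⁻¹ =
      (g * B.std i (B.vec i x) * g⁻¹) * (g * B.std i.rev (B.vec i.rev x) * g⁻¹) by group,
    B.vec_mul h i (conj_mem h hgz (B.std_Q _ _)) (conj_mem h hgz (B.std_Q _ _)),
    B.vec_other h hik (B.conj_Qi hg _ (B.std_mem _ _)), add_zero, std,
    show g * (B.a i ^ (B.vec i x).1.val * B.b i ^ (B.vec i x).2.val) * g⁻¹ =
      (g * B.a i ^ (B.vec i x).1.val * g⁻¹) * (g * B.b i ^ (B.vec i x).2.val * g⁻¹) by group,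
    B.vec_mul h i (conj_mem h hgz (pow_mem (B.a_Q i) _)) (conj_mem h hgz (pow_mem (B.b_Q i) _)),
    hcp, hcp, B.vec_pow h i (conj_mem h hgz (B.a_Q i)), B.vec_pow h i (conj_mem h hgz (B.b_Q i))]
  simp [M2.app, mat, Prod.ext_iff]

include h in
theorem mat_mul {g k : G} (hg : g ∈ B.Hs) (hk : k ∈ B.Hs) (i : Fin 2) :
    B.mat i (g * k) = M2.mul (B.mat i g) (B.mat i k) := by
  have hkz := B.Hs_le hk
  refine Prod.ext ?_ ?_
  · show B.vec i (g * k * B.a i * (g * k)⁻¹) = M2.app (B.mat i g) (B.vec i (k * B.a i * k⁻¹))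
    rw [← B.vec_conj h hg i (conj_mem h hkz (B.a_Q i))]
    exact congrArg _ (by group)
  · show B.vec i (g * k * B.b i * (g * k)⁻¹) = M2.app (B.mat i g) (B.vec i (k * B.b i * k⁻¹))
    rw [← B.vec_conj h hg i (conj_mem h hkz (B.b_Q i))]
    exact congrArg _ (by group)

include h in
theorem mat_one (i : Fin 2) : B.mat i 1 = M2.one := by
  simp [mat, M2.one, B.vec_a h, B.vec_b h]

include h in
theorem mat_det {g : G} (hg : g ∈ B.Hs) (i : Fin 2) : M2.det (B.mat i g) = 1 := by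
  have hgz := B.Hs_le hg
  have h1 := B.frm_eq h (conj_mem h hgz (B.a_Q i)) (conj_mem h hgz (B.b_Q i))
  rw [frm_conj h hgz (B.a_Q i) (B.b_Q i), B.pair i] at h1
  have h2 : ∀ k, k ≠ i → B.vec k (g * B.a i * g⁻¹) = 0 := fun k hk =>
    B.vec_other h hk (B.conj_Qi hg i (B.a_mem i))
  fin_cases i
  · rw [h2 1 (by decide)] at h1
    simpa [M2.det, mat, det2] using h1.symm
  · rw [h2 0 (by decide)] at h1
    simpa [M2.det, mat, det2] using h1.symm

include h in
theorem mat_eq_one {g : G} (hg : g ∈ B.Hs) (i : Fin 2) :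
    B.mat i g = M2.one ↔ ∀ x ∈ B.Qi i, g * x * g⁻¹ * x⁻¹ ∈ zpowers z := by
  constructor
  · intro e x hx
    have hxQ := B.toTwo.Qi_le i hx
    refine B.vec_ext h (conj_mem h (B.Hs_le hg) hxQ) hxQ fun k => ?_
    rcases eq_or_ne k i with rfl | hk
    · rw [B.vec_conj h hg k hxQ, e, M2.app_one]
    · rw [B.vec_other h hk (B.conj_Qi hg i hx), B.vec_other h hk hx]
  · intro hall
    have key : ∀ x ∈ B.Qi i, B.vec i (g * x * g⁻¹) = B.vec i x := fun x hx => by
      rw [show g * x * g⁻¹ = (g * x * g⁻¹ * x⁻¹) * x by group,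
        B.vec_mul h i (zpowers_le_Q h (hall x hx)) (B.toTwo.Qi_le i hx), B.vec_zpowers h i (hall x hx), zero_add]
    exact Prod.ext (show B.vec i _ = _ by rw [key _ (B.a_mem i), B.vec_a h]; rfl)
      (show B.vec i _ = _ by rw [key _ (B.b_mem i), B.vec_b h]; rfl)

include B h in
/-- An element of `C(z)` trivial on `Q` modulo the centre lies in `Q`. -/
theorem mem_Q_of_triv {g : G} (hg : g ∈ centralizer ({z} : Set G))
    (ht : ∀ x ∈ Q, g * x * g⁻¹ * x⁻¹ ∈ zpowers z) : g ∈ Q := by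
  let φ : G → ZMod 3 := fun x => lg z (g * x * g⁻¹ * x⁻¹)
  obtain ⟨q, hq, hv⟩ := B.exists_both h fun i => (φ (B.b i), -φ (B.a i))
  have key : ∀ i, frm z q (B.a i) = φ (B.a i) ∧ frm z q (B.b i) = φ (B.b i) := by
    intro i
    rw [B.frm_eq h hq (B.a_Q i), B.frm_eq h hq (B.b_Q i)]
    fin_cases i <;> simp only [Fin.zero_eta, Fin.mk_one]
    · simp [B.vec_a h, B.vec_b h, B.vec_other h (by decide : (1 : Fin 2) ≠ 0) (B.a_mem 0),
        B.vec_other h (by decide : (1 : Fin 2) ≠ 0) (B.b_mem 0), hv, det2]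
    · simp [B.vec_a h, B.vec_b h, B.vec_other h (by decide : (0 : Fin 2) ≠ 1) (B.a_mem 1),
        B.vec_other h (by decide : (0 : Fin 2) ≠ 1) (B.b_mem 1), hv, det2]
  have hc : ∀ x ∈ Q, frm z q x = φ x → Commute (q⁻¹ * g) x := by
    intro x hx e
    have e1 : g * x * g⁻¹ * x⁻¹ = q * x * q⁻¹ * x⁻¹ := by
      rw [← zp_lg h (ht x hx), ← zp_lg h (comm_mem h hq hx)]
      exact congrArg (zp z) e.symm
    show q⁻¹ * g * x = x * (q⁻¹ * g)
    calc q⁻¹ * g * x = q⁻¹ * (g * x * g⁻¹) * g := by group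
      _ = q⁻¹ * (q * x * q⁻¹) * g := by rw [mul_right_cancel e1]
      _ = x * (q⁻¹ * g) := by group
  have hgen : ∀ x ∈ Q, Commute (q⁻¹ * g) x := by
    intro x hx
    have hw : x * (B.std 0 (B.vec 0 x) * B.std 1 (B.vec 1 x))⁻¹ ∈ zpowers z :=
      B.vec_ext h hx (mul_mem (B.std_Q _ _) (B.std_Q _ _)) fun k => by
        rcases fin_cases_two k with rfl | rfl <;> rw [B.vec_mul h _ (B.std_Q _ _) (B.std_Q _ _), B.vec_std h]
        · rw [B.vec_other h (by decide : (0 : Fin 2) ≠ 1) (B.std_mem 1 _), add_zero]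
        · rw [B.vec_other h (by decide : (1 : Fin 2) ≠ 0) (B.std_mem 0 _), zero_add]
    have hs : ∀ i, Commute (q⁻¹ * g) (B.std i (B.vec i x)) := fun i =>
      ((hc _ (B.a_Q i) (key i).1).pow_right _).mul_right ((hc _ (B.b_Q i) (key i).2).pow_right _)
    have := (comm_zpow (mul_mem (inv_mem (h.le hq)) hg) hw).mul_right ((hs 0).mul_right (hs 1))
    rwa [inv_mul_cancel_right] at this
  have := h.self (mem_centralizer_iff.2 fun x hx => (hgen x hx).symm.eq)
  simpa using mul_mem hq this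

include h in
theorem mem_Q_of_mat {g : G} (hg : g ∈ B.Hs) (e : ∀ i, B.mat i g = M2.one) : g ∈ Q :=
  B.mem_Q_of_triv h (B.Hs_le hg) fun x hx =>
    B.vec_ext h (conj_mem h (B.Hs_le hg) hx) hx fun i => by rw [B.vec_conj h hg i hx, e i, M2.app_one]

include h in
theorem mat_Q {q : G} (hq : q ∈ Q) (i : Fin 2) : B.mat i q = M2.one :=
  (B.mat_eq_one h (B.Q_le_Hs h hq) i).2 fun _x hx => comm_mem h hq (B.toTwo.Qi_le i hx)

/-- The two classes of the unipotent parts. -/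
noncomputable def cl (i : Fin 2) (g : G) : ZMod 3 := M2.cls (B.mat i g)

include h in
theorem cl_mul {g k : G} (hg : g ∈ B.Hs) (hk : k ∈ B.Hs) (i : Fin 2) :
    B.cl i (g * k) = B.cl i g + B.cl i k := by
  rw [cl, B.mat_mul h hg hk, M2.cls_mul _ _ (B.mat_det h hg i) (B.mat_det h hk i)]; rfl

include h in
theorem cl_Q {q : G} (hq : q ∈ Q) (i : Fin 2) : B.cl i q = 0 := by rw [cl, B.mat_Q h hq i, M2.cls_one]

include h in
theorem cl_inv {g : G} (hg : g ∈ B.Hs) (i : Fin 2) : B.cl i g⁻¹ = -B.cl i g :=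
  eq_neg_of_add_eq_zero_left (by rw [← B.cl_mul h (inv_mem hg) hg, inv_mul_cancel, B.cl_Q h (one_mem _)])

include h in
theorem cl_pow {g : G} (hg : g ∈ B.Hs) (i : Fin 2) (n : ℕ) : B.cl i (g ^ n) = n • B.cl i g := by
  induction n with
  | zero => rw [pow_zero, B.cl_Q h (one_mem _), zero_smul]
  | succ n ih => rw [pow_succ, B.cl_mul h (pow_mem hg n) hg, ih, succ_nsmul]

include h in
theorem mat_cube {g : G} (hg : g ∈ B.Hs) (h3 : g ^ 3 ∈ Q) (i : Fin 2) : M2.cube (B.mat i g) = M2.one := by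
  rw [M2.cube, ← B.mat_mul h hg hg, ← B.mat_mul h hg (mul_mem hg hg), show g * (g * g) = g ^ 3 by
    simp [pow_succ, mul_assoc], B.mat_Q h h3]

include h in
/-- A three-element whose classes vanish lies in `Q`. -/
theorem mem_Q_of_cl {g : G} (hg : g ∈ B.Hs) (h3 : g ^ 3 ∈ Q) (e : ∀ i, B.cl i g = 0) : g ∈ Q :=
  B.mem_Q_of_mat h hg fun i => M2.cls_zero _ (B.mat_det h hg i) (B.mat_cube h hg h3 i) (e i)

end Cfsg.Agent.U62Three.A.Bas
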