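import Cfsg.Agent.U62Three.Defs
import Cfsg.Agent.ThreeKlein.Main
import Cfsg.Agent.Sym9ThreeLocal.SmallNine
import Mathlib.GroupTheory.Sylow

/-!
# A local elementary section of order nine is normal
-/

set_option autoImplicit false

open Subgroup

namespace Cfsg.Agent.U62Three.A

universe u

variable {G : Type u} [Group G] [Finite G]

/-- The data: in `C`, modulo the central subgroup `M`, the section `AM/M` is elementary of order nine, local and
self-centralising with automiser of exponent two and order at most four. -/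
structure NineSec (C M A : Subgroup G) : Prop where
  M_le : M ≤ C
  A_le : A ≤ C
  central : ∀ m ∈ M, ∀ g ∈ C, Commute m g
  comm : ∀ a ∈ A, ∀ b ∈ A, Commute a b
  cube : ∀ a ∈ A, a ^ 3 ∈ M
  card : Nat.card ↥(A ⊔ M : Subgroup G) = 9 * Nat.card ↥M
  self : ∀ g ∈ C, (∀ a ∈ A, g * a * g⁻¹ * a⁻¹ ∈ M) → g ∈ A ⊔ M
  loc : ∀ a ∈ A, a ∉ M → ∀ g ∈ C, g * a * g⁻¹ * a⁻¹ ∈ M → g ∈ normalizer ((A ⊔ M : Subgroup G) : Set G)
  sq : ∀ g ∈ C, g ∈ normalizer ((A ⊔ M : Subgroup G) : Set G) → g * g ∈ A ⊔ M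
  small : ∃ lab : G → Fin 4, ∀ g ∈ C, ∀ k ∈ C, g ∈ normalizer ((A ⊔ M : Subgroup G) : Set G) →
    k ∈ normalizer ((A ⊔ M : Subgroup G) : Set G) → lab g = lab k → g⁻¹ * k ∈ A ⊔ M

theorem NineSec.normal {C M A : Subgroup G} (h : NineSec C M A) :
    C ≤ normalizer ((A ⊔ M : Subgroup G) : Set G) := by
  classical
  haveI : Fact (Nat.Prime 3) := ⟨Nat.prime_three⟩
  have hAM : A ⊔ M ≤ C := sup_le h.A_le h.M_le
  let K : Subgroup ↥C := M.subgroupOf C
  haveI hKn : K.Normal := ⟨fun m hm g => by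
    rw [mem_subgroupOf] at hm ⊢
    rw [Subgroup.coe_mul, Subgroup.coe_mul, Subgroup.coe_inv, ← (h.central _ hm _ g.2).eq, mul_inv_cancel_right]
    exact hm⟩
  let π := QuotientGroup.mk' K
  let L : Subgroup ↥C := (A ⊔ M).subgroupOf C
  let T := L.map π
  have hKL : K ≤ L := fun m hm => mem_subgroupOf.2 (mem_sup_right (mem_subgroupOf.1 hm))
  have hker : π.ker ≤ L := by rw [QuotientGroup.ker_mk']; exact hKL
  have hπ : Function.Surjective π := QuotientGroup.mk'_surjective K
  have hmemT : ∀ g : ↥C, π g ∈ T ↔ (g : G) ∈ A ⊔ M := fun g => by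
    constructor
    · rintro ⟨l, hl, e⟩
      have : g ∈ L := by
        have h1 : l⁻¹ * g ∈ π.ker := by rw [MonoidHom.mem_ker, map_mul, map_inv, e, inv_mul_cancel]
        simpa using mul_mem hl (hker h1)
      exact mem_subgroupOf.1 this
    · exact fun hg => mem_map_of_mem _ (mem_subgroupOf.2 hg)
  have hM : ∀ g : ↥C, π g = 1 ↔ (g : G) ∈ M := fun g => by
    rw [← MonoidHom.mem_ker, QuotientGroup.ker_mk']; exact mem_subgroupOf
  have hTcard : Nat.card T = 9 := by
    have h1 : T.index = L.index := index_map_eq L hπ hker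
    have h2 := card_mul_index T
    have h3 := card_mul_index L
    have h4 := K.card_eq_card_quotient_mul_card_subgroup
    rw [Nat.card_congr (subgroupOfEquivOfLe hAM).toEquiv, h.card] at h3
    rw [Nat.card_congr (subgroupOfEquivOfLe h.M_le).toEquiv] at h4
    have hM0 : 0 < Nat.card ↥M := Nat.card_pos
    have hi : 0 < L.index := Nat.pos_of_ne_zero index_ne_zero_of_finite
    rw [h1] at h2
    apply Nat.eq_of_mul_eq_mul_right (Nat.mul_pos hi hM0)
    calc Nat.card T * (L.index * Nat.card ↥M) = Nat.card (↥C ⧸ K) * Nat.card ↥M := by rw [← mul_assoc, h2]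
      _ = 9 * (L.index * Nat.card ↥M) := by rw [← h4, ← h3]; ring
  -- generated by the images of `A`
  have hgen : ∀ x ∈ T, ∃ a : ↥C, (a : G) ∈ A ∧ π a = x := by
    have hT : T ≤ (A.subgroupOf C).map π := by
      rintro _ ⟨l, hl, rfl⟩
      have hlm : (l : G) ∈ A ⊔ M := mem_subgroupOf.1 hl
      have hMn : M ≤ normalizer (A : Set G) := fun m hm => mem_normalizer_iff.2 fun x => by
        constructor
        · intro hx; rwa [(h.central m hm x (h.A_le hx)).eq, mul_inv_cancel_right]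
        · intro hx
          have := (h.central m hm _ (h.A_le hx)).eq
          have e : m * x * m⁻¹ = x := by
            have h5 : m⁻¹ * (m * x * m⁻¹) * m = m * x * m⁻¹ := by
              calc m⁻¹ * (m * x * m⁻¹) * m = m⁻¹ * ((m * x * m⁻¹) * m) := by group
                _ = m⁻¹ * (m * (m * x * m⁻¹)) := by rw [this]
                _ = _ := by group
            rw [show m⁻¹ * (m * x * m⁻¹) * m = x by group] at h5
            exact h5.symm
          rwa [e] at hx
      rw [← SetLike.mem_coe, coe_mul_of_right_le_normalizer_left A M hMn] at hlm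
      obtain ⟨a, ha, m, hm, e⟩ := hlm
      refine ⟨⟨a, h.A_le ha⟩, mem_subgroupOf.2 ha, ?_⟩
      have : π (⟨a, h.A_le ha⟩ * ⟨m, h.M_le hm⟩) = π l := congrArg π (Subtype.ext e)
      rw [map_mul, (hM ⟨m, h.M_le hm⟩).2 hm, mul_one] at this
      exact this
    intro x hx
    obtain ⟨a, ha, e⟩ := hT hx
    exact ⟨a, mem_subgroupOf.1 ha, e⟩
  have hnorm : ∀ g : ↥C, π g ∈ normalizer (T : Set (↥C ⧸ K)) ↔ (g : G) ∈ normalizer ((A ⊔ M : Subgroup G) : Set G) := by
    intro g
    simp only [mem_normalizer_iff]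
    constructor
    · intro hg x
      constructor
      · intro hx
        have h1 := (hg (π ⟨x, hAM hx⟩)).1 ((hmemT _).2 hx)
        rw [← map_inv, ← map_mul, ← map_mul] at h1
        exact (hmemT _).1 h1
      · intro hx
        have hxC : x ∈ C := by simpa [mul_assoc] using mul_mem (mul_mem (inv_mem g.2) (hAM hx)) g.2
        refine (hmemT ⟨x, hxC⟩).1 ((hg (π ⟨x, hxC⟩)).2 ?_)
        rw [← map_inv, ← map_mul, ← map_mul]
        exact (hmemT _).2 hx
    · intro hg x
      obtain ⟨a, rfl⟩ := hπ x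
      rw [← map_inv, ← map_mul, ← map_mul, hmemT, hmemT]
      exact hg a
  set N := normalizer (T : Set (↥C ⧸ K))
  set TN := T.subgroupOf N
  haveI : TN.Normal := normal_subgroupOf_of_le_normalizer le_rfl
  have hsq : ∀ x : ↥N ⧸ TN, x * x = 1 := fun x => by
    induction x using QuotientGroup.induction_on with
    | _ x =>
    obtain ⟨g, hg⟩ := hπ x.1
    rw [← QuotientGroup.mk_mul, QuotientGroup.eq_one_iff, mem_subgroupOf, Subgroup.coe_mul, ← hg, ← map_mul, hmemT]
    exact h.sq g g.2 ((hnorm g).1 (by rw [hg]; exact x.2))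
  obtain ⟨lab, hlab⟩ := h.small
  have hlift : ∀ x : ↥N, ∃ g : ↥C, π g = x := fun x => hπ x.1
  choose lift hlift using hlift
  have h4 : Nat.card (↥N ⧸ TN) ≤ 4 := by
    have hsec : ∀ x : ↥N ⧸ TN, ∃ y : ↥N, QuotientGroup.mk y = x := QuotientGroup.mk_surjective
    choose sec hsec using hsec
    have := Nat.card_le_card_of_injective (fun x => lab (lift (sec x) : G)) fun x y e => by
      have h1 := hlab _ (lift (sec x)).2 _ (lift (sec y)).2 ((hnorm _).1 (by rw [hlift]; exact (sec x).2))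
        ((hnorm _).1 (by rw [hlift]; exact (sec y).2)) e
      rw [← hsec x, ← hsec y, QuotientGroup.eq, mem_subgroupOf, Subgroup.coe_mul, Subgroup.coe_inv,
        ← hlift, ← hlift, ← map_inv, ← map_mul, hmemT]
      exact h1
    simpa using this
  have hidx : TN.index = 1 ∨ TN.index = 2 ∨ TN.index = 4 := by
    have h2 : IsPGroup 2 (↥N ⧸ TN) := fun x => ⟨1, by rw [pow_one, pow_two]; exact hsq x⟩
    obtain ⟨k, hk⟩ := IsPGroup.iff_card.1 h2
    rw [index_eq_card, hk]
    rw [hk] at h4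
    have hk3 : k ≤ 2 := (Nat.pow_le_pow_iff_right (by norm_num)).1 (h4.trans (by norm_num : 4 ≤ 2 ^ 2))
    interval_cases k <;> norm_num
  have hP : IsPGroup 3 T := IsPGroup.of_card (n := 2) (by rw [hTcard]; norm_num)
  have hnd : ¬ 3 ∣ T.index := fun hd => by
    have hm := Sylow.card_quotient_normalizer_modEq_card_quotient (p := 3) (n := 2)
      (H := T) (by rw [hTcard]; norm_num)
    rw [← index_eq_card, ← index_eq_card] at hm
    have h1 : 3 ∣ TN.index := (Nat.ModEq.dvd_iff hm dvd_rfl).2 hd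
    rcases hidx with e | e | e <;> rw [e] at h1 <;> norm_num at h1
  let S : Sylow 3 (↥C ⧸ K) := hP.toSylow hnd
  have hS : (S : Subgroup (↥C ⧸ K)) = T := rfl
  have hab : ∀ x ∈ T, ∀ y ∈ T, x * y = y * x := fun x hx y hy => by
    obtain ⟨a, ha, rfl⟩ := hgen x hx
    obtain ⟨b, hb, rfl⟩ := hgen y hy
    rw [← map_mul, ← map_mul]
    exact congrArg π (Subtype.ext (h.comm _ ha _ hb))
  have hexp : ∀ x ∈ T, x ^ 3 = 1 := fun x hx => by
    obtain ⟨a, ha, rfl⟩ := hgen x hx
    rw [← map_pow, hM]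
    simpa using h.cube _ ha
  have hcent : centralizer (T : Set (↥C ⧸ K)) = T := by
    refine le_antisymm (fun x hx => ?_) fun x hx => mem_centralizer_iff.2 fun y hy => hab y hy x hx
    obtain ⟨g, rfl⟩ := hπ x
    rw [hmemT]
    refine h.self g g.2 fun a ha => ?_
    have h1 := mem_centralizer_iff.1 hx (π ⟨a, h.A_le ha⟩) ((hmemT _).2 (mem_sup_left ha))
    have h2 : π (g * ⟨a, h.A_le ha⟩ * g⁻¹ * ⟨a, h.A_le ha⟩⁻¹) = 1 := by
      simp only [map_mul, map_inv, ← h1]; group
    exact (hM _).1 h2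
  have hloc : ∀ x ∈ T, x ≠ 1 → centralizer ({x} : Set (↥C ⧸ K)) ≤ N := by
    intro x hx hx1 w hw
    obtain ⟨a, ha, rfl⟩ := hgen x hx
    obtain ⟨g, rfl⟩ := hπ w
    rw [hnorm]
    refine h.loc a ha (fun e => hx1 ((hM a).2 e)) g g.2 ?_
    have h1 := mem_centralizer_singleton_iff.1 hw
    have h2 : π (g * a * g⁻¹ * a⁻¹) = 1 := by simp only [map_mul, map_inv, h1]; group
    exact (hM _).1 h2
  have htop : N = ⊤ := by
    have hNc : Nat.card N = 9 * TN.index := by
      rw [← card_mul_index TN, Nat.card_congr (subgroupOfEquivOfLe le_normalizer).toEquiv, hTcard]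
    rcases hidx with e | e | e
    · exact Sym9ThreeLocal.Nine.normalizer_eq_top (T := S) ⟨hab, hexp, hTcard, hcent, hloc⟩
        (Or.inl (by rw [hS, hNc, e]))
    · exact Sym9ThreeLocal.Nine.normalizer_eq_top (T := S) ⟨hab, hexp, hTcard, hcent, hloc⟩
        (Or.inr (by rw [hS, hNc, e]))
    · haveI hn : ((S : Subgroup (↥C ⧸ K)).subgroupOf (normalizer ((S : Subgroup (↥C ⧸ K)) : Set (↥C ⧸ K)))).Normal :=
        inferInstanceAs TN.Normal
      have hKl : IsKleinFour (↥N ⧸ TN) := by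
        refine ⟨by rw [← index_eq_card, e], ?_⟩
        refine Nat.dvd_antisymm (Monoid.exponent_dvd_of_forall_pow_eq_one fun x => by rw [pow_two]; exact hsq x) ?_
        obtain ⟨x, hx⟩ := exists_prime_orderOf_dvd_card' (G := ↥N ⧸ TN) 2 (by rw [← index_eq_card, e]; norm_num)
        rw [← hx]; exact Monoid.order_dvd_exponent x
      obtain ⟨φ, hφ⟩ := ThreeKlein.exists_cfg S hab hexp hTcard hcent (hK := hKl) hloc
      exact hφ.normalizer_eq_top
  intro g hg
  exact (hnorm ⟨g, hg⟩).1 (htop ▸ mem_top _)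

end Cfsg.Agent.U62Three.A
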