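import Cfsg.Agent.U62Three.A.Pts

/-!
# A point moves both blocks, and it is not conjugate to its translates by the centre
-/

set_option autoImplicit false

open Subgroup

namespace Cfsg.Agent.U62Three.A

universe u

variable {G : Type u} [Group G] {z : G} {Q : Subgroup G}

/-- All three translates of `y` by powers of `z` are points. -/
def Full (z y : G) : Prop := ∀ c ∈ zpowers z, c * y ∈ Tp z

variable [Finite G]

/-- A commutator in the centre gives all three translates. -/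
theorem full_of (h : Hyp z Q) {y x : G} (hy : y ∈ Tp z) (hx : x ∈ centralizer ({z} : Set G))
    (hc : x * y * x⁻¹ * y⁻¹ ∈ zpowers z) (hne : x * y * x⁻¹ * y⁻¹ ≠ 1) : Full z y := by
  set c := x * y * x⁻¹ * y⁻¹ with hc'
  have h1 : c * y ∈ Tp z := by
    rw [show c * y = x * y * x⁻¹ by rw [hc']; group]; exact Tp_conj hy x
  have h2 : c * c * y ∈ Tp z := by
    have h3 := Tp_conj h1 x
    rwa [show x * (c * y) * x⁻¹ = (x * c * x⁻¹) * (c * y) by rw [hc']; group, conj_zpow hx hc, ← mul_assoc] at h3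
  have hzz : ∀ d : G, d * d * d = 1 → d * d = d⁻¹ := fun d hd => eq_inv_of_mul_eq_one_left hd
  intro d hd
  have h3 : c * c * c = 1 := by have := Q_cube_zero h hc; rwa [pow_succ, pow_two] at this
  rcases zc h hd with rfl | rfl | rfl
  · simpa using hy
  · rcases zc h hc with e | e | e
    · exact absurd e hne
    · rwa [e] at h1
    · rwa [hzz c h3, e, inv_inv] at h2
  · rcases zc h hc with e | e | e
    · exact absurd e hne
    · rwa [hzz c h3, e] at h2
    · rwa [e] at h1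

namespace Bas

variable (B : Bas z Q)

theorem exists_noncomm (h : Hyp z Q) {y : G} (hy : Pt z Q y) (i : Fin 2) :
    ∃ x ∈ B.Qi i, ¬ Commute x y := by
  by_contra hall
  push Not at hall
  have h1 := (frm_eq_zero h (B.a_Q i) (B.b_Q i)).2
    (hy.cent_comm h (B.a_Q i) (B.b_Q i) (hall _ (B.a_mem i)) (hall _ (B.b_mem i)))
  rw [B.pair i] at h1
  exact one_ne_zero h1

theorem mat_one_of_cl (h : Hyp z Q) {y : G} (hy : Pt z Q y) {i : Fin 2} (e : B.cl i y = 0) :
    B.mat i y = M2.one :=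
  M2.cls_zero _ (B.mat_det h (B.Pt_Hs h hy) i)
    (B.mat_cube h (B.Pt_Hs h hy) (by rw [hy.cube h]; exact one_mem _) i) e

theorem one_full (h : Hyp z Q) {y : G} (hy : Pt z Q y) {i : Fin 2} (e : B.cl i y = 0) : Full z y := by
  obtain ⟨x, hx, hne⟩ := B.exists_noncomm h hy i
  have hxQ := B.toTwo.Qi_le i hx
  have h1 := (B.mat_eq_one h (B.Pt_Hs h hy) i).1 (B.mat_one_of_cl h hy e) x hx
  refine full_of h hy.mem (h.le hxQ) ?_ fun e1 => hne (mul_inv_eq_iff_eq_mul.1 (mul_inv_eq_one.1 e1))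
  rw [show x * y * x⁻¹ * y⁻¹ = (y * x * y⁻¹ * x⁻¹)⁻¹ by group]
  exact inv_mem h1

end Bas

/-- A point moves both blocks. -/
theorem two_block (h : Hyp z Q) {y : G} (hy : Pt z Q y) (B : Bas z Q) (i : Fin 2) : B.cl i y ≠ 0 := by
  intro ei
  have hfull := B.one_full h hy ei
  have hyH := B.Pt_Hs h hy
  have hM := B.mat_one_of_cl h hy ei
  have ht2 : B.t i * B.t i = 1 := B.t_sq i
  have hti : (B.t i)⁻¹ = B.t i := inv_eq_of_mul_eq_one_right ht2
  have htH : B.t i ∈ B.Hs := B.P_le_Hs h (B.t_P i)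
  set y' := B.t i * y * (B.t i)⁻¹ with hy'
  have hy'H : y' ∈ B.Hs := mul_mem (mul_mem htH hyH) (inv_mem htH)
  set w := y⁻¹ * y' with hw
  -- the translation lies in the block
  have hwQ : w ∈ Q := B.mem_Q_of_mat h (mul_mem (inv_mem hyH) hy'H) fun k => by
    rw [hw, B.mat_mul h (inv_mem hyH) hy'H, hy', B.mat_mul h (mul_mem htH hyH) (inv_mem htH),
      B.mat_mul h htH hyH]
    rcases eq_or_ne k i with rfl | hk
    · have hMi : B.mat k y⁻¹ = M2.one := by
        have e1 := B.mat_mul h (inv_mem hyH) hyH k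
        rw [hM, inv_mul_cancel, B.mat_one h] at e1
        simpa [M2.mul, M2.app, M2.one] using e1.symm
      rw [hM, show M2.mul (B.mat k (B.t k)) M2.one = B.mat k (B.t k * 1) by
        rw [B.mat_mul h htH (one_mem _), B.mat_one h], mul_one,
        ← B.mat_mul h htH (inv_mem htH), mul_inv_cancel, B.mat_one h, hMi]
      rfl
    · have ht1 : B.mat k (B.t i) = M2.one := B.mat_R_other h hk.symm (B.t_mem_R h i)
      rw [hti, ht1, ← B.mat_one h k, ← B.mat_mul h (one_mem _) hyH, one_mul, ← B.mat_mul h hyH (one_mem _),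
        mul_one, ← B.mat_mul h (inv_mem hyH) hyH, inv_mul_cancel]
  have hrev : ∀ x ∈ B.Qi i.rev, Commute w x := fun x hx => by
    have hfix : ∀ u ∈ B.Qi i.rev, B.t i * u * (B.t i)⁻¹ = u := fun u hu => by
      have := B.toTwo.t_fix hu
      rw [Fin.rev_rev] at this
      rw [this.eq, mul_inv_cancel_right]
    have h1 : y' * x * y'⁻¹ = y * x * y⁻¹ := by
      have hx' : (B.t i)⁻¹ * x * B.t i = x := by
        rw [hti]; nth_rw 2 [← hti]; exact hfix x hx
      rw [hy', show B.t i * y * (B.t i)⁻¹ * x * (B.t i * y * (B.t i)⁻¹)⁻¹ =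
        B.t i * (y * ((B.t i)⁻¹ * x * B.t i) * y⁻¹) * (B.t i)⁻¹ by group, hx']
      exact hfix _ (B.conj_Qi hyH _ hx)
    show w * x = x * w
    calc w * x = y⁻¹ * (y' * x * y'⁻¹) * y' := by rw [hw]; group
      _ = x * w := by rw [h1, hw]; group
  have hwz : w ∉ zpowers z := fun hwc => by
    obtain ⟨x, hx, hne⟩ := B.exists_noncomm h hy i
    have hxQ := B.toTwo.Qi_le i hx
    have hc := (B.mat_eq_one h hyH i).1 hM x hx
    set c := y * x * y⁻¹ * x⁻¹ with hc'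
    have hd := B.t_inv h hx
    set d := B.t i * x * (B.t i)⁻¹ * x with hd'
    have e1 : y' = y * w := by rw [hw]; group
    have hL : y' * (B.t i * x * (B.t i)⁻¹) * y'⁻¹ = c * (B.t i * x * (B.t i)⁻¹) := by
      rw [hy', show B.t i * y * (B.t i)⁻¹ * (B.t i * x * (B.t i)⁻¹) * (B.t i * y * (B.t i)⁻¹)⁻¹ =
        (B.t i * (y * x * y⁻¹ * x⁻¹) * (B.t i)⁻¹) * (B.t i * x * (B.t i)⁻¹) by group,
        conj_zpow (B.toTwo.t_le i) hc]
    have hR : y' * (B.t i * x * (B.t i)⁻¹) * y'⁻¹ = c⁻¹ * (B.t i * x * (B.t i)⁻¹) := by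
      rw [show B.t i * x * (B.t i)⁻¹ = d * x⁻¹ by rw [hd']; group, e1,
        show y * w * (d * x⁻¹) * (y * w)⁻¹ = y * (w * (d * x⁻¹) * w⁻¹) * y⁻¹ by group,
        ((comm_zpow (h.le (mul_mem (zpowers_le_Q h hd) (inv_mem hxQ))) hwc).symm).eq, mul_inv_cancel_right,
        show y * (d * x⁻¹) * y⁻¹ = (y * d * y⁻¹) * (y * x * y⁻¹)⁻¹ by group, conj_zpow hy.cen hd,
        show (y * x * y⁻¹)⁻¹ = x⁻¹ * c⁻¹ by rw [hc']; group,
        ← mul_assoc, ((comm_zpow (h.le (mul_mem (zpowers_le_Q h hd) (inv_mem hxQ))) (inv_mem hc))).eq]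
    have h5 := mul_right_cancel (hL.symm.trans hR)
    refine hne ?_
    have h6 : c = 1 := zc_sq h hc (by nth_rw 1 [h5]; exact inv_mul_cancel c)
    exact (mul_inv_eq_iff_eq_mul.1 (mul_inv_eq_one.1 h6) : y * x = x * y).symm
  -- the translation commutes with `y`
  have hyw : Commute y w := by
    have he : y * w * y⁻¹ * w⁻¹ ∈ zpowers z := by
      refine B.vec_ext h (conj_mem h hy.cen hwQ) hwQ fun k => ?_
      rw [B.vec_conj h hyH k hwQ]
      rcases eq_or_ne k i with rfl | hk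
      · rw [hM, M2.app_one]
      · obtain rfl : k = i.rev := Two.eq_rev hk.symm
        have : B.vec i.rev w = 0 := Prod.ext
          ((frm_eq_zero h hwQ (B.b_Q _)).2 (hrev _ (B.b_mem _)))
          ((frm_eq_zero h (B.a_Q _) hwQ).2 (hrev _ (B.a_mem _)).symm)
        rw [this]; simp [M2.app]
    set e := y * w * y⁻¹ * w⁻¹ with he'
    have e1 : y' = y * w := by rw [hw]; group
    have h1 : B.t i * e * (B.t i)⁻¹ = e⁻¹ := by
      have htw : B.t i * w * (B.t i)⁻¹ = w⁻¹ := by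
        rw [hw, show B.t i * (y⁻¹ * y') * (B.t i)⁻¹ = (B.t i * y * (B.t i)⁻¹)⁻¹ * (B.t i * y' * (B.t i)⁻¹) by
          group, ← hy', show B.t i * y' * (B.t i)⁻¹ = (B.t i * B.t i) * y * (B.t i * B.t i)⁻¹ by
          rw [hy']; group, ht2]
        group
      calc B.t i * e * (B.t i)⁻¹ = y' * (B.t i * w * (B.t i)⁻¹) * y'⁻¹ * (B.t i * w * (B.t i)⁻¹)⁻¹ := by
            rw [he', hy']; group
        _ = (e * w)⁻¹ * w := by rw [htw, e1, he']; group
        _ = e⁻¹ := by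
          rw [mul_inv_rev, mul_assoc, (comm_zpow (h.le hwQ) (inv_mem he)).symm.eq, inv_mul_cancel_left]
    rw [conj_zpow (B.toTwo.t_le i) he] at h1
    have h6 : e = 1 := zc_sq h he (by nth_rw 1 [h1]; exact inv_mul_cancel e)
    exact mul_inv_eq_iff_eq_mul.1 (mul_inv_eq_one.1 h6)
  -- the translates seen from `y`
  obtain ⟨Qy, hyy⟩ := hyp_Tp h hy.mem
  obtain ⟨By⟩ := exists_bas hyy
  have hzy : Pt y Qy z := hy.symm h hyy
  obtain ⟨j, hj⟩ := By.Pt_cl hyy hzy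
  have hwH := By.mem_Hs_other hyy h B hwQ hyw.symm
  obtain ⟨n, hn⟩ : ∃ n : ℕ, By.cl j w + n • By.cl j z = 0 := by
    have : ∀ a b : ZMod 3, b ≠ 0 → a + (0 : ℕ) • b = 0 ∨ a + (1 : ℕ) • b = 0 ∨ a + (2 : ℕ) • b = 0 := by
      decide
    rcases this (By.cl j w) _ hj with e | e | e
    exacts [⟨0, e⟩, ⟨1, e⟩, ⟨2, e⟩]
  set v := w * z ^ n with hv
  have hc := pow_mem (mem_zpowers z) n
  have hvQ : v ∈ Q := mul_mem hwQ (zpowers_le_Q h hc)
  have hvz : v ∉ zpowers z := fun h1 => hwz (by simpa [hv] using mul_mem h1 (inv_mem hc))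
  have hvy : Commute y v := hyw.mul_right (comm_zpow hy.cen hc)
  have hpT : y * v ∈ Tp z := by
    have h1 := Tp_conj (hfull _ hc) (B.t i)
    rwa [show B.t i * (z ^ n * y) * (B.t i)⁻¹ = (B.t i * z ^ n * (B.t i)⁻¹) * y' by rw [hy']; group,
      conj_zpow (B.toTwo.t_le i) hc, (comm_zpow (B.Hs_le hy'H) hc).symm.eq,
      show y' = y * w by rw [hw]; group, mul_assoc, ← hv] at h1
  have hpQ : y * v ∉ Qy := fun h1 => by
    have h2 := weak_Tp hyy (by rw [Tp_eq hy.mem]; exact hpT) h1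
    exact hvz (by
      rw [hy.zpow_Q h (by simpa using mul_mem (inv_mem (mem_zpowers y)) h2) hvQ]; exact one_mem _)
  have hp : Pt y Qy (y * v) :=
    ⟨by rw [Tp_eq hy.mem]; exact hpT,
      mem_centralizer_singleton_iff.2 ((Commute.refl y).mul_right hvy).symm.eq, hpQ⟩
  have hpe : By.cl j (y * v) = 0 := by
    have hzH := By.Pt_Hs hyy hzy
    rw [By.cl_mul hyy (By.Q_le_Hs hyy (z_mem hyy)) (mul_mem hwH (pow_mem hzH n)), By.cl_Q hyy (z_mem hyy),
      zero_add, By.cl_mul hyy hwH (pow_mem hzH n), By.cl_pow hyy hzH]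
    exact hn
  have h2 := By.one_full hyy hp hpe y⁻¹ (inv_mem (mem_zpowers y))
  rw [inv_mul_cancel_left, Tp_eq hy.mem] at h2
  exact hvz (weak_Tp h h2 hvQ)

/-- A point is not conjugate to all its translates by the centre. -/
theorem not_full (h : Hyp z Q) {y : G} (hy : Pt z Q y) : ¬ Full z y := by
  intro hfull
  obtain ⟨B⟩ := exists_bas h
  obtain ⟨Qy, hyy⟩ := hyp_Tp h hy.mem
  obtain ⟨By⟩ := exists_bas hyy
  have hzy : Pt y Qy z := hy.symm h hyy
  have hzH := By.Pt_Hs hyy hzy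
  have hT : Tp y = Tp z := Tp_eq hy.mem
  have hfull' : ∀ c ∈ zpowers y, c * z ∈ Tp z := by
    intro c hc
    rcases zc hyy hc with rfl | rfl | rfl
    · simpa using self_mem_Tp z
    · rw [mem_centralizer_singleton_iff.1 hy.cen]; exact hfull z (mem_zpowers z)
    · have h1 := Tp_inv (hfull z⁻¹ (inv_mem (mem_zpowers z)))
      rwa [mul_inv_rev, inv_inv] at h1
  -- translates by the fixed classes
  have hfx : ∀ w ∈ Qy, z * w * z⁻¹ * w⁻¹ ∈ zpowers y → w * z ∈ Tp z := by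
    intro w hw hwf
    have hzc := hzy.cen
    have hd : ∀ k, ∃ u : ZMod 3 × ZMod 3, M2.app (By.mat k z) u = u - By.vec k w := fun k => by
      have hfix : M2.app (By.mat k z) (-By.vec k w) = -By.vec k w := by
        rw [← By.vec_inv hyy k hw, ← By.vec_conj hyy hzH k (inv_mem hw)]
        have hz2 : z * w⁻¹ * z⁻¹ = (z * w * z⁻¹ * w⁻¹ * w)⁻¹ := by group
        rw [hz2, By.vec_inv hyy k (mul_mem (zpowers_le_Q hyy hwf) hw),
          By.vec_mul hyy k (zpowers_le_Q hyy hwf) hw, By.vec_zpowers hyy k hwf, zero_add, By.vec_inv hyy k hw]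
      obtain ⟨u, hu⟩ := M2.disp _ (By.mat_det hyy hzH k)
        (By.mat_cube hyy hzH (by rw [z_cube h]; exact one_mem _) k)
        (fun e => two_block hyy hzy By k (by rw [Bas.cl, e, M2.cls_one])) _ hfix
      exact ⟨u, hu.trans (sub_eq_add_neg _ _).symm⟩
    choose u hu using hd
    obtain ⟨q, hq, hqv⟩ := By.exists_both hyy u
    set c := w * (q * z * q⁻¹ * z⁻¹)⁻¹ with hc'
    have hqz : q * z * q⁻¹ * z⁻¹ = q * (z * q * z⁻¹)⁻¹ := by group
    have hqz' := conj_mem hyy hzc hq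
    have hc : c ∈ zpowers y := by
      refine By.vec_ext hyy hw (by rw [hqz]; exact mul_mem hq (inv_mem hqz')) fun k => ?_
      rw [hqz, By.vec_mul hyy k hq (inv_mem hqz'), By.vec_inv hyy k hqz', By.vec_conj hyy hzH k hq, hqv, hu]
      abel
    have e : w * z = q * (c * z) * q⁻¹ := by
      rw [show q * (c * z) * q⁻¹ = (q * c * q⁻¹) * (q * z * q⁻¹) by group, conj_zpow (hyy.le hq) hc, hc']
      group
    rw [e]
    exact Tp_conj (hfull' c hc) q
  -- fixed classes in the two blocks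
  have hx : ∀ k, ∃ x ∈ By.Qi k, x ∉ zpowers y ∧ z * x * z⁻¹ * x⁻¹ ∈ zpowers y := fun k => by
    obtain ⟨v, hv, hv0⟩ := M2.exists_fix _ (By.mat_det hyy hzH k)
      (By.mat_cube hyy hzH (by rw [z_cube h]; exact one_mem _) k)
    refine ⟨By.std k v, By.std_mem k v, fun h1 => hv0 ?_, ?_⟩
    · have := By.vec_zpowers hyy k h1
      rwa [By.vec_std hyy] at this
    · refine By.vec_ext hyy (conj_mem hyy hzy.cen (By.std_Q k v)) (By.std_Q k v) fun l => ?_
      rw [By.vec_conj hyy hzH l (By.std_Q k v)]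
      rcases eq_or_ne l k with rfl | hl
      · rw [By.vec_std hyy]; exact hv
      · rw [By.vec_other hyy hl (By.std_mem k v)]; simp [M2.app]
  obtain ⟨w, hwQ, hwz, hwy⟩ : ∃ w ∈ Qy, Commute z w ∧ w ∉ zpowers y := by
    obtain ⟨x₀, hx₀, hx₀z, he₀⟩ := hx 0
    obtain ⟨x₁, hx₁, hx₁z, he₁⟩ := hx 1
    have h0 := By.toTwo.Qi_le 0 hx₀
    have h1 := By.toTwo.Qi_le 1 hx₁
    by_cases e0 : z * x₀ * z⁻¹ * x₀⁻¹ = 1
    · exact ⟨x₀, h0, mul_inv_eq_iff_eq_mul.1 (mul_inv_eq_one.1 e0), hx₀z⟩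
    by_cases e1 : z * x₁ * z⁻¹ * x₁⁻¹ = 1
    · exact ⟨x₁, h1, mul_inv_eq_iff_eq_mul.1 (mul_inv_eq_one.1 e1), hx₁z⟩
    set a := z * x₀ * z⁻¹ * x₀⁻¹ with ha
    set b := z * x₁ * z⁻¹ * x₁⁻¹ with hb
    have hbad : ∀ x ∈ By.Qi 1, x₀ * x ∈ zpowers y → False := fun x hx hin => hx₀z (by
      refine By.blocks_inf hyy hx₀ ?_
      have h5 := mul_mem (By.z_mem_Qi hyy 1 hin) (inv_mem hx)
      rwa [mul_inv_cancel_right] at h5)
    have hprod : ∀ x ∈ Qy, z * x * z⁻¹ * x⁻¹ ∈ zpowers y →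
        z * (x₀ * x) * z⁻¹ * (x₀ * x)⁻¹ = a * (z * x * z⁻¹ * x⁻¹) := fun x hx hxe => by
      rw [show z * (x₀ * x) * z⁻¹ * (x₀ * x)⁻¹ = a * (x₀ * (z * x * z⁻¹ * x⁻¹) * x₀⁻¹) by rw [ha]; group,
        conj_zpow (hyy.le h0) hxe]
    rcases zc hyy he₀ with e | e | e
    · exact absurd e e0
    all_goals rcases zc hyy he₁ with e' | e' | e'
    all_goals first
      | exact absurd e' e1
      | (refine ⟨x₀ * x₁, mul_mem h0 h1, mul_inv_eq_iff_eq_mul.1 (mul_inv_eq_one.1 ?_), hbad x₁ hx₁⟩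
         rw [hprod x₁ h1 he₁, ← hb, e, e']
         simp; done)
      | (have hb' : z * x₁⁻¹ * z⁻¹ * x₁⁻¹⁻¹ = b⁻¹ := by
           rw [show z * x₁⁻¹ * z⁻¹ * x₁⁻¹⁻¹ = x₁⁻¹ * b⁻¹ * x₁⁻¹⁻¹ by rw [hb]; group,
             conj_zpow (hyy.le (inv_mem h1)) (inv_mem he₁)]
         refine ⟨x₀ * x₁⁻¹, mul_mem h0 (inv_mem h1), mul_inv_eq_iff_eq_mul.1 (mul_inv_eq_one.1 ?_),
           hbad _ (inv_mem hx₁)⟩
         rw [hprod _ (inv_mem h1) (hb' ▸ inv_mem he₁), hb', e, e']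
         simp; done)
  -- adjust by a power of `y`
  have hyH := B.Pt_Hs h hy
  have hwH : w ∈ B.Hs :=
    B.mem_Hs_of_cube h (mem_centralizer_singleton_iff.2 hwz.symm.eq) (by rw [By.cube hyy hwQ]; exact one_mem _)
  obtain ⟨n, hn⟩ : ∃ n : ℕ, B.cl 0 w + n • B.cl 0 y = 0 := by
    have : ∀ a b : ZMod 3, b ≠ 0 → a + (0 : ℕ) • b = 0 ∨ a + (1 : ℕ) • b = 0 ∨ a + (2 : ℕ) • b = 0 := by
      decide
    rcases this (B.cl 0 w) _ (two_block h hy B 0) with e | e | e
    exacts [⟨0, e⟩, ⟨1, e⟩, ⟨2, e⟩]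
  have hc : y ^ n ∈ zpowers y := pow_mem (mem_zpowers y) n
  set v := w * y ^ n with hv
  have hvH : v ∈ B.Hs := mul_mem hwH (pow_mem hyH n)
  have hv0 : B.cl 0 v = 0 := by rw [B.cl_mul h hwH (pow_mem hyH n), B.cl_pow h hyH]; exact hn
  have hvQy : v ∈ Qy := mul_mem hwQ (zpowers_le_Q hyy hc)
  have hvz : Commute z v := hwz.mul_right (Commute.pow_right (show Commute z y from (mem_centralizer_singleton_iff.1 hy.cen).symm) n)
  have hvy : v ∉ zpowers y := fun h1 => hwy (by simpa [hv] using mul_mem h1 (inv_mem hc))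
  have hp : v * z ∈ Tp z := hfx v hvQy (by rw [hvz.eq, mul_inv_cancel_right, mul_inv_cancel]; exact one_mem _)
  have hout : v * z ∉ Q := fun h1 => hvy (by
    have h2 : v ∈ zpowers z := by simpa using mul_mem (weak_Tp h hp h1) (inv_mem (mem_zpowers z))
    rw [hy.zpowers_inf h hyy h2 hvQy]; exact one_mem _)
  have hpP : Pt z Q (v * z) :=
    ⟨hp, mem_centralizer_singleton_iff.2 ((hvz.symm.mul_left (Commute.refl z)).eq), hout⟩
  refine two_block h hpP B 0 ?_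
  rw [B.cl_mul h hvH (B.Q_le_Hs h (z_mem h)), B.cl_Q h (z_mem h), hv0, add_zero]

/-- A point centralises the fixed classes. -/
theorem fix_commute (h : Hyp z Q) {y x : G} (hy : Pt z Q y) (hx : x ∈ centralizer ({z} : Set G))
    (hc : y * x * y⁻¹ * x⁻¹ ∈ zpowers z) : Commute y x := by
  by_contra hne
  refine not_full h hy (full_of h hy.mem hx ?_ fun e => hne ?_)
  · rw [show x * y * x⁻¹ * y⁻¹ = (y * x * y⁻¹ * x⁻¹)⁻¹ by group]; exact inv_mem hc
  · exact (mul_inv_eq_iff_eq_mul.1 (mul_inv_eq_one.1 e) : x * y = y * x).symm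

end Cfsg.Agent.U62Three.A
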