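import Cfsg.Agent.U62Three.A.Blocks

/-!
# The conjugates of `z` and of its inverse, and the transport of the hypotheses to them
-/

set_option autoImplicit false

open Subgroup

namespace Cfsg.Agent.U62Three.A

universe u

variable {G : Type u} [Group G] {z : G} {Q : Subgroup G}

/-- The conjugates of `z` and of its inverse. -/
def Tp (z : G) : Set G := {y | ∃ g, y = g * z * g⁻¹ ∨ y = g * z⁻¹ * g⁻¹}

/-- A point outside `Q` in `C(z)`. -/
structure Pt (z : G) (Q : Subgroup G) (y : G) : Prop where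
  mem : y ∈ Tp z
  cen : y ∈ centralizer ({z} : Set G)
  out : y ∉ Q

theorem self_mem_Tp (z : G) : z ∈ Tp z := ⟨1, Or.inl (by simp)⟩

theorem Tp_inv {y : G} (hy : y ∈ Tp z) : y⁻¹ ∈ Tp z := by
  obtain ⟨g, e | e⟩ := hy
  · exact ⟨g, Or.inr (by rw [e]; simp [mul_assoc])⟩
  · exact ⟨g, Or.inl (by rw [e]; simp [mul_assoc])⟩

theorem Tp_conj {y : G} (hy : y ∈ Tp z) (k : G) : k * y * k⁻¹ ∈ Tp z := by
  obtain ⟨g, e | e⟩ := hy
  · exact ⟨k * g, Or.inl (by rw [e]; group)⟩
  · exact ⟨k * g, Or.inr (by rw [e]; group)⟩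

theorem Tp_eq {y : G} (hy : y ∈ Tp z) : Tp y = Tp z := by
  ext x
  constructor
  · rintro ⟨g, rfl | rfl⟩
    · exact Tp_conj hy g
    · exact Tp_conj (Tp_inv hy) g
  · intro hx
    obtain ⟨g, e | e⟩ := hy <;> obtain ⟨k, e' | e'⟩ := hx <;> rw [e, e']
    · exact ⟨k * g⁻¹, Or.inl (by group)⟩
    · exact ⟨k * g⁻¹, Or.inr (by group)⟩
    · exact ⟨k * g⁻¹, Or.inr (by group)⟩
    · exact ⟨k * g⁻¹, Or.inl (by group)⟩

theorem weak_Tp (h : Hyp z Q) {y : G} (hy : y ∈ Tp z) (hQ : y ∈ Q) : y ∈ zpowers z := by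
  obtain ⟨g, e | e⟩ := hy
  · exact e ▸ h.weak g (e ▸ hQ)
  · have e' : y⁻¹ = g * z * g⁻¹ := by rw [e]; simp [mul_assoc]
    exact inv_mem_iff.1 (e' ▸ h.weak g (e' ▸ inv_mem hQ))

theorem Tp_cube (h : Hyp z Q) {y : G} (hy : y ∈ Tp z) : y ^ 3 = 1 := by
  obtain ⟨g, e | e⟩ := hy <;> rw [e, conj_pow] <;> simp [inv_pow, z_cube h]

theorem centralizer_inv_singleton (z : G) :
    centralizer ({z⁻¹} : Set G) = centralizer ({z} : Set G) := by
  ext x
  simp only [mem_centralizer_singleton_iff]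
  exact ⟨fun e => (Commute.inv_right_iff.1 e), fun e => Commute.inv_right e⟩

theorem hyp_inv (h : Hyp z Q) : Hyp z⁻¹ Q where
  oz := by rw [orderOf_inv, h.oz]
  ext := h.ext
  card := h.card
  le := by rw [centralizer_inv_singleton]; exact h.le
  centre := by rw [h.centre, zpowers_inv]
  normal := by rw [centralizer_inv_singleton]; exact h.normal
  self := h.self
  quat := by simpa only [centralizer_inv_singleton] using h.quat
  weak := fun g hg => by
    rw [zpowers_inv]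
    have e : g * z⁻¹ * g⁻¹ = (g * z * g⁻¹)⁻¹ := by group
    rw [e] at hg ⊢
    exact inv_mem (h.weak g (inv_mem_iff.1 hg))
  moved := by
    obtain ⟨g, h1, h2⟩ := h.moved
    refine ⟨g, ?_, ?_⟩
    · rw [show g * z⁻¹ * g⁻¹ = (g * z * g⁻¹)⁻¹ by group, centralizer_inv_singleton]; exact inv_mem h1
    · rw [show g * z⁻¹ * g⁻¹ = (g * z * g⁻¹)⁻¹ by group]; exact fun h3 => h2 (inv_mem_iff.1 h3)

theorem extraspecial_congr' {P P' : Type*} [Group P] [Group P'] [Finite P] [Finite P'] {p : ℕ}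
    (e : P ≃* P') (h : IsExtraspecial p P) : IsExtraspecial p P' := by
  have hmap : (center P).map e.toMonoidHom = center P' := by
    ext y
    constructor
    · rintro ⟨x, hx, rfl⟩
      refine mem_center_iff.2 fun g => ?_
      obtain ⟨g', rfl⟩ := e.surjective g
      show e g' * e x = e x * e g'
      rw [← map_mul, ← map_mul, mem_center_iff.1 hx]
    · intro hy
      refine ⟨e.symm y, mem_center_iff.2 fun g => e.injective ?_, e.apply_symm_apply y⟩
      rw [map_mul, map_mul, e.apply_symm_apply, mem_center_iff.1 hy]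
  obtain ⟨⟨hp, hf, hc⟩, hcard⟩ := h
  refine ⟨⟨hp.of_equiv e, ?_, ?_⟩, ?_⟩
  · rw [← hmap, ← hf]
    refine le_antisymm ?_ (Core.map_frattini_le_of_surjective e.surjective)
    intro y hy
    exact ⟨e.symm y, Core.map_frattini_le_of_surjective (f := e.symm.toMonoidHom) e.symm.surjective
      ⟨y, hy, rfl⟩, e.apply_symm_apply y⟩
  · rw [← hmap, ← hc, commutator_def, commutator_def, map_commutator,
      ← MonoidHom.range_eq_map, MonoidHom.range_eq_top.2 e.surjective]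
  · rw [← hmap, card_map_of_injective e.injective, hcard]

theorem hyp_map [Finite G] (h : Hyp z Q) (e : G ≃* G) : Hyp (e z) (Q.map e.toMonoidHom) := by
  have hc : centralizer ({e z} : Set G) = (centralizer ({z} : Set G)).map e.toMonoidHom := by
    ext x
    rw [mem_map_equiv, mem_centralizer_singleton_iff, mem_centralizer_singleton_iff]
    conv_lhs => rw [← e.apply_symm_apply x, ← map_mul, ← map_mul, e.injective.eq_iff]
  have hn : ∀ K : Subgroup G, (normalizer (K : Set G)).map e.toMonoidHom ≤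
      normalizer ((K.map e.toMonoidHom : Subgroup G) : Set G) := fun K => le_normalizer_map _
  let eQ : ↥Q ≃* ↥(Q.map e.toMonoidHom) := Q.equivMapOfInjective _ e.injective
  refine ⟨?_, ?_, ?_, ?_, ?_, ?_, ?_, ?_, ?_, ?_⟩
  · rw [← MulEquiv.coe_toMonoidHom, orderOf_injective _ e.injective, h.oz]
  · exact extraspecial_congr' eQ h.ext
  · rw [← Nat.card_congr eQ.toEquiv, h.card]
  · rw [hc]; exact map_mono h.le
  · ext x
    have hcz : ∀ w : ↥Q, eQ w ∈ center ↥(Q.map e.toMonoidHom) ↔ w ∈ center ↥Q := fun w => by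
      simp only [mem_center_iff]
      constructor
      · intro h1 v; exact eQ.injective (by rw [map_mul, map_mul, h1])
      · intro h1 v; rw [← eQ.apply_symm_apply v, ← map_mul, ← map_mul, h1]
    rw [show zpowers (e z) = (zpowers z).map e.toMonoidHom from (e.toMonoidHom.map_zpowers z).symm, ← h.centre]
    simp only [mem_map]
    constructor
    · rintro ⟨w, hw, rfl⟩
      refine ⟨(eQ.symm w : G), ⟨eQ.symm w, (hcz _).1 (by rwa [eQ.apply_symm_apply]), rfl⟩, ?_⟩
      conv_rhs => rw [← eQ.apply_symm_apply w]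
      exact (coe_equivMapOfInjective_apply Q e.toMonoidHom e.injective (eQ.symm w)).symm
    · rintro ⟨_, ⟨w, hw, rfl⟩, rfl⟩
      exact ⟨eQ w, (hcz w).2 hw, coe_equivMapOfInjective_apply Q e.toMonoidHom e.injective w⟩
  · rw [hc]; exact (map_mono h.normal).trans (hn _)
  · intro x hx
    rw [mem_map_equiv]
    refine h.self (mem_centralizer_iff.2 fun q hq => e.injective ?_)
    rw [map_mul, map_mul, e.apply_symm_apply]
    exact mem_centralizer_iff.1 hx (e q) (mem_map_of_mem _ hq)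
  · obtain ⟨P, hP, ⟨eP⟩, hPn⟩ := h.quat
    refine ⟨P.map e.toMonoidHom, by rw [hc]; exact map_mono hP,
      ⟨(P.equivMapOfInjective _ e.injective).symm.trans eP⟩, ?_⟩
    rw [hc, ← Subgroup.map_sup]
    exact (map_mono hPn).trans (hn _)
  · intro g hg
    rw [mem_map_equiv, map_mul, map_mul, map_inv, e.symm_apply_apply] at hg
    have := h.weak _ hg
    obtain ⟨k, hk⟩ := mem_zpowers_iff.1 this
    refine mem_zpowers_iff.2 ⟨k, ?_⟩
    rw [← map_zpow, hk, map_mul, map_mul, map_inv, e.apply_symm_apply]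
  · obtain ⟨g, h1, h2⟩ := h.moved
    refine ⟨e g, ?_, ?_⟩
    · rw [hc, ← map_inv, ← map_mul, ← map_mul]; exact mem_map_of_mem _ h1
    · rw [← map_inv, ← map_mul, ← map_mul, mem_map_equiv, e.symm_apply_apply]; exact h2

/-- The hypotheses at a point. -/
theorem hyp_Tp [Finite G] (h : Hyp z Q) {y : G} (hy : y ∈ Tp z) : ∃ Qy : Subgroup G, Hyp y Qy := by
  obtain ⟨g, e | e⟩ := hy
  · exact ⟨_, (e.trans (MulAut.conj_apply g z).symm) ▸ hyp_map h (MulAut.conj g)⟩
  · exact ⟨_, (e.trans (MulAut.conj_apply g z⁻¹).symm) ▸ hyp_map (hyp_inv h) (MulAut.conj g)⟩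

variable [Finite G]

theorem Pt.cube {y : G} (hy : Pt z Q y) (h : Hyp z Q) : y ^ 3 = 1 := Tp_cube h hy.mem

theorem Pt.zpow_Q {y : G} (hy : Pt z Q y) (h : Hyp z Q) {w : G} (hw : w ∈ zpowers y) (hQ : w ∈ Q) :
    w = 1 := by
  obtain ⟨Qy, hyy⟩ := hyp_Tp h hy.mem
  rcases zc hyy hw with e | e | e
  · exact e
  · exact absurd (e ▸ hQ) hy.out
  · exact absurd (inv_mem_iff.1 (e ▸ hQ)) hy.out

theorem Pt.symm {y : G} (hy : Pt z Q y) (h : Hyp z Q) {Qy : Subgroup G} (hyy : Hyp y Qy) : Pt y Qy z := by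
  refine ⟨by rw [Tp_eq hy.mem]; exact self_mem_Tp z,
    mem_centralizer_singleton_iff.2 (mem_centralizer_singleton_iff.1 hy.cen).symm, fun hz => ?_⟩
  have h1 := weak_Tp hyy (by rw [Tp_eq hy.mem]; exact self_mem_Tp z) hz
  exact z_ne h (hy.zpow_Q h h1 (U62Three.A.z_mem h))

theorem Pt.zpowers_inf {y : G} (hy : Pt z Q y) (h : Hyp z Q) {Qy : Subgroup G} (hyy : Hyp y Qy) {c : G}
    (hc : c ∈ zpowers z) (hQ : c ∈ Qy) : c = 1 :=
  (hy.symm h hyy).zpow_Q hyy hc hQ

theorem Bas.Pt_Hs (B : Bas z Q) (h : Hyp z Q) {y : G} (hy : Pt z Q y) : y ∈ B.Hs :=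
  B.mem_Hs_of_cube h hy.cen (by rw [hy.cube h]; exact one_mem _)

theorem Bas.Pt_cl (B : Bas z Q) (h : Hyp z Q) {y : G} (hy : Pt z Q y) : ∃ i, B.cl i y ≠ 0 := by
  by_contra hall
  push Not at hall
  exact hy.out (B.mem_Q_of_cl h (B.Pt_Hs h hy) (by rw [hy.cube h]; exact one_mem _) hall)

/-- An element of `Q` in `C(y)`, seen from `y`. -/
theorem Bas.mem_Hs_other {y : G} {Qy : Subgroup G} (By : Bas y Qy) (hyy : Hyp y Qy) (h : Hyp z Q) (B : Bas z Q)
    {a : G} (ha : a ∈ Q) (hc : Commute a y) : a ∈ By.Hs :=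
  By.mem_Hs_of_cube hyy (mem_centralizer_singleton_iff.2 hc.eq) (by rw [B.cube h ha]; exact one_mem _)

/-- The centraliser in `Q` of a point is abelian. -/
theorem Pt.cent_comm {y : G} (hy : Pt z Q y) (h : Hyp z Q) {a b : G} (ha : a ∈ Q) (hb : b ∈ Q)
    (hya : Commute a y) (hyb : Commute b y) : Commute a b := by
  obtain ⟨Qy, hyy⟩ := hyp_Tp h hy.mem
  obtain ⟨B⟩ := exists_bas h
  obtain ⟨By⟩ := exists_bas hyy
  have hA := By.mem_Hs_other hyy h B ha hya
  have hB := By.mem_Hs_other hyy h B hb hyb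
  have hc := comm_mem h ha hb
  have hH : a * b * a⁻¹ * b⁻¹ ∈ By.Hs := mul_mem (mul_mem (mul_mem hA hB) (inv_mem hA)) (inv_mem hB)
  have : a * b * a⁻¹ * b⁻¹ ∈ Qy := By.mem_Q_of_cl hyy hH (by rw [Q_cube_zero h hc]; exact one_mem _) fun i => by
    rw [By.cl_mul hyy (mul_mem (mul_mem hA hB) (inv_mem hA)) (inv_mem hB),
      By.cl_mul hyy (mul_mem hA hB) (inv_mem hA), By.cl_mul hyy hA hB, By.cl_inv hyy hA, By.cl_inv hyy hB]
    ring
  exact mul_inv_eq_iff_eq_mul.1 (mul_inv_eq_one.1 (hy.zpowers_inf h hyy hc this))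

end Cfsg.Agent.U62Three.A
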