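import Cfsg.Agent.U62Three.A.BlockSpace

/-!
# The kernels on the blocks are quaternion, and `C(z)` permutes the blocks
-/

set_option autoImplicit false

open Subgroup Pointwise

namespace Cfsg.Agent.U62Three.A.Two

universe u

variable {G : Type u} [Group G] {z : G} {Q : Subgroup G} (T : Two z Q) [Finite G] (h : Hyp z Q)

omit [Finite G] in
theorem R_le_P (i : Fin 2) : T.R i ≤ T.P := inf_le_left

theorem R_cent {i k : Fin 2} (hik : i ≠ k) {r x : G} (hr : r ∈ T.R i) (hx : x ∈ T.Qi k) : Commute r x := by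
  obtain rfl := eq_rev hik
  exact (mem_centralizer_iff.1 hr.2 x hx).symm

include h in
theorem t_mem_R (i : Fin 2) : T.t i ∈ T.R i :=
  ⟨T.t_P i, mem_centralizer_iff.2 fun x hx => by
    have := T.t_fix hx
    rw [Fin.rev_rev] at this
    exact this.symm⟩

include h in
theorem cent_Q {g : G} (hg : ∀ i, ∀ x ∈ T.Qi i, Commute g x) : g ∈ centralizer (Q : Set G) :=
  mem_centralizer_iff.2 fun x hx => by
    obtain ⟨a, ha, b, hb, rfl⟩ := T.blocks_split h hx 0
    exact ((hg _ a ha).mul_right (hg _ b hb)).symm.eq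

include h in
theorem P_inf_Q {p : G} (hp : p ∈ T.P) (hQ : p ∈ Q) : p = 1 := by
  obtain ⟨e⟩ := T.iso
  have h4 := P_fourth e hp
  have h2 : p * p ∈ zpowers z := mem_of_sq h (mul_mem hQ hQ) (by rw [h4]; exact one_mem _)
  have h1 := mem_of_sq h hQ h2
  exact zc_sq h h1 (zc_sq h h2 h4)

include h in
theorem R_inf {i : Fin 2} {r : G} (hr : r ∈ T.R i) (hr' : r ∈ T.R i.rev) : r = 1 := by
  refine T.P_inf_Q h hr.1 (h.self (T.cent_Q h fun k x hx => ?_))
  rcases eq_or_ne i k with rfl | hk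
  · exact T.R_cent (rev_ne i) hr' hx
  · exact T.R_cent hk hr hx

include h in
theorem R_faith {i : Fin 2} {r : G} (hr : r ∈ T.R i) {x : G} (hx : x ∈ T.Qi i) (hxz : x ∉ zpowers z)
    (hf : r * x * r⁻¹ * x⁻¹ ∈ zpowers z) : r = 1 :=
  T.R_inf h hr ⟨hr.1, by
    rw [Fin.rev_rev]
    exact mem_centralizer_iff.2 fun y hy => (T.P_faith h hr.1 hx hxz hf y hy).symm.eq⟩

include h in
theorem R_norm {i : Fin 2} (k : Fin 2) {r x : G} (hr : r ∈ T.R i) (hx : x ∈ T.Qi k) :
    r * x * r⁻¹ ∈ T.Qi k :=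
  T.P_conj_Qi h hr.1 hx

include h in
theorem R_normal {i : Fin 2} {p r : G} (hp : p ∈ T.P) (hr : r ∈ T.R i) : p * r * p⁻¹ ∈ T.R i := by
  refine ⟨T.P.mul_mem (T.P.mul_mem hp hr.1) (T.P.inv_mem hp), mem_centralizer_iff.2 fun x hx => ?_⟩
  have h1 : Commute r (p⁻¹ * x * p⁻¹⁻¹) := T.R_cent (rev_ne i).symm hr (T.P_conj_Qi h (inv_mem hp) hx)
  show x * (p * r * p⁻¹) = p * r * p⁻¹ * x
  rw [inv_inv] at h1
  calc x * (p * r * p⁻¹) = p * ((p⁻¹ * x * p) * r) * p⁻¹ := by group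
    _ = p * (r * (p⁻¹ * x * p)) * p⁻¹ := by rw [h1.eq]
    _ = _ := by group

include h in
theorem R_comm {r s : G} (hr : r ∈ T.R 0) (hs : s ∈ T.R 1) : Commute r s := by
  have h1 : r * s * r⁻¹ * s⁻¹ ∈ T.R 0 := by
    rw [show r * s * r⁻¹ * s⁻¹ = r * (s * r⁻¹ * s⁻¹) by group]
    exact mul_mem hr (T.R_normal h hs.1 (inv_mem hr))
  have h2 : r * s * r⁻¹ * s⁻¹ ∈ T.R 1 := mul_mem (T.R_normal h hr.1 hs) (inv_mem hs)
  exact mul_inv_eq_iff_eq_mul.1 (mul_inv_eq_one.1 (T.R_inf h h1 h2))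

include h in
/-- Modulo the elements centralising a block, `P` has at most eight elements. -/
theorem index_le (i : Fin 2) : ((centralizer (T.Qi i : Set G)).subgroupOf T.P).index ≤ 8 := by
  classical
  obtain ⟨x, hx, hxz⟩ : ∃ x ∈ T.Qi i, x ∉ zpowers z := by
    by_contra hall
    push Not at hall
    have := Nat.le_of_dvd (by rw [Nat.card_zpowers, h.oz]; norm_num) (card_dvd_of_le (fun y hy => hall y hy :
      T.Qi i ≤ zpowers z))
    rw [Nat.card_zpowers, h.oz, T.card_Qi i] at this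
    omega
  let Zi : Subgroup ↥(T.Qi i) := (zpowers z).subgroupOf (T.Qi i)
  haveI : Zi.Normal := ⟨fun a ha g => by
    rw [mem_subgroupOf] at ha ⊢
    rwa [Subgroup.coe_mul, Subgroup.coe_mul, Subgroup.coe_inv, conj_zpow (h.le (T.Qi_le i g.2)) ha]⟩
  let V := ↥(T.Qi i) ⧸ Zi
  let x0 : V := QuotientGroup.mk ⟨x, hx⟩
  let f : ↥T.P ⧸ (centralizer (T.Qi i : Set G)).subgroupOf T.P → {v : V // v ≠ 1} :=
    Quotient.lift (fun p => ⟨QuotientGroup.mk ⟨(p : G) * x * (p : G)⁻¹, T.P_conj_Qi h p.2 hx⟩, fun e => by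
        rw [QuotientGroup.eq_one_iff, mem_subgroupOf] at e
        have := conj_zpow (T.P_le (inv_mem p.2)) e
        rw [show (p : G)⁻¹ * ((p : G) * x * (p : G)⁻¹) * (p : G)⁻¹⁻¹ = x by group] at this
        exact hxz (this ▸ e)⟩)
      fun p q hpq => Subtype.ext <| congrArg QuotientGroup.mk <| Subtype.ext <| by
        have hc := mem_centralizer_iff.1 (mem_subgroupOf.1 (QuotientGroup.leftRel_apply.1 hpq)) x hx
        rw [Subgroup.coe_mul, Subgroup.coe_inv] at hc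
        calc (p : G) * x * (p : G)⁻¹ = (p : G) * (x * ((p : G)⁻¹ * q)) * (q : G)⁻¹ := by group
          _ = (p : G) * (((p : G)⁻¹ * q) * x) * (q : G)⁻¹ := by rw [hc]
          _ = _ := by group
  have hf : Function.Injective f := by
    intro a b
    induction a using QuotientGroup.induction_on with
    | _ p =>
    induction b using QuotientGroup.induction_on with
    | _ q =>
    intro e
    have e' : ((p : G) * x * (p : G)⁻¹)⁻¹ * ((q : G) * x * (q : G)⁻¹) ∈ zpowers z :=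
      mem_subgroupOf.1 (QuotientGroup.eq.1 (congrArg Subtype.val e :
        (QuotientGroup.mk ⟨(p : G) * x * (p : G)⁻¹, T.P_conj_Qi h p.2 hx⟩ : V) =
          QuotientGroup.mk ⟨(q : G) * x * (q : G)⁻¹, T.P_conj_Qi h q.2 hx⟩))
    rw [QuotientGroup.eq, mem_subgroupOf]
    refine mem_centralizer_iff.2 fun y hy => (T.P_faith h (p⁻¹ * q).2 hx hxz ?_ y hy).symm.eq
    rw [Subgroup.coe_mul, Subgroup.coe_inv]
    have h3 : (p : G)⁻¹ * ((q : G) * x * (q : G)⁻¹ * ((p : G) * x * (p : G)⁻¹)⁻¹) * (p : G)⁻¹⁻¹ =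
        ((p : G)⁻¹ * q) * x * ((p : G)⁻¹ * q)⁻¹ * x⁻¹ := by group
    have h4 : (q : G) * x * (q : G)⁻¹ * ((p : G) * x * (p : G)⁻¹)⁻¹ ∈ zpowers z := by
      have h5 := conj_zpow (h.le (conj_mem h (T.P_le p.2) (mem_cs.1 hx).1)) e'
      rw [show (p : G) * x * (p : G)⁻¹ * (((p : G) * x * (p : G)⁻¹)⁻¹ * ((q : G) * x * (q : G)⁻¹)) *
        ((p : G) * x * (p : G)⁻¹)⁻¹ = (q : G) * x * (q : G)⁻¹ * ((p : G) * x * (p : G)⁻¹)⁻¹ by group] at h5
      exact h5 ▸ e'
    rw [← h3, conj_zpow (T.P_le (inv_mem p.2)) h4]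
    exact h4
  have hV : Nat.card V = 9 := by
    have := Subgroup.card_eq_card_quotient_mul_card_subgroup Zi
    rw [T.card_Qi i, Nat.card_congr (subgroupOfEquivOfLe (T.z_mem_Qi h i)).toEquiv, Nat.card_zpowers, h.oz] at this
    show Nat.card (↥(T.Qi i) ⧸ Zi) = 9
    omega
  have h1 := Nat.card_le_card_of_injective f hf
  rw [← index_eq_card] at h1
  refine h1.trans (le_of_eq ?_)
  have := Fintype.ofFinite V
  rw [Nat.card_eq_fintype_card, Fintype.card_subtype_compl, Fintype.card_subtype_eq,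
    ← Nat.card_eq_fintype_card, hV]

include h in
theorem card_R_and_sup (i : Fin 2) : Nat.card ↥(T.R i) = 8 ∧ T.R i ⊔ T.R i.rev = T.P := by
  obtain ⟨e⟩ := T.iso
  have h64 : Nat.card ↥T.P = 64 := by
    rw [Nat.card_congr e.toEquiv, Nat.card_prod, Nat.card_eq_fintype_card, QuaternionGroup.card]
  have hge : ∀ k, 8 ≤ Nat.card ↥(T.R k) := fun k => by
    have h1 := card_mul_index ((centralizer (T.Qi k.rev : Set G)).subgroupOf T.P)
    have h2 : Nat.card ↥((centralizer (T.Qi k.rev : Set G)).subgroupOf T.P) = Nat.card ↥(T.R k) := by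
      rw [← inf_subgroupOf_left, Nat.card_congr (subgroupOfEquivOfLe inf_le_left).toEquiv]
      rfl
    rw [h2, h64] at h1
    have h8 := T.index_le h k.rev
    by_contra hlt
    have := Nat.mul_le_mul (Nat.le_of_lt_succ (Nat.lt_of_not_ge hlt) : Nat.card ↥(T.R k) ≤ 7) h8
    omega
  let φ : T.R i × T.R i.rev →* G := MonoidHom.noncommCoprod (T.R i).subtype (T.R i.rev).subtype fun a b => by
    fin_cases i
    · exact T.R_comm h a.2 b.2
    · exact (T.R_comm h b.2 a.2).symm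
  have hinj : Function.Injective φ := (injective_iff_map_eq_one φ).2 fun x hx => by
    obtain ⟨a, b⟩ := x
    have e1 : (a : G) * (b : G) = 1 := hx
    have ea := T.R_inf h a.2 (eq_inv_of_mul_eq_one_left e1 ▸ inv_mem b.2)
    exact Prod.ext (Subtype.ext ea) (Subtype.ext (by simpa [ea] using e1))
  have hr : φ.range ≤ T.P := by
    rintro _ ⟨⟨a, b⟩, rfl⟩
    exact mul_mem a.2.1 b.2.1
  have hsup : φ.range ≤ T.R i ⊔ T.R i.rev := by
    rintro _ ⟨⟨a, b⟩, rfl⟩
    exact mul_mem (mem_sup_left a.2) (mem_sup_right b.2)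
  have hc : Nat.card ↥φ.range = Nat.card ↥(T.R i) * Nat.card ↥(T.R i.rev) := by
    rw [← Nat.card_congr (MonoidHom.ofInjective hinj).toEquiv, Nat.card_prod]
  have hle := Nat.le_of_dvd (by rw [h64]; norm_num) (card_dvd_of_le hr)
  rw [hc, h64] at hle
  have h8 : Nat.card ↥(T.R i) = 8 ∧ Nat.card ↥(T.R i.rev) = 8 := by
    have := hge i
    have := hge i.rev
    constructor <;> nlinarith
  refine ⟨h8.1, le_antisymm (sup_le inf_le_left inf_le_left) ?_⟩
  rw [← eq_of_le_of_card_ge hr (by rw [h64, hc, h8.1, h8.2])]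
  exact hsup

include h in
theorem quat (i : Fin 2) : Nonempty (↥(T.R i) ≃* QuaternionGroup 2) := by
  obtain ⟨e⟩ := T.iso
  let ψ : ↥(T.R i) →* QuaternionGroup 2 × QuaternionGroup 2 := e.toMonoidHom.comp (inclusion inf_le_left)
  have hψ : Function.Injective ψ := e.injective.comp (inclusion_injective inf_le_left)
  -- the only involution of `R i`
  have hu : ∀ r s : ↥(T.R i), r * r = 1 → r ≠ 1 → s * s = 1 → s ≠ 1 → r = s := by
    have key : ∀ (r : G), r ∈ T.R i → r * r = 1 → r ≠ 1 → r = T.t i := fun r hr h2 h1 => by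
      obtain ⟨x, hx, hxz⟩ : ∃ x ∈ T.Qi i, x ∉ zpowers z := by
        by_contra hall
        push Not at hall
        refine h1 (T.R_inf h hr ⟨hr.1, ?_⟩)
        rw [Fin.rev_rev]
        exact mem_centralizer_iff.2 fun y hy => (comm_zpow (T.P_le hr.1) (hall y hy)).symm.eq
      have hrz := T.P_le hr.1
      obtain ⟨a, ha, b, hb, hab⟩ := split h hrz h2 (mem_cs.1 hx).1
      by_cases haz : a ∈ zpowers z
      · have hinv : r * x * r⁻¹ * x ∈ zpowers z :=
          (mul_mem ((zpowers_le h hrz).2 haz) hb : a * b ∈ iv h r hrz).2 |> (hab ▸ ·)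
        have h3 : (T.t i * r⁻¹⁻¹) * x * (T.t i * r⁻¹⁻¹)⁻¹ * x⁻¹ ∈ zpowers z := by
          rw [inv_inv]
          obtain ⟨w, hw, e1⟩ : ∃ w ∈ zpowers z, r * x * r⁻¹ = w * x⁻¹ := ⟨_, hinv, by group⟩
          obtain ⟨w', hw', e2⟩ : ∃ w' ∈ zpowers z, T.t i * x * (T.t i)⁻¹ = w' * x⁻¹ :=
            ⟨_, T.t_inv h hx, by group⟩
          rw [show T.t i * r * x * (T.t i * r)⁻¹ * x⁻¹ = T.t i * (r * x * r⁻¹) * (T.t i)⁻¹ * x⁻¹ by group, e1,
            show T.t i * (w * x⁻¹) * (T.t i)⁻¹ * x⁻¹ =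
              (T.t i * w * (T.t i)⁻¹) * (T.t i * x * (T.t i)⁻¹)⁻¹ * x⁻¹ by group,
            conj_zpow (T.t_le i) hw, e2, show w * (w' * x⁻¹)⁻¹ * x⁻¹ = w * (x * w'⁻¹ * x⁻¹) by group,
            conj_zpow (h.le (mem_cs.1 hx).1) (inv_mem hw')]
          exact mul_mem hw (inv_mem hw')
        rw [inv_inv] at h3
        have h5 := T.R_faith h (mul_mem (T.t_mem_R h i) hr) hx hxz h3
        rw [← inv_eq_of_mul_eq_one_right h5]
        exact inv_eq_of_mul_eq_one_right (T.t_sq i)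
      · exfalso
        -- a fixed class outside the centre
        have hax : a ∈ T.Qi i := by
          have hb' : b * b ∈ T.Qi i := by
            have hxx : (r * x * r⁻¹)⁻¹ * x ∈ T.Qi i := mul_mem (inv_mem (T.R_norm h i hr hx)) hx
            obtain ⟨w, hw, e1⟩ : ∃ w ∈ zpowers z, r * b * r⁻¹ = w * b⁻¹ := ⟨_, hb.2, by group⟩
            rw [hab, show r * (a * b) * r⁻¹ = (r * a * r⁻¹) * (r * b * r⁻¹) by group, (mem_cs.1 ha).2.eq,
              mul_inv_cancel_right, e1] at hxx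
            have h4 := mul_mem hxx (T.z_mem_Qi h i hw)
            rwa [show (a * (w * b⁻¹))⁻¹ * (a * b) * w = b * (w⁻¹ * (b * w)) by group,
              (comm_zpow (h.le hb.1) hw).eq, inv_mul_cancel_left] at h4
          have hb3 : b ∈ T.Qi i := by
            have h3 := mul_mem (inv_mem hb') (T.z_mem_Qi h i (cube_mem h hb.1))
            simpa [pow_succ, mul_assoc] using h3
          have := mul_mem hx (inv_mem hb3)
          rwa [hab, mul_inv_cancel_right] at this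
        refine h1 (T.R_faith h hr hax haz ?_)
        rw [(mem_cs.1 ha).2.eq, mul_inv_cancel_right, mul_inv_cancel]
        exact one_mem _
    intro r s hr hr1 hs hs1
    exact Subtype.ext ((key r r.2 (congrArg Subtype.val hr) fun e1 => hr1 (Subtype.ext e1)).trans
      (key s s.2 (congrArg Subtype.val hs) fun e1 => hs1 (Subtype.ext e1)).symm)
  have h8 := (T.card_R_and_sup h i).1
  -- one of the projections is injective
  let p1 := (MonoidHom.fst _ _).comp ψ
  let p2 := (MonoidHom.snd _ _).comp ψ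
  have hker : Function.Injective p1 ∨ Function.Injective p2 := by
    by_contra hno
    push Not at hno
    obtain ⟨h1, h2⟩ := hno
    rw [injective_iff_map_eq_one] at h1 h2
    push Not at h1 h2
    obtain ⟨a, ha, ha1⟩ := h1
    obtain ⟨b, hb, hb1⟩ := h2
    have four : ∀ c : ↥(T.R i), c ≠ 1 → ∃ d : ↥(T.R i), d * d = 1 ∧ d ≠ 1 ∧ (d = c ∨ d = c * c) :=
      fun c hc => by
        by_cases h2 : c * c = 1
        · exact ⟨c, h2, hc, Or.inl rfl⟩
        · exact ⟨c * c, Subtype.ext (P_fourth e c.2.1), h2, Or.inr rfl⟩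
    obtain ⟨c, hc2, hc1, hc⟩ := four a ha1
    obtain ⟨d, hd2, hd1, hd⟩ := four b hb1
    have hcd := hu c d hc2 hc1 hd2 hd1
    refine hc1 (hψ (Prod.ext ?_ ?_))
    · show p1 c = _
      rcases hc with rfl | rfl <;> simp [ha]
    · show p2 c = _
      rw [hcd]
      rcases hd with rfl | rfl <;> simp [hb]
  have hcard : Nat.card ↥(T.R i) = Nat.card (QuaternionGroup 2) := by
    rw [h8, Nat.card_eq_fintype_card, QuaternionGroup.card]
  rcases hker with hi | hi <;>
  exact ⟨MulEquiv.ofBijective _ ((Nat.bijective_iff_injective_and_card _).2 ⟨hi, hcard⟩)⟩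

include h in
theorem perm_P {g : G} (hg : g ∈ centralizer ({z} : Set G)) (i : Fin 2) :
    ∃ k, ∀ x, x ∈ T.Qi i ↔ g * x * g⁻¹ ∈ T.Qi k := by
  obtain ⟨e⟩ := T.iso
  set s := g * T.t i.rev * g⁻¹ with hs
  have hsz : s ∈ centralizer ({z} : Set G) := mul_mem (mul_mem hg (T.t_le _)) (inv_mem hg)
  have hs2 : s * s = 1 := by
    rw [hs, show g * T.t i.rev * g⁻¹ * (g * T.t i.rev * g⁻¹) = g * (T.t i.rev * T.t i.rev) * g⁻¹ by group,
      T.t_sq]
    group
  have hs1 : s ≠ 1 := fun e1 => T.t_ne i.rev (conj_eq_one_iff.1 e1)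
  have hcard : Nat.card ↥(cs Q s) = 27 := by
    rw [← T.t_card i.rev]
    refine (Nat.card_congr (Equiv.subtypeEquiv (MulAut.conj g).toEquiv fun x => ?_)).symm
    show x ∈ cs Q (T.t i.rev) ↔ g * x * g⁻¹ ∈ cs Q s
    constructor
    · intro hx
      exact mem_cs.2 ⟨conj_mem h hg (mem_cs.1 hx).1, (mem_cs.1 hx).2.map (MulAut.conj g).toMonoidHom⟩
    · intro hx
      refine mem_cs.2 ⟨?_, ?_⟩
      · simpa [mul_assoc] using conj_mem h (inv_mem hg) (mem_cs.1 hx).1
      · exact Commute.of_map (f := (MulAut.conj g).toMonoidHom) (MulAut.conj g).injective (mem_cs.1 hx).2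
  -- the conjugate of the involution lies in `Q P`
  have hsQP : s ∈ Q ⊔ T.P := (mem_normalizer_iff.1 (T.norm hg) _).1 (mem_sup_right (T.t_P _))
  have hPn : T.P ≤ normalizer (Q : Set G) := T.P_le.trans h.normal
  rw [← SetLike.mem_coe, coe_mul_of_right_le_normalizer_left Q T.P hPn] at hsQP
  obtain ⟨q, hq, p, hp, hqp⟩ := hsQP
  rw [SetLike.mem_coe] at hq hp
  change q * p = s at hqp
  have hp2 : p * p = 1 := by
    refine T.P_inf_Q h (mul_mem hp hp) ?_
    have h1 : q * (p * q * p⁻¹) * (p * p) = 1 := by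
      rw [show q * (p * q * p⁻¹) * (p * p) = (q * p) * (q * p) by group, hqp, hs2]
    rw [eq_inv_of_mul_eq_one_right h1]
    exact inv_mem (mul_mem hq (conj_mem h (T.P_le hp) hq))
  have hmod : ∀ x ∈ Q, p * x * p⁻¹ * x⁻¹ ∈ zpowers z → s * x * s⁻¹ * x⁻¹ ∈ zpowers z := fun x hx hxp => by
    rw [← hqp, show q * p * x * (q * p)⁻¹ * x⁻¹ =
      (q * (p * x * p⁻¹ * x⁻¹) * q⁻¹) * (q * x * q⁻¹ * x⁻¹) by group, conj_zpow (h.le hq) hxp]
    exact mul_mem hxp (comm_mem h hq hx)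
  have hmod' : ∀ x ∈ Q, s * x * s⁻¹ * x⁻¹ ∈ zpowers z → p * x * p⁻¹ * x⁻¹ ∈ zpowers z := fun x hx hxs => by
    rw [show p * x * p⁻¹ * x⁻¹ = (q⁻¹ * (q * p * x * (q * p)⁻¹ * x⁻¹) * q⁻¹⁻¹) * (q⁻¹ * x * q⁻¹⁻¹ * x⁻¹) by
      group, hqp, conj_zpow (h.le (inv_mem hq)) hxs]
    exact mul_mem hxs (comm_mem h (inv_mem hq) hx)
  have hfix : cs Q s = cs Q p := by
    ext x
    constructor
    · intro hx
      exact mem_cs_of_fix h (T.P_le hp) hp2 (mem_cs.1 hx).1 (hmod' x (mem_cs.1 hx).1 (by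
        rw [(mem_cs.1 hx).2.eq, mul_inv_cancel_right, mul_inv_cancel]; exact one_mem _))
    · intro hx
      exact mem_cs_of_fix h hsz hs2 (mem_cs.1 hx).1 (hmod x (mem_cs.1 hx).1 (by
        rw [(mem_cs.1 hx).2.eq, mul_inv_cancel_right, mul_inv_cancel]; exact one_mem _))
  obtain ⟨k, hk⟩ : ∃ k, cs Q p = T.Qi k := by
    have key : ∀ q a b : QuaternionGroup 2 × QuaternionGroup 2, q * q = 1 → a * a = 1 → b * b = 1 →
        a ≠ 1 → b ≠ 1 → a ≠ b → q = 1 ∨ q = a ∨ q = b ∨ q = a * b := by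
      intro q a b hq ha hb ha1 hb1 hab
      rcases quat_sq q hq with rfl | rfl | rfl | rfl <;> rcases quat_sq a ha with rfl | rfl | rfl | rfl <;>
        rcases quat_sq b hb with rfl | rfl | rfl | rfl <;> revert ha1 hb1 hab <;> decide +kernel
    have conv : ∀ (y : G) (hy : y ∈ T.P), y * y = 1 → e ⟨y, hy⟩ * e ⟨y, hy⟩ = 1 := fun y hy h2 => by
      rw [← map_mul, show (⟨y, hy⟩ : ↥T.P) * ⟨y, hy⟩ = 1 from Subtype.ext h2, map_one]
    have := key (e ⟨p, hp⟩) (e ⟨_, T.t_P 0⟩) (e ⟨_, T.t_P 1⟩) (conv _ _ hp2) (conv _ _ (T.t_sq 0))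
      (conv _ _ (T.t_sq 1)) (fun e1 => T.t_ne 0 (congrArg Subtype.val (e.injective (e1.trans e.map_one.symm))))
      (fun e1 => T.t_ne 1 (congrArg Subtype.val (e.injective (e1.trans e.map_one.symm))))
      (fun e1 => T.t_dist (congrArg Subtype.val (e.injective e1)))
    rw [← map_one e, ← map_mul] at this
    simp only [e.injective.eq_iff] at this
    simp only [Subtype.ext_iff] at this
    rcases this with e1 | e1 | e1 | e1
    · exfalso
      have hQ : cs Q p = Q := le_antisymm inf_le_left fun x hx => mem_cs.2 ⟨hx, e1 ▸ Commute.one_left x⟩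
      rw [hfix, hQ, h.card] at hcard
      omega
    · exact ⟨1, by rw [e1]; rfl⟩
    · exact ⟨0, by rw [e1]; rfl⟩
    · exfalso
      change p = T.t 0 * T.t 1 at e1
      have hsub : cs Q p ≤ zpowers z := fun x hx => by
        refine mem_of_sq h (mem_cs.1 hx).1 ?_
        obtain ⟨a, ha, b, hb, rfl⟩ := T.blocks_split h (mem_cs.1 hx).1 0
        have hcomm := (mem_cs.1 hx).2
        have hab : Commute a b := T.blocks_comm h (rev_ne 0).symm ha hb
        obtain ⟨w, hw, ea⟩ : ∃ w ∈ zpowers z, T.t 0 * a * (T.t 0)⁻¹ = w * a⁻¹ := ⟨_, T.t_inv h ha, by group⟩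
        obtain ⟨w', hw', eb⟩ : ∃ w' ∈ zpowers z, T.t 1 * b * (T.t 1)⁻¹ = w' * b⁻¹ :=
          ⟨_, T.t_inv h (i := 1) hb, by group⟩
        have fa : T.t 1 * a * (T.t 1)⁻¹ = a := by
          have := T.t_fix (i := 0) ha
          change Commute (T.t 1) a at this
          rw [this.eq, mul_inv_cancel_right]
        have fb : T.t 0 * (w' * b⁻¹) * (T.t 0)⁻¹ = w' * b⁻¹ := by
          have := T.t_fix (i := 1) hb
          change Commute (T.t 0) b at this
          rw [((comm_zpow (T.t_le 0) hw').mul_right this.inv_right).eq, mul_inv_cancel_right]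
        have h1 : p * (a * b) * p⁻¹ = (w * a⁻¹) * (w' * b⁻¹) := by
          rw [e1, show T.t 0 * T.t 1 * (a * b) * (T.t 0 * T.t 1)⁻¹ = (T.t 0 * (T.t 1 * a * (T.t 1)⁻¹) *
            (T.t 0)⁻¹) * (T.t 0 * (T.t 1 * b * (T.t 1)⁻¹) * (T.t 0)⁻¹) by group, fa, ea, eb, fb]
        rw [hcomm.eq, mul_inv_cancel_right] at h1
        have h2 : (a * b) * (a * b) = w * w' := by
          calc (a * b) * (a * b) = (w * a⁻¹ * (w' * b⁻¹)) * (a * b) := by rw [← h1]
            _ = w * (a⁻¹ * w' * a) * (a⁻¹ * (b⁻¹ * a)) * b := by group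
            _ = w * w' := by
              rw [show a⁻¹ * w' * a = a⁻¹ * w' * a⁻¹⁻¹ by rw [inv_inv],
                conj_zpow (h.le (inv_mem (T.Qi_le _ ha))) hw', (hab.inv_right).symm.eq]
              group
        rw [h2]; exact mul_mem hw hw'
      have := Nat.le_of_dvd (by rw [Nat.card_zpowers, h.oz]; norm_num) (card_dvd_of_le hsub)
      rw [hfix] at hcard
      rw [hcard, Nat.card_zpowers, h.oz] at this
      omega
  refine ⟨k, fun x => ?_⟩
  rw [← hk, ← hfix]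
  constructor
  · intro hx
    exact mem_cs.2 ⟨conj_mem h hg (mem_cs.1 hx).1, (mem_cs.1 hx).2.map (MulAut.conj g).toMonoidHom⟩
  · intro hx
    refine mem_cs.2 ⟨?_, Commute.of_map (f := (MulAut.conj g).toMonoidHom) (MulAut.conj g).injective (mem_cs.1 hx).2⟩
    simpa [mul_assoc] using conj_mem h (inv_mem hg) (mem_cs.1 hx).1

end Cfsg.Agent.U62Three.A.Two
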