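import Cfsg.Agent.U62Three.Facts
import Cfsg.Agent.Core.Frattini

/-!
# The group `Q` and the splitting by an involution

Elementary facts on the extraspecial group of order 243, and the decomposition of it into the part centralised
by an involution of `C(z)` and the part it inverts modulo the centre.
-/

set_option autoImplicit false

open Subgroup
open scoped commutatorElement

namespace Cfsg.Agent.U62Three.A

universe u

variable {G : Type u} [Group G] {z : G} {Q : Subgroup G}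

/-- The members of `zpowers z` for `z` of order three. -/
theorem zc (h : Hyp z Q) {x : G} (hx : x ∈ zpowers z) : x = 1 ∨ x = z ∨ x = z⁻¹ := by
  obtain ⟨k, rfl⟩ := mem_zpowers_iff.1 hx
  have h3 : z ^ (3 : ℤ) = 1 := by exact_mod_cast h.oz ▸ pow_orderOf_eq_one z
  have e : z ^ k = z ^ (k % 3) := by
    conv_lhs => rw [← Int.mul_ediv_add_emod k 3, zpow_add, zpow_mul, h3, one_zpow, one_mul]
  rcases (by omega : k % 3 = 0 ∨ k % 3 = 1 ∨ k % 3 = 2) with e' | e' | e'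
  · exact Or.inl (by rw [e, e', zpow_zero])
  · exact Or.inr (Or.inl (by rw [e, e', zpow_one]))
  · refine Or.inr (Or.inr ?_)
    rw [e, e']
    refine eq_inv_of_mul_eq_one_left ?_
    rw [← zpow_add_one, show (2 : ℤ) + 1 = 3 from rfl, h3]

theorem z_cube (h : Hyp z Q) : z ^ 3 = 1 := h.oz ▸ pow_orderOf_eq_one z

theorem z_ne (h : Hyp z Q) : z ≠ 1 := fun e => by simpa [e] using h.oz

theorem zpowers_le_Q (h : Hyp z Q) : zpowers z ≤ Q := h.centre ▸ map_subtype_le _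

theorem z_mem (h : Hyp z Q) : z ∈ Q := zpowers_le_Q h (mem_zpowers z)

theorem comm_zpow {g c : G} (hg : g ∈ centralizer ({z} : Set G)) (hc : c ∈ zpowers z) : Commute g c := by
  obtain ⟨k, rfl⟩ := mem_zpowers_iff.1 hc
  exact Commute.zpow_right (mem_centralizer_singleton_iff.1 hg) k

theorem conj_zpow {g c : G} (hg : g ∈ centralizer ({z} : Set G)) (hc : c ∈ zpowers z) : g * c * g⁻¹ = c := by
  rw [(comm_zpow hg hc).eq, mul_inv_cancel_right]

theorem centre_mem (h : Hyp z Q) {x : G} (hx : x ∈ Q) (hc : ∀ q ∈ Q, Commute x q) : x ∈ zpowers z := by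
  rw [← h.centre]
  exact ⟨⟨x, hx⟩, mem_center_iff.2 fun q => Subtype.ext (hc q q.2).symm.eq, rfl⟩

theorem comm_mem (h : Hyp z Q) {x y : G} (hx : x ∈ Q) (hy : y ∈ Q) : x * y * x⁻¹ * y⁻¹ ∈ zpowers z := by
  rw [← h.centre]
  refine ⟨⁅(⟨x, hx⟩ : Q), ⟨y, hy⟩⁆, ?_, rfl⟩
  rw [← h.ext.1.2.2, commutator_def]
  exact commutator_mem_commutator (mem_top _) (mem_top _)

theorem cube_mem [Finite G] (h : Hyp z Q) {x : G} (hx : x ∈ Q) : x ^ 3 ∈ zpowers z := by
  rw [← h.centre]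
  refine ⟨(⟨x, hx⟩ : Q) ^ 3, ?_, rfl⟩
  rw [← h.ext.1.2.1]
  have : Fact (Nat.Prime 3) := ⟨Nat.prime_three⟩
  exact Core.pow_mem_frattini h.ext.1.1 _

theorem conj_mem (h : Hyp z Q) {g x : G} (hg : g ∈ centralizer ({z} : Set G)) (hx : x ∈ Q) :
    g * x * g⁻¹ ∈ Q :=
  (mem_normalizer_iff.1 (h.normal hg) x).1 hx

theorem Q_cube_zero (h : Hyp z Q) [Finite G] {c : G} (hc : c ∈ zpowers z) : c ^ 3 = 1 := by
  obtain ⟨k, rfl⟩ := mem_zpowers_iff.1 hc
  rw [← zpow_natCast, ← zpow_mul, mul_comm, zpow_mul, zpow_natCast, z_cube h, one_zpow]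

/-- A central element whose square is trivial is trivial. -/
theorem zc_sq (h : Hyp z Q) [Finite G] {c : G} (hc : c ∈ zpowers z) (h2 : c * c = 1) : c = 1 := by
  have := Q_cube_zero h hc
  rwa [pow_succ, pow_two, h2, one_mul] at this

/-- A member of `Q` whose square is central is central. -/
theorem mem_of_sq (h : Hyp z Q) [Finite G] {x : G} (hx : x ∈ Q) (h2 : x * x ∈ zpowers z) : x ∈ zpowers z := by
  have h3 := cube_mem h hx
  rw [pow_succ, pow_two] at h3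
  simpa [mul_assoc] using mul_mem (inv_mem h2) h3

theorem comm_trick {a b c : G} (h1 : a * b * a⁻¹ * b⁻¹ = c) : a * b = c * (b * a) := by
  rw [← h1]; simp [mul_assoc]

/-- The elements of `Q` centralised by `s`. -/
def cs (Q : Subgroup G) (s : G) : Subgroup G := Q ⊓ centralizer ({s} : Set G)

/-- The elements of `Q` inverted modulo the centre by `s`. -/
def iv (h : Hyp z Q) (s : G) (hs : s ∈ centralizer ({z} : Set G)) : Subgroup G where
  carrier := {x | x ∈ Q ∧ s * x * s⁻¹ * x ∈ zpowers z}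
  one_mem' := ⟨one_mem _, by simp⟩
  mul_mem' := by
    rintro x y ⟨hx, hx'⟩ ⟨hy, hy'⟩
    refine ⟨mul_mem hx hy, ?_⟩
    have hc := comm_mem h (conj_mem h hs hy) hx
    have e : s * (x * y) * s⁻¹ * (x * y) =
        (s * x * s⁻¹ * ((s * y * s⁻¹) * x * (s * y * s⁻¹)⁻¹ * x⁻¹) * (s * x * s⁻¹)⁻¹) *
          (s * x * s⁻¹ * x) * (s * y * s⁻¹ * y) := by group
    rw [e, conj_zpow (h.le (conj_mem h hs hx)) hc]
    exact mul_mem (mul_mem hc hx') hy'
  inv_mem' := by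
    rintro x ⟨hx, hx'⟩
    refine ⟨inv_mem hx, ?_⟩
    have e : s * x⁻¹ * s⁻¹ * x⁻¹ =
        ((x * (s * x * s⁻¹) * x⁻¹ * (s * x * s⁻¹)⁻¹) * (s * x * s⁻¹ * x))⁻¹ := by group
    rw [e]
    exact inv_mem (mul_mem (comm_mem h hx (conj_mem h hs hx)) hx')

theorem mem_iv {h : Hyp z Q} {s : G} {hs : s ∈ centralizer ({z} : Set G)} {x : G} :
    x ∈ iv h s hs ↔ x ∈ Q ∧ s * x * s⁻¹ * x ∈ zpowers z := Iff.rfl

theorem mem_cs {s x : G} : x ∈ cs Q s ↔ x ∈ Q ∧ Commute s x := by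
  rw [cs, mem_inf, mem_centralizer_singleton_iff]
  exact and_congr_right fun _ => ⟨fun e => e.symm, fun e => e.symm⟩

variable [Finite G] (h : Hyp z Q) {s : G} (hs : s ∈ centralizer ({z} : Set G)) (h2 : s * s = 1)

include h hs h2 in
/-- Every element of `Q` is a product of a centralised and an inverted one. -/
theorem split {x : G} (hx : x ∈ Q) : ∃ a ∈ cs Q s, ∃ b ∈ iv h s hs, x = a * b := by
  have hy := conj_mem h hs hx
  have hsi : s⁻¹ = s := inv_eq_of_mul_eq_one_right h2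
  have hsy : s * (s * x * s⁻¹) * s⁻¹ = x := by
    rw [show s * (s * x * s⁻¹) * s⁻¹ = (s * s) * x * (s * s)⁻¹ by group, h2]; simp
  have hu : x * (s * x * s⁻¹)⁻¹ ∈ iv h s hs := by
    refine ⟨mul_mem hx (inv_mem hy), ?_⟩
    rw [show s * (x * (s * x * s⁻¹)⁻¹) * s⁻¹ = s * x * s⁻¹ * (s * (s * x * s⁻¹) * s⁻¹)⁻¹ by group, hsy]
    have e : s * x * s⁻¹ * x⁻¹ * (x * (s * x * s⁻¹)⁻¹) = 1 := by group
    rw [e]; exact one_mem _
  set u := x * (s * x * s⁻¹)⁻¹ with hu'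
  have hxu : x * u ∈ Q := mul_mem hx hu.1
  have hc : s * (x * u) * s⁻¹ * (x * u)⁻¹ ∈ zpowers z := by
    have e1 : s * u * s⁻¹ = u⁻¹ := by
      rw [hu', show s * (x * (s * x * s⁻¹)⁻¹) * s⁻¹ = s * x * s⁻¹ * (s * (s * x * s⁻¹) * s⁻¹)⁻¹ by group,
        hsy]
      group
    have e2 : s * (x * u) * s⁻¹ = s * x * s⁻¹ * u⁻¹ := by
      rw [← e1]; group
    rw [e2, hu']
    generalize s * x * s⁻¹ = w at hy ⊢
    have e3 : w * (x * w⁻¹)⁻¹ * (x * (x * w⁻¹))⁻¹ = w ^ 3 * (w⁻¹ * x⁻¹ * w * x) * x⁻¹ ^ 3 := by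
      simp [pow_succ, mul_assoc]
    rw [e3]
    have h1 := comm_mem h (inv_mem hy) (inv_mem hx)
    rw [inv_inv, inv_inv] at h1
    exact mul_mem (mul_mem (cube_mem h hy) h1) (cube_mem h (inv_mem hx))
  have hfix : s * (x * u) * s⁻¹ * (x * u)⁻¹ = 1 := by
    refine zc_sq h hc ?_
    set c := s * (x * u) * s⁻¹ * (x * u)⁻¹
    have hcc : s * c * s⁻¹ = c := conj_zpow hs hc
    calc c * c = s * c * s⁻¹ * c := by rw [hcc]
      _ = 1 := by
        show s * (s * (x * u) * s⁻¹ * (x * u)⁻¹) * s⁻¹ * (s * (x * u) * s⁻¹ * (x * u)⁻¹) = 1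
        rw [show s * (s * (x * u) * s⁻¹ * (x * u)⁻¹) * s⁻¹ * (s * (x * u) * s⁻¹ * (x * u)⁻¹) =
          (s * s) * (x * u) * (s * s)⁻¹ * (x * u)⁻¹ by group, h2]
        group
  refine ⟨x * u, mem_cs.2 ⟨hxu, mul_inv_eq_iff_eq_mul.1 (mul_inv_eq_one.1 hfix)⟩, u⁻¹, inv_mem hu, ?_⟩
  group

omit [Finite G] in
include h hs in
theorem zpowers_le : zpowers z ≤ cs Q s ∧ zpowers z ≤ iv h s hs := by
  refine ⟨fun c hc => mem_cs.2 ⟨zpowers_le_Q h hc, comm_zpow hs hc⟩, fun c hc => ⟨zpowers_le_Q h hc, ?_⟩⟩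
  rw [conj_zpow hs hc]
  exact mul_mem hc hc

include h hs in
theorem inf_mem {x : G} (hx : x ∈ cs Q s) (hx' : x ∈ iv h s hs) : x ∈ zpowers z := by
  refine mem_of_sq h hx'.1 ?_
  have := hx'.2
  rwa [(mem_cs.1 hx).2.eq, mul_inv_cancel_right] at this

include h hs in
theorem commute {a b : G} (ha : a ∈ cs Q s) (hb : b ∈ iv h s hs) : Commute a b := by
  have hc := comm_mem h (mem_cs.1 ha).1 hb.1
  set c := a * b * a⁻¹ * b⁻¹ with hc'
  have h1 : s * a * s⁻¹ = a := by rw [(mem_cs.1 ha).2.eq, mul_inv_cancel_right]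
  obtain ⟨w, hw, e1⟩ : ∃ w ∈ zpowers z, s * b * s⁻¹ = w * b⁻¹ := ⟨_, hb.2, by group⟩
  have e : c * c = 1 := by
    have e2 : c = s * c * s⁻¹ := (conj_zpow hs hc).symm
    have e3 : s * c * s⁻¹ = a * b⁻¹ * a⁻¹ * b := by
      calc s * c * s⁻¹ = (s * a * s⁻¹) * (s * b * s⁻¹) * (s * a * s⁻¹)⁻¹ * (s * b * s⁻¹)⁻¹ := by
            rw [hc']; group
        _ = a * (w * b⁻¹) * a⁻¹ * (w * b⁻¹)⁻¹ := by rw [h1, e1]
        _ = (a * w * a⁻¹) * (a * b⁻¹ * a⁻¹ * b) * w⁻¹ := by group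
        _ = a * b⁻¹ * a⁻¹ * b := by
          rw [conj_zpow (h.le (mem_cs.1 ha).1) hw,
            (comm_zpow (h.le (mul_mem (mul_mem (mul_mem (mem_cs.1 ha).1 (inv_mem hb.1))
              (inv_mem (mem_cs.1 ha).1)) hb.1)) hw).symm.eq, mul_inv_cancel_right]
    calc c * c = c * (a * b⁻¹ * a⁻¹ * b) := by rw [← e3, ← e2]
      _ = (a * b * a⁻¹ * b⁻¹) * (b⁻¹ * (b * a * b⁻¹ * a⁻¹) * b) := by rw [hc']; group
      _ = (a * b * a⁻¹ * b⁻¹) * (b * a * b⁻¹ * a⁻¹) := by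
          rw [show b⁻¹ * (b * a * b⁻¹ * a⁻¹) * b = b⁻¹ * (b * a * b⁻¹ * a⁻¹) * b⁻¹⁻¹ by rw [inv_inv],
            conj_zpow (h.le (inv_mem hb.1)) (comm_mem h hb.1 (mem_cs.1 ha).1)]
      _ = 1 := by group
  have := zc_sq h hc e
  exact mul_inv_eq_iff_eq_mul.1 (mul_inv_eq_one.1 this)

include h hs h2 in
theorem cs_centre {a : G} (ha : a ∈ cs Q s) (hc : ∀ b ∈ cs Q s, Commute a b) : a ∈ zpowers z := by
  refine centre_mem h (mem_cs.1 ha).1 fun x hx => ?_
  obtain ⟨c, hc', b, hb, rfl⟩ := split h hs h2 hx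
  exact (hc c hc').mul_right (commute h hs ha hb)

include h hs h2 in
theorem iv_centre {a : G} (ha : a ∈ iv h s hs) (hc : ∀ b ∈ iv h s hs, Commute a b) : a ∈ zpowers z := by
  refine centre_mem h ha.1 fun x hx => ?_
  obtain ⟨c, hc', b, hb, rfl⟩ := split h hs h2 hx
  exact (commute h hs hc' ha).symm.mul_right (hc b hb)

include h hs h2 in
/-- An element of `Q` commuting with the centralised part is inverted. -/
theorem iv_of_commute {x : G} (hx : x ∈ Q) (hc : ∀ a ∈ cs Q s, Commute x a) : x ∈ iv h s hs := by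
  obtain ⟨a, ha, b, hb, rfl⟩ := split h hs h2 hx
  refine mul_mem ((zpowers_le h hs).2 (cs_centre h hs h2 ha fun a' ha' => ?_)) hb
  simpa using (hc a' ha').mul_left ((commute h hs ha' hb).symm.inv_left)

include h hs h2 in
theorem card_split : Nat.card ↥(cs Q s) * Nat.card ↥(iv h s hs) = 729 := by
  classical
  let φ : cs Q s × iv h s hs →* G := MonoidHom.noncommCoprod (cs Q s).subtype (iv h s hs).subtype
    fun a b => commute h hs a.2 b.2
  have hr : φ.range = Q := by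
    ext x
    constructor
    · rintro ⟨⟨a, b⟩, rfl⟩
      exact mul_mem (mem_cs.1 a.2).1 b.2.1
    · intro hx
      obtain ⟨a, ha, b, hb, rfl⟩ := split h hs h2 hx
      exact ⟨(⟨a, ha⟩, ⟨b, hb⟩), rfl⟩
  have hk : Nat.card φ.ker = 3 := by
    rw [← h.oz, ← Nat.card_zpowers]
    refine Nat.card_congr ⟨fun x => ⟨(x.1.1 : G), ?_⟩, fun c => ⟨(⟨c.1, (zpowers_le h hs).1 c.2⟩,
      ⟨c.1⁻¹, (zpowers_le h hs).2 (inv_mem c.2)⟩), mul_inv_cancel c.1⟩, ?_, fun c => rfl⟩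
    · have e : (x.1.1 : G) * (x.1.2 : G) = 1 := x.2
      exact inf_mem h hs x.1.1.2 (by rw [eq_inv_of_mul_eq_one_left e]; exact inv_mem x.1.2.2)
    · rintro ⟨⟨a, b⟩, hx⟩
      have e : (a : G) * (b : G) = 1 := hx
      exact Subtype.ext (Prod.ext rfl (Subtype.ext (eq_inv_of_mul_eq_one_right e).symm))
  have hq := φ.ker.card_eq_card_quotient_mul_card_subgroup
  rw [Nat.card_congr (QuotientGroup.quotientKerEquivRange φ).toEquiv, hr, hk, h.card, Nat.card_prod] at hq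
  omega

omit [Finite G] in
/-- A subgroup of order 9 has commuting elements. -/
theorem comm_nine {A : Subgroup G} (hA : Nat.card A = 9) {a b : G} (ha : a ∈ A) (hb : b ∈ A) :
    Commute a b :=
  haveI : Fact (Nat.Prime 3) := ⟨Nat.prime_three⟩
  congrArg Subtype.val ((IsPGroup.isMulCommutative_of_card_eq_prime_sq (p := 3) (G := A)
    (by rw [hA]; norm_num)).is_comm.comm ⟨a, ha⟩ ⟨b, hb⟩)

include h hs h2 in
/-- The centralised part has order 3 or 27. -/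
theorem card_cs (h1 : s ≠ 1) : (Nat.card ↥(cs Q s) = 3 ∧ Nat.card ↥(iv h s hs) = 243) ∨
    (Nat.card ↥(cs Q s) = 27 ∧ Nat.card ↥(iv h s hs) = 27) := by
  have hm := card_split h hs h2
  have hd : Nat.card ↥(cs Q s) ∣ 3 ^ 6 := Dvd.intro _ (by rw [hm]; norm_num)
  obtain ⟨k, hk, hk'⟩ := (Nat.dvd_prime_pow Nat.prime_three).1 hd
  have h3 : 3 ∣ Nat.card ↥(cs Q s) := by
    have := card_dvd_of_le (zpowers_le h hs).1
    rwa [Nat.card_zpowers, h.oz] at this
  have h3' : 3 ∣ Nat.card ↥(iv h s hs) := by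
    have := card_dvd_of_le (zpowers_le h hs).2
    rwa [Nat.card_zpowers, h.oz] at this
  have h9 : Nat.card ↥(cs Q s) ≠ 9 := fun e => by
    have hle : cs Q s ≤ zpowers z := fun a ha =>
      cs_centre h hs h2 ha fun b hb => comm_nine e ha hb
    have := Nat.le_of_dvd (by rw [Nat.card_zpowers, h.oz]; norm_num) (card_dvd_of_le hle)
    rw [Nat.card_zpowers, h.oz, e] at this
    omega
  have h9' : Nat.card ↥(iv h s hs) ≠ 9 := fun e => by
    have hle : iv h s hs ≤ zpowers z := fun a ha =>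
      iv_centre h hs h2 ha fun b hb => comm_nine e ha hb
    have := Nat.le_of_dvd (by rw [Nat.card_zpowers, h.oz]; norm_num) (card_dvd_of_le hle)
    rw [Nat.card_zpowers, h.oz, e] at this
    omega
  have h243 : Nat.card ↥(cs Q s) ≠ 243 := fun e => by
    have hQ : Q ≤ centralizer ({s} : Set G) := fun q hq => by
      have : cs Q s = Q := eq_of_le_of_card_ge inf_le_left (by rw [e, h.card]; norm_num)
      exact (this.ge hq).2
    have hsQ : s ∈ Q := h.self (mem_centralizer_iff.2 fun q hq => mem_centralizer_singleton_iff.1 (hQ hq))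
    have hs1 : s ∈ zpowers z := centre_mem h hsQ fun q hq =>
      (mem_centralizer_singleton_iff.1 (hQ hq) : q * s = s * q).symm
    exact h1 (zc_sq h hs1 h2)
  interval_cases k <;> rw [hk'] at hm h3 h9 h243 ⊢ <;> omega

include h hs h2 in
/-- What is fixed modulo the centre is centralised. -/
theorem mem_cs_of_fix {x : G} (hx : x ∈ Q) (hf : s * x * s⁻¹ * x⁻¹ ∈ zpowers z) : x ∈ cs Q s := by
  obtain ⟨a, ha, b, hb, rfl⟩ := split h hs h2 hx
  refine mul_mem ha ((zpowers_le h hs).1 (mem_of_sq h hb.1 ?_))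
  have e : s * (a * b) * s⁻¹ * (a * b)⁻¹ = a * (s * b * s⁻¹ * b⁻¹) * a⁻¹ := by
    rw [show s * (a * b) * s⁻¹ = (s * a * s⁻¹) * (s * b * s⁻¹) by group, (mem_cs.1 ha).2.eq,
      mul_inv_cancel_right]
    group
  rw [e] at hf
  have hf' : s * b * s⁻¹ * b⁻¹ ∈ zpowers z := by
    have h3 := conj_zpow (h.le (inv_mem (mem_cs.1 ha).1)) hf
    rw [show a⁻¹ * (a * (s * b * s⁻¹ * b⁻¹) * a⁻¹) * a⁻¹⁻¹ = s * b * s⁻¹ * b⁻¹ by group] at h3
    exact h3 ▸ hf
  rw [show b * b = (s * b * s⁻¹ * b⁻¹)⁻¹ * (s * b * s⁻¹ * b) * 1 by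
    rw [mul_one]; simp only [mul_inv_rev, inv_inv]; group]
  exact mul_mem (mul_mem (inv_mem hf') hb.2) (one_mem _)

end Cfsg.Agent.U62Three.A
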