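import Cfsg.Agent.U62Three.A.WideCase

/-!
# Weight-one coordinates in the wide case
-/

set_option autoImplicit false

open Subgroup

namespace Cfsg.Agent.U62Three.A.Base

universe u

variable {G : Type u} [Group G] [Finite G] {z : G} {Q : Subgroup G} (S : Base z Q) (h : Hyp z Q)

include h in
theorem φ_nsmul (m : ℕ) (w : Crd.V) : S.φ (m • w) = S.φ w ^ m := by
  induction m with
  | zero => rw [zero_smul, S.φ_zero, pow_zero]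
  | succ m ih => rw [succ_nsmul, S.φ_add h, ih, pow_succ]

theorem fix_of_neg : ∀ v : Crd.V, v + v = 0 → v = 0 := by decide +kernel

variable {x : G} (hx : x ∈ S.CJ) (hx0 : S.B.cl 0 x = 2) (hx1 : S.B.cl 1 x = 0)

include h hx hx0 hx1 in
theorem exists_pow {g : G} (hg : g ∈ S.CJ) : ∃ (n : ZMod 3) (v : Crd.V), g = x ^ n.val * S.φ v := by
  obtain ⟨hgH, -, -⟩ := S.CJ_info h hg
  obtain ⟨hxH, -, -⟩ := S.CJ_info h hx
  set n := -(S.B.cl 0 g - S.B.cl 1 g)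
  have hgi : (x ^ n.val)⁻¹ * g ∈ S.CJ := mul_mem (inv_mem (pow_mem hx _)) hg
  obtain ⟨v, hv⟩ := (S.mem_Jg h).1 (S.CJ_eq h hgi (by
    simp only [S.B.cl_mul h (inv_mem (pow_mem hxH _)) hgH, S.B.cl_inv h (pow_mem hxH _), S.B.cl_pow h hxH, hx0, hx1]
    show -((n.val) • (2 : ZMod 3)) + S.B.cl 0 g = -(n.val • (0 : ZMod 3)) + S.B.cl 1 g
    simp only [n]
    generalize S.B.cl 0 g = a
    generalize S.B.cl 1 g = b
    revert a b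
    decide +kernel))
  exact ⟨n, v, by rw [hv, mul_inv_cancel_left]⟩

include h hx hx0 hx1 in
theorem CJ_abelian {a b : G} (ha : a ∈ S.CJ) (hb : b ∈ S.CJ) : Commute a b := by
  obtain ⟨n, v, rfl⟩ := S.exists_pow h hx hx0 hx1 ha
  obtain ⟨m, w, rfl⟩ := S.exists_pow h hx hx0 hx1 hb
  have h1 : ∀ k u, Commute (x ^ k) (S.φ u) := fun k u => S.CJ_comm h (pow_mem hx k) u
  refine Commute.mul_left ?_ ?_
  · exact ((Commute.refl x).pow_pow _ _).mul_right (h1 _ _)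
  · exact (h1 _ _).symm.mul_right (S.CJ_comm h (S.Jg_le_CJ h ((S.mem_Jg h).2 ⟨v, rfl⟩)) w)

include h in
theorem norm_CJ {n : G} (hn : n ∈ normalizer (S.Jg : Set G)) {a : G} (ha : a ∈ S.CJ) : n * a * n⁻¹ ∈ S.CJ :=
  mem_centralizer_iff.2 fun w hw => by
    have h1 := mem_centralizer_iff.1 ha (n⁻¹ * w * n) (by
      have := (mem_normalizer_iff.1 (inv_mem hn) w).1 hw
      rwa [inv_inv] at this)
    calc w * (n * a * n⁻¹) = n * ((n⁻¹ * w * n) * a) * n⁻¹ := by group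
      _ = n * (a * (n⁻¹ * w * n)) * n⁻¹ := by rw [h1]
      _ = _ := by group

include h hx hx0 hx1 in
theorem x_shift {n : G} {L : Crd.V → Crd.V} (hn : S.Acts n L) (hnH : n ∈ S.B.Hs) :
    ∃ u, n * x * n⁻¹ = x * S.φ u := by
  obtain ⟨hxH, -, -⟩ := S.CJ_info h hx
  have hc : n * x * n⁻¹ ∈ S.CJ := S.norm_CJ h (hn.norm S h) hx
  obtain ⟨v, hv⟩ := (S.mem_Jg h).1 (S.CJ_eq h (mul_mem (inv_mem hx) hc) (by
    have e : ∀ i, S.B.cl i (x⁻¹ * (n * x * n⁻¹)) = 0 := fun i => by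
      rw [S.B.cl_mul h (inv_mem hxH) (mul_mem (mul_mem hnH hxH) (inv_mem hnH)),
        S.B.cl_mul h (mul_mem hnH hxH) (inv_mem hnH), S.B.cl_mul h hnH hxH, S.B.cl_inv h hxH, S.B.cl_inv h hnH]
      ring
    rw [e, e]))
  exact ⟨v, by rw [hv, mul_inv_cancel_left]⟩

include h hx hx0 hx1 in
theorem x_ne {v : Crd.V} (e : x = S.φ v) : False := by
  have hJ : x ∈ S.Jg := (S.mem_Jg h).2 ⟨v, e.symm⟩
  have hxQ : ∀ (i : Fin 2), S.B.cl i x = v.1.2 := fun i => by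
    have hyH := S.B.Pt_Hs h S.hy
    have hm : ∀ l : Fin 2, zp (S.d l) 0 ∈ Q := fun l => pow_mem (S.d_Q l) _
    have hq : zp (S.d 0) v.2.1 * zp (S.d 1) v.2.2 ∈ Q := mul_mem (pow_mem (S.d_Q 0) _) (pow_mem (S.d_Q 1) _)
    have hzQ : zp z v.1.1 ∈ Q := zpowers_le_Q h (zp_mem _)
    have hyp' : zp S.y v.1.2 ∈ S.B.Hs := pow_mem hyH _
    rw [e, φ, S.B.cl_mul h (mul_mem (S.B.Q_le_Hs h hzQ) hyp') (S.B.Q_le_Hs h hq),
      S.B.cl_mul h (S.B.Q_le_Hs h hzQ) hyp', S.B.cl_Q h hq, S.B.cl_Q h hzQ, zp, S.B.cl_pow h hyH,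
      S.cl_eq h, nsmul_one, ZMod.natCast_zmod_val, zero_add, add_zero]
  have := (hxQ 0).trans (hxQ 1).symm
  rw [hx0, hx1] at this
  exact absurd this (by decide)

include h hx hx0 hx1 in
theorem exists_fixed_x : ∃ x' n, x' ∈ S.CJ ∧ S.B.cl 0 x' = 2 ∧ S.B.cl 1 x' = 0 ∧ S.Acts n Crd.Ln ∧
    Commute (S.B.t 0) x' ∧ Commute (S.B.t 1) x' ∧ Commute (S.ax 1).q x' ∧ Commute n x' ∧
    (S.ax 0).q * x' * (S.ax 0).q⁻¹ = x' * S.φ (Crd.E 0 - Crd.E 2) ∧ x' ^ 3 = 1 := by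
  obtain ⟨hxH, -, -⟩ := S.CJ_info h hx
  have ht : ∀ i, S.B.t i ∈ S.B.Hs := fun i => S.B.P_le_Hs h (S.B.t_P i)
  have hq : ∀ i, (S.ax i).q ∈ S.B.Hs := fun i => S.B.Q_le_Hs h (S.B.toTwo.Qi_le i (S.ax i).q_mem)
  have hinv : ∀ (g : G) (L : Crd.V → Crd.V), S.Acts g L → g * g = 1 → ∀ u, g * x * g⁻¹ = x * S.φ u →
      S.φ (L u + u) = 1 := fun g L hL h2 u e => by
    have h1 : g * (g * x * g⁻¹) * g⁻¹ = x := by
      rw [show g * (g * x * g⁻¹) * g⁻¹ = (g * g) * x * (g * g)⁻¹ by group, h2]; simp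
    rw [e, show g * (x * S.φ u) * g⁻¹ = (g * x * g⁻¹) * (g * S.φ u * g⁻¹) by group, e, hL, mul_assoc,
      ← S.φ_add h, add_comm] at h1
    exact mul_eq_left.1 h1
  have shift : ∀ (g : G) (L : Crd.V → Crd.V) (u v : Crd.V), S.Acts g L → ∀ {w : G}, g * w * g⁻¹ = w * S.φ u →
      g * (w * S.φ v) * g⁻¹ = (w * S.φ v) * S.φ (u + L v - v) := fun g L u v hL w e => by
    rw [show g * (w * S.φ v) * g⁻¹ = (g * w * g⁻¹) * (g * S.φ v * g⁻¹) by group, e, hL, mul_assoc, mul_assoc,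
      ← S.φ_add h, ← S.φ_add h]
    congr 2; abel
  have hcl : ∀ (u : Crd.V) (i : Fin 2), u.1.2 = 0 → S.B.cl i (x * S.φ u) = S.B.cl i x := fun u i hu => by
    rw [S.B.cl_mul h hxH (S.B.Q_le_Hs h ((S.φ_Q h).2 hu)), S.B.cl_Q h ((S.φ_Q h).2 hu), add_zero]
  -- fix the first involution
  obtain ⟨hT0, hT1⟩ := S.t_acts h
  obtain ⟨u0, e0⟩ := S.x_shift h hx hx0 hx1 hT0 (ht 0)
  have hu0 : Crd.Lt0 u0 + u0 = 0 := S.φ_inj h (by rw [hinv _ _ hT0 (S.B.t_sq 0) u0 e0, S.φ_zero])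
  have hu0y : (-u0).1.2 = 0 := by revert hu0; generalize u0 = v; revert v; decide +kernel
  set x₁ := x * S.φ (-u0)
  have hx₁ : x₁ ∈ S.CJ := mul_mem hx (S.Jg_le_CJ h ((S.mem_Jg h).2 ⟨_, rfl⟩))
  have f0 : S.B.t 0 * x₁ * (S.B.t 0)⁻¹ = x₁ := by
    rw [shift _ _ u0 (-u0) hT0 e0, show u0 + Crd.Lt0 (-u0) - -u0 = 0 by
      rw [sub_neg_eq_add, add_comm u0, Crd.t0_split u0 hu0, neg_add_cancel], S.φ_zero, mul_one]
  have a10 : S.B.cl 0 x₁ = 2 := by rw [hcl _ _ hu0y, hx0]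
  have a11 : S.B.cl 1 x₁ = 0 := by rw [hcl _ _ hu0y, hx1]
  -- fix the second involution
  obtain ⟨u1, e1⟩ := S.x_shift h hx₁ a10 a11 hT1 (ht 1)
  have hu1 : Crd.Lt1 u1 + u1 = 0 := by
    refine S.φ_inj h ?_
    have h1 : S.B.t 1 * (S.B.t 1 * x₁ * (S.B.t 1)⁻¹) * (S.B.t 1)⁻¹ = x₁ := by
      rw [show S.B.t 1 * (S.B.t 1 * x₁ * (S.B.t 1)⁻¹) * (S.B.t 1)⁻¹ =
        (S.B.t 1 * S.B.t 1) * x₁ * (S.B.t 1 * S.B.t 1)⁻¹ by group, S.B.t_sq]; simp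
    rw [e1, show S.B.t 1 * (x₁ * S.φ u1) * (S.B.t 1)⁻¹ = (S.B.t 1 * x₁ * (S.B.t 1)⁻¹) *
      (S.B.t 1 * S.φ u1 * (S.B.t 1)⁻¹) by group, e1, hT1, mul_assoc, ← S.φ_add h, add_comm] at h1
    rw [mul_eq_left.1 h1, S.φ_zero]
  have h01 : Commute (S.B.t 0) (S.B.t 1) := S.B.t_cen 1 _ (S.B.t_P 0)
  have hu1t : Crd.Lt0 u1 = u1 := by
    refine S.φ_inj h ?_
    rw [← hT0]
    have h1 : Commute (S.B.t 0) (x₁ * S.φ u1) := by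
      rw [← e1]
      exact (h01.mul_right (mul_inv_eq_iff_eq_mul.1 f0)).mul_right h01.inv_right
    have h2 := (Commute.inv_right (mul_inv_eq_iff_eq_mul.1 f0 : Commute (S.B.t 0) x₁)).mul_right h1
    rw [inv_mul_cancel_left] at h2
    rw [h2.eq, mul_inv_cancel_right]
  have hu1y : (-u1).1.2 = 0 := by revert hu1; generalize u1 = v; revert v; decide +kernel
  set x₂ := x₁ * S.φ (-u1)
  have hx₂ : x₂ ∈ S.CJ := mul_mem hx₁ (S.Jg_le_CJ h ((S.mem_Jg h).2 ⟨_, rfl⟩))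
  have g0 : S.B.t 0 * x₂ * (S.B.t 0)⁻¹ = x₂ := by
    rw [shift _ _ 0 (-u1) hT0 (by rw [f0, S.φ_zero, mul_one]), Crd.Lt0_neg u1 hu1t, zero_add, sub_self, S.φ_zero,
      mul_one]
  have g1 : S.B.t 1 * x₂ * (S.B.t 1)⁻¹ = x₂ := by
    rw [shift _ _ u1 (-u1) hT1 e1, show u1 + Crd.Lt1 (-u1) - -u1 = 0 by
      rw [sub_neg_eq_add, add_comm u1, Crd.t1_split u1 hu1, neg_add_cancel], S.φ_zero, mul_one]
  have hyH := S.B.Pt_Hs h S.hy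
  have hclx : ∀ i, S.B.cl i x₂ = S.B.cl i x := fun i => by
    have h1 : S.φ (-u1) ∈ Q := (S.φ_Q h).2 hu1y
    rw [S.B.cl_mul h (S.CJ_info h hx₁).1 (S.B.Q_le_Hs h h1), S.B.cl_Q h h1, add_zero, hcl _ _ hu0y]
  have a20 : S.B.cl 0 x₂ = 2 := by rw [hclx, hx0]
  have a21 : S.B.cl 1 x₂ = 0 := by rw [hclx, hx1]
  obtain ⟨hx₂H, hx₂3, -⟩ := S.CJ_info h hx₂
  -- the two translations
  have hQ : ∀ i, (S.ax i).q ∈ Q := fun i => S.B.toTwo.Qi_le i (S.ax i).q_mem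
  have hzφ : ∀ {v : Crd.V}, S.φ v ∈ zpowers z → v = ((v.1.1, 0), (0, 0)) := fun {v} hv => by
    have e : S.φ v = S.φ ((lg z (S.φ v), 0), (0, 0)) := by simp only [φ, zp_zero, mul_one]; exact (zp_lg h hv).symm
    have := S.φ_inj h e
    obtain ⟨⟨a, b⟩, c, d⟩ := v
    simp only [Prod.mk.injEq] at this
    obtain ⟨⟨-, rfl⟩, rfl, rfl⟩ := this
    rfl
  have hxm : S.B.mat 1 x₂ = M2.one :=
    M2.cls_zero _ (S.B.mat_det h hx₂H 1) (S.B.mat_cube h hx₂H hx₂3 1) a21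
  have hxm0 : S.B.mat 0 x₂ = S.B.mat 0 S.y⁻¹ := by
    have hdfix : ∀ {g : G}, g ∈ S.B.Hs → Commute g (S.d 0) →
        M2.app (S.B.mat 0 g) (S.B.vec 0 (S.d 0)) = S.B.vec 0 (S.d 0) := fun {g} hg hgd => by
      rw [← S.B.vec_conj h hg 0 (S.d_Q 0), hgd.eq, mul_inv_cancel_right]
    exact M2.unique_fix _ _ (S.B.mat_det h hx₂H 0) (S.B.mat_cube h hx₂H hx₂3 0)
      (S.B.mat_det h (inv_mem hyH) 0)
      (S.B.mat_cube h (inv_mem hyH) (by rw [inv_pow, S.hy.cube h, inv_one]; exact one_mem _) 0)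
      (a20.trans (by show (2 : ZMod 3) = S.B.cl 0 S.y⁻¹; rw [S.B.cl_inv h hyH, S.cl_eq h]; rfl))
      (S.B.vec 0 (S.d 0)) (S.vec_d h 0)
      (hdfix hx₂H (by have := S.CJ_comm h hx₂ ((0, 0), (1, 0)); rwa [S.φ_d0] at this))
      (hdfix (inv_mem hyH) (S.d_comm_y 0).inv_left)
  have hcomm : ∀ i, x₂⁻¹ * ((S.ax i).q * x₂ * (S.ax i).q⁻¹) ∈ Q := fun i => by
    rw [show x₂⁻¹ * ((S.ax i).q * x₂ * (S.ax i).q⁻¹) = (x₂⁻¹ * (S.ax i).q * x₂⁻¹⁻¹) * (S.ax i).q⁻¹ by group]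
    exact mul_mem (conj_mem h (S.B.Hs_le (inv_mem hx₂H)) (hQ i)) (inv_mem (hQ i))
  have hmi : ∀ i, M2.mul (S.B.mat i x₂⁻¹) (S.B.mat i x₂) = M2.one := fun i => by
    rw [← S.B.mat_mul h (inv_mem hx₂H) hx₂H, inv_mul_cancel, S.B.mat_one h]
  obtain ⟨hA0, hA1⟩ := S.q_acts h
  obtain ⟨w1, k1⟩ := S.x_shift h hx₂ a20 a21 hA1 (hq 1)
  have hw1 : w1 = 0 := by
    have hin : S.φ w1 ∈ zpowers z := by
      rw [show S.φ w1 = x₂⁻¹ * (x₂ * S.φ w1) by group, ← k1]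
      refine S.B.vec_ker h (hcomm 1) fun k => ?_
      rw [show x₂⁻¹ * ((S.ax 1).q * x₂ * (S.ax 1).q⁻¹) = (x₂⁻¹ * (S.ax 1).q * x₂⁻¹⁻¹) * (S.ax 1).q⁻¹ by group,
        S.B.vec_mul h k (conj_mem h (S.B.Hs_le (inv_mem hx₂H)) (hQ 1)) (inv_mem (hQ 1)),
        S.B.vec_conj h (inv_mem hx₂H) k (hQ 1), S.B.vec_inv h k (hQ 1)]
      rcases Bas.fin_cases_two k with rfl | rfl
      · rw [S.B.vec_other h (by decide : (0 : Fin 2) ≠ 1) (S.ax 1).q_mem]; simp [M2.app]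
      · have e := hmi 1
        rw [hxm] at e
        have e' : S.B.mat 1 x₂⁻¹ = M2.one := by simpa [M2.mul, M2.app, M2.one] using e
        rw [e', M2.app_one, add_neg_cancel]
    refine Crd.q1_zero' w1 (hzφ hin) ?_
    -- inverted by the involution
    have hc : S.B.t 1 * (S.ax 1).q * (S.B.t 1)⁻¹ * (S.ax 1).q ∈ zpowers z := S.B.t_inv h (S.ax 1).q_mem
    set c := S.B.t 1 * (S.ax 1).q * (S.B.t 1)⁻¹ * (S.ax 1).q with hc'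
    have h2 : S.B.t 1 * ((S.ax 1).q * x₂ * (S.ax 1).q⁻¹) * (S.B.t 1)⁻¹ = (S.ax 1).q⁻¹ * x₂ * (S.ax 1).q := by
      rw [show S.B.t 1 * ((S.ax 1).q * x₂ * (S.ax 1).q⁻¹) * (S.B.t 1)⁻¹ = (S.B.t 1 * (S.ax 1).q * (S.B.t 1)⁻¹) *
        (S.B.t 1 * x₂ * (S.B.t 1)⁻¹) * (S.B.t 1 * (S.ax 1).q * (S.B.t 1)⁻¹)⁻¹ by group, g1,
        show S.B.t 1 * (S.ax 1).q * (S.B.t 1)⁻¹ = c * (S.ax 1).q⁻¹ by rw [hc']; group,
        show c * (S.ax 1).q⁻¹ * x₂ * (c * (S.ax 1).q⁻¹)⁻¹ = c * ((S.ax 1).q⁻¹ * x₂ * (S.ax 1).q) * c⁻¹ by group,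
        ((comm_zpow (mul_mem (mul_mem (inv_mem (h.le (hQ 1))) (S.B.Hs_le hx₂H)) (h.le (hQ 1))) hc).symm).eq,
        mul_inv_cancel_right]
    rw [k1, show S.B.t 1 * (x₂ * S.φ w1) * (S.B.t 1)⁻¹ = (S.B.t 1 * x₂ * (S.B.t 1)⁻¹) *
      (S.B.t 1 * S.φ w1 * (S.B.t 1)⁻¹) by group, g1, hT1] at h2
    have h3 : x₂ = (S.ax 1).q * (x₂ * S.φ (Crd.Lt1 w1)) * (S.ax 1).q⁻¹ := by rw [h2]; group
    rw [shift _ _ w1 (Crd.Lt1 w1) hA1 k1, mul_assoc, ← S.φ_add h, eq_comm, mul_eq_left, ← φ_zero S] at h3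
    have := S.φ_inj h h3
    rw [← this]; abel
  obtain ⟨w0, k0⟩ := S.x_shift h hx₂ a20 a21 hA0 (hq 0)
  have hw0 : w0 = Crd.E 0 - Crd.E 2 := by
    have hwQ : S.φ w0 ∈ Q := by
      rw [show S.φ w0 = x₂⁻¹ * (x₂ * S.φ w0) by group, ← k0]; exact hcomm 0
    have hin : S.φ (w0 + ((0, 0), (1, 0))) ∈ zpowers z := by
      rw [S.φ_add h, S.φ_d0]
      refine S.B.vec_ker h (mul_mem hwQ (S.d_Q 0)) fun k => ?_
      rw [S.B.vec_mul h k hwQ (S.d_Q 0)]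
      have e : S.φ w0 = (x₂⁻¹ * (S.ax 0).q * x₂⁻¹⁻¹) * (S.ax 0).q⁻¹ := by
        rw [show S.φ w0 = x₂⁻¹ * (x₂ * S.φ w0) by group, ← k0]; group
      rw [e, S.B.vec_mul h k (conj_mem h (S.B.Hs_le (inv_mem hx₂H)) (hQ 0)) (inv_mem (hQ 0)),
        S.B.vec_conj h (inv_mem hx₂H) k (hQ 0), S.B.vec_inv h k (hQ 0)]
      rcases Bas.fin_cases_two k with rfl | rfl
      · have e' : S.B.mat 0 x₂⁻¹ = S.B.mat 0 S.y := by
          have h2 : S.B.mat 0 (x₂ * S.y) = M2.one := by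
            rw [S.B.mat_mul h hx₂H hyH, hxm0, ← S.B.mat_mul h (inv_mem hyH) hyH, inv_mul_cancel, S.B.mat_one h]
          have h3 := S.B.mat_mul h (inv_mem hx₂H) (mul_mem hx₂H hyH) 0
          rw [inv_mul_cancel_left, h2] at h3
          rw [h3]
          simp [M2.mul, M2.app, M2.one]
        have hv : S.B.vec 0 (S.d 0) = S.B.vec 0 (S.ax 0).q - M2.app (S.B.mat 0 S.y) (S.B.vec 0 (S.ax 0).q) := by
          rw [← S.B.vec_disp h S.hy (hQ 0), (S.ax 0).disp, mul_inv_cancel_right,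
            S.B.vec_mul h 0 (S.B.toTwo.Qi_le 0 (S.ax 0).d_mem) (zpowers_le_Q h (zp_mem _)), S.B.vec_zpowers h 0 (zp_mem _), add_zero]
          rfl
        rw [e', hv]; abel
      · rw [S.B.vec_other h (by decide : (1 : Fin 2) ≠ 0) (S.ax 0).q_mem,
          S.B.vec_other h (by decide : (1 : Fin 2) ≠ 0) (x := S.d 0) (S.ax 0).d_mem]
        simp [M2.app]
    have hform : ∀ v : Crd.V, v + ((0, 0), (1, 0)) = (((v + ((0, 0), (1, 0))).1.1, 0), (0, 0)) →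
        v = ((v.1.1, 0), (2, 0)) := by decide +kernel
    refine Crd.q0_value w0 (hform w0 (hzφ hin)) ?_
    have hc : S.B.t 0 * (S.ax 0).q * (S.B.t 0)⁻¹ * (S.ax 0).q ∈ zpowers z := S.B.t_inv h (S.ax 0).q_mem
    set c := S.B.t 0 * (S.ax 0).q * (S.B.t 0)⁻¹ * (S.ax 0).q with hc'
    have h2 : S.B.t 0 * ((S.ax 0).q * x₂ * (S.ax 0).q⁻¹) * (S.B.t 0)⁻¹ = (S.ax 0).q⁻¹ * x₂ * (S.ax 0).q := by
      rw [show S.B.t 0 * ((S.ax 0).q * x₂ * (S.ax 0).q⁻¹) * (S.B.t 0)⁻¹ = (S.B.t 0 * (S.ax 0).q * (S.B.t 0)⁻¹) *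
        (S.B.t 0 * x₂ * (S.B.t 0)⁻¹) * (S.B.t 0 * (S.ax 0).q * (S.B.t 0)⁻¹)⁻¹ by group, g0,
        show S.B.t 0 * (S.ax 0).q * (S.B.t 0)⁻¹ = c * (S.ax 0).q⁻¹ by rw [hc']; group,
        show c * (S.ax 0).q⁻¹ * x₂ * (c * (S.ax 0).q⁻¹)⁻¹ = c * ((S.ax 0).q⁻¹ * x₂ * (S.ax 0).q) * c⁻¹ by group,
        ((comm_zpow (mul_mem (mul_mem (inv_mem (h.le (hQ 0))) (S.B.Hs_le hx₂H)) (h.le (hQ 0))) hc).symm).eq,
        mul_inv_cancel_right]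
    rw [k0, show S.B.t 0 * (x₂ * S.φ w0) * (S.B.t 0)⁻¹ = (S.B.t 0 * x₂ * (S.B.t 0)⁻¹) *
      (S.B.t 0 * S.φ w0 * (S.B.t 0)⁻¹) by group, g0, hT0] at h2
    have h3 : x₂ = (S.ax 0).q * (x₂ * S.φ (Crd.Lt0 w0)) * (S.ax 0).q⁻¹ := by rw [h2]; group
    rw [shift _ _ w0 (Crd.Lt0 w0) hA0 k0, mul_assoc, ← S.φ_add h, eq_comm, mul_eq_left, ← φ_zero S] at h3
    have := S.φ_inj h h3
    rw [← this]; abel
  rw [hw1, S.φ_zero, mul_one] at k1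
  rw [hw0] at k0
  -- the translation seen from the point
  obtain ⟨n, hn, hN⟩ := S.n_acts h
  obtain ⟨By⟩ := exists_bas S.hyy
  have hn3 : n * n * n = 1 := by
    have := By.cube S.hyy hn
    rwa [pow_succ, pow_two] at this
  obtain ⟨m, u, e⟩ := S.exists_pow h hx₂ a20 a21 (S.norm_CJ h (hN.norm S h) hx₂)
  have hnx : m = 1 := by
    have hm : ∀ r : ZMod 3, r = 0 ∨ r = 1 ∨ r = 2 := by decide
    rcases hm m with rfl | rfl | rfl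
    · exfalso
      rw [ZMod.val_zero, pow_zero, one_mul] at e
      obtain ⟨v, hv⟩ := (S.mem_Jg h).1 ((mem_normalizer_iff.1 (inv_mem (hN.norm S h)) _).1
        ((S.mem_Jg h).2 ⟨u, rfl⟩))
      refine S.x_ne h hx₂ a20 a21 (v := v) ?_
      rw [hv, ← e]; group
    · rfl
    · exfalso
      change n * x₂ * n⁻¹ = x₂ ^ 2 * S.φ u at e
      -- modulo the frame the translation would invert
      have hN2 : ∀ v, n * S.φ v * n⁻¹ = S.φ (Crd.Ln v) := hN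
      obtain ⟨v3, hv3⟩ := (S.mem_Jg h).1 (S.CJ_info h hx₂).2.2
      have step : ∀ k : ℕ, ∀ v, n * (x₂ ^ k * S.φ v) * n⁻¹ = x₂ ^ (2 * k) * S.φ (k • u + Crd.Ln v) := by
        intro k v
        rw [show n * (x₂ ^ k * S.φ v) * n⁻¹ = (n * x₂ ^ k * n⁻¹) * (n * S.φ v * n⁻¹) by group, hN2,
          ← conj_pow, e, (S.CJ_comm h (pow_mem hx₂ 2) u).mul_pow, ← pow_mul, ← S.φ_nsmul h, mul_assoc,
          ← S.φ_add h]
      have h3 : n * (n * (n * x₂ * n⁻¹) * n⁻¹) * n⁻¹ = x₂ := by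
        rw [show n * (n * (n * x₂ * n⁻¹) * n⁻¹) * n⁻¹ = (n * n * n) * x₂ * (n * n * n)⁻¹ by group, hn3]
        simp
      rw [e, step, step, show x₂ ^ (2 * (2 * 2)) = x₂ * (x₂ * (x₂ ^ 3) ^ 2) by
        rw [← pow_mul]; simp [pow_succ, mul_assoc], ← hv3, ← S.φ_nsmul h, mul_assoc x₂ (x₂ * _),
        mul_assoc x₂ (S.φ _), ← S.φ_add h, mul_eq_left] at h3
      rw [mul_eq_one_iff_eq_inv, ← S.φ_neg h] at h3
      exact S.x_ne h hx₂ a20 a21 h3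
  rw [hnx, ZMod.val_one, pow_one] at e
  have hfix_t : ∀ (i : Fin 2) (L : Crd.V → Crd.V), S.Acts (S.B.t i) L →
      S.B.t i * x₂ * (S.B.t i)⁻¹ = x₂ → ∀ u, S.B.t i * (x₂ * S.φ u) * (S.B.t i)⁻¹ = x₂ * S.φ (L u) :=
    fun i L hL hfix u => by
      rw [show S.B.t i * (x₂ * S.φ u) * (S.B.t i)⁻¹ = (S.B.t i * x₂ * (S.B.t i)⁻¹) *
        (S.B.t i * S.φ u * (S.B.t i)⁻¹) by group, hfix, hL]
  have hA : ∀ (a : G), (∀ v, a * S.φ v * a⁻¹ = S.φ v) → a * x₂ * a⁻¹ = x₂ := fun a ha => by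
    have : a ∈ S.CJ := mem_centralizer_iff.2 fun w hw => by
      obtain ⟨v, rfl⟩ := (S.mem_Jg h).1 hw
      exact (mul_inv_eq_iff_eq_mul.1 (ha v)).symm
    rw [(S.CJ_abelian h hx hx0 hx1 this hx₂).eq, mul_inv_cancel_right]
  have hu_t1 : Crd.Lt1 u = u := by
    refine S.φ_inj h (mul_left_cancel (a := x₂) ?_)
    rw [← hfix_t 1 _ hT1 g1 u, ← e]
    have h2 := hA (n⁻¹ * (S.B.t 1 * n * S.B.t 1)) fun v => by
      rw [show n⁻¹ * (S.B.t 1 * n * S.B.t 1) * S.φ v * (n⁻¹ * (S.B.t 1 * n * S.B.t 1))⁻¹ =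
        n⁻¹ * (S.B.t 1 * (n * (S.B.t 1 * S.φ v * (S.B.t 1)⁻¹) * n⁻¹) * (S.B.t 1)⁻¹) * n by group,
        hT1, hN, hT1, Crd.rel_t1, ← hN]
      group
    have hx' : (S.B.t 1) * x₂ = x₂ * S.B.t 1 := mul_inv_eq_iff_eq_mul.1 g1
    rw [show S.B.t 1 * (n * x₂ * n⁻¹) * (S.B.t 1)⁻¹ =
      n * ((n⁻¹ * (S.B.t 1 * n * S.B.t 1)) * ((S.B.t 1)⁻¹ * x₂ * S.B.t 1) *
        (n⁻¹ * (S.B.t 1 * n * S.B.t 1))⁻¹) * n⁻¹ by group,
      show (S.B.t 1)⁻¹ * x₂ * S.B.t 1 = x₂ by rw [mul_assoc, ← hx', inv_mul_cancel_left], h2]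
  have hu_t0 : u + Crd.Ln (Crd.Lt0 u) = 0 := by
    refine S.φ_inj h (mul_left_cancel (a := x₂) ?_)
    rw [S.φ_zero, mul_one, S.φ_add h, ← mul_assoc, ← e, ← hN,
      show n * x₂ * n⁻¹ * (n * S.φ (Crd.Lt0 u) * n⁻¹) = n * (x₂ * S.φ (Crd.Lt0 u)) * n⁻¹ by group,
      ← hfix_t 0 _ hT0 g0 u, ← e]
    have h2 := hA (n * S.B.t 0 * n * S.B.t 0) fun v => by
      rw [show n * S.B.t 0 * n * S.B.t 0 * S.φ v * (n * S.B.t 0 * n * S.B.t 0)⁻¹ =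
        n * (S.B.t 0 * (n * (S.B.t 0 * S.φ v * (S.B.t 0)⁻¹) * n⁻¹) * (S.B.t 0)⁻¹) * n⁻¹ by group,
        hT0, hN, hT0, hN]
      exact congrArg S.φ (Crd.rel_t0' v)
    have hx' : (S.B.t 0) * x₂ = x₂ * S.B.t 0 := mul_inv_eq_iff_eq_mul.1 g0
    rw [show n * (S.B.t 0 * (n * x₂ * n⁻¹) * (S.B.t 0)⁻¹) * n⁻¹ =
      (n * S.B.t 0 * n * S.B.t 0) * ((S.B.t 0)⁻¹ * x₂ * S.B.t 0) * (n * S.B.t 0 * n * S.B.t 0)⁻¹ by group,
      show (S.B.t 0)⁻¹ * x₂ * S.B.t 0 = x₂ by rw [mul_assoc, ← hx', inv_mul_cancel_left], h2]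
  have hu3 : u + Crd.Ln u + Crd.Ln (Crd.Ln u) = 0 := by
    refine S.φ_inj h (mul_left_cancel (a := x₂) ?_)
    rw [S.φ_zero, mul_one, S.φ_add h, S.φ_add h, ← mul_assoc, ← mul_assoc, ← e, ← hN, ← hN, ← hN]
    calc n * x₂ * n⁻¹ * (n * S.φ u * n⁻¹) * (n * (n * S.φ u * n⁻¹) * n⁻¹)
        = n * (x₂ * S.φ u * (n * S.φ u * n⁻¹)) * n⁻¹ := by group
      _ = n * ((n * x₂ * n⁻¹) * (n * S.φ u * n⁻¹)) * n⁻¹ := by rw [e]
      _ = n * (n * (x₂ * S.φ u) * n⁻¹) * n⁻¹ := by group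
      _ = n * (n * (n * x₂ * n⁻¹) * n⁻¹) * n⁻¹ := by rw [e]
      _ = (n * n * n) * x₂ * (n * n * n)⁻¹ := by group
      _ = x₂ := by rw [hn3]; simp
  obtain ⟨k, hk⟩ := Crd.n_split u hu3 hu_t1 hu_t0
  obtain ⟨z0, z1, z2, z3⟩ := Crd.z_fixed k
  set v : Crd.V := ((k, 0), (0, 0)) with hv
  set x₃ := x₂ * S.φ v
  have hx₃ : x₃ ∈ S.CJ := mul_mem hx₂ (S.Jg_le_CJ h ((S.mem_Jg h).2 ⟨_, rfl⟩))
  have hvQ : S.φ v ∈ Q := (S.φ_Q h).2 rfl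
  have hfix : ∀ (g : G) (L : Crd.V → Crd.V), S.Acts g L → g * x₂ * g⁻¹ = x₂ → L v = v → Commute g x₃ :=
    fun g L hL h1 h2 => mul_inv_eq_iff_eq_mul.1 (by
      show g * (x₂ * S.φ v) * g⁻¹ = x₂ * S.φ v
      rw [show g * (x₂ * S.φ v) * g⁻¹ = (g * x₂ * g⁻¹) * (g * S.φ v * g⁻¹) by group, h1, hL, h2])
  have k0' : (S.ax 0).q * x₃ * (S.ax 0).q⁻¹ = x₃ * S.φ (Crd.E 0 - Crd.E 2) := by
    rw [shift _ _ _ v hA0 k0, z2, add_sub_cancel_right]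
  have hn' : Commute n x₃ := mul_inv_eq_iff_eq_mul.1 (by
    show n * (x₂ * S.φ v) * n⁻¹ = x₂ * S.φ v
    rw [shift _ _ u v hN e, hk, sub_self, S.φ_zero, mul_one])
  have hc3 : ∀ i, S.B.cl i x₃ = S.B.cl i x₂ := fun i => by
    rw [S.B.cl_mul h hx₂H (S.B.Q_le_Hs h hvQ), S.B.cl_Q h hvQ, add_zero]
  refine ⟨x₃, n, hx₃, by rw [hc3, a20], by rw [hc3, a21], hN, hfix _ _ hT0 g0 z0, hfix _ _ hT1 g1 z1,
    hfix _ _ hA1 k1 z3, hn', k0', ?_⟩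
  obtain ⟨c, hc⟩ := (S.mem_Jg h).1 (S.CJ_info h hx₃).2.2
  have hL : ∀ (g : G) (L : Crd.V → Crd.V), S.Acts g L → Commute g x₃ → L c = c := fun g L hL hg =>
    S.φ_inj h (by rw [← hL, hc, (hg.pow_right 3).eq, mul_inv_cancel_right])
  have hq0 : Crd.Lq0 c = c := S.φ_inj h (by
    rw [← hA0, hc, ← conj_pow, k0', (S.CJ_comm h hx₃ _).mul_pow, ← S.φ_nsmul h,
      show 3 • (Crd.E 0 - Crd.E 2) = 0 by decide +kernel, S.φ_zero, mul_one])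
  rw [← hc, Crd.no_line c (hL _ _ hT0 (hfix _ _ hT0 g0 z0)) (hL _ _ hT1 (hfix _ _ hT1 g1 z1)) hq0
    (hL _ _ hA1 (hfix _ _ hA1 k1 z3)) (hL _ _ hN hn'), S.φ_zero]

end Cfsg.Agent.U62Three.A.Base
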