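import Cfsg.Agent.U62Three.A.Local
import Cfsg.Agent.U62Three.A.CoordsWide
import Mathlib.GroupTheory.Sylow

/-!
# The centraliser of the frame when the Sylow order is at least `3⁷`
-/

set_option autoImplicit false

open Subgroup

namespace Cfsg.Agent.U62Three.A.Base

universe u

variable {G : Type u} [Group G] [Finite G] {z : G} {Q : Subgroup G} (S : Base z Q) (h : Hyp z Q)

include h in
theorem exists_class (hw : 3 ^ 7 ∣ Nat.card ↥(centralizer ({z} : Set G))) (v : ZMod 3 × ZMod 3) :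
    ∃ g ∈ S.B.Hs, g ^ 3 ∈ Q ∧ S.B.cl 0 g = v.1 ∧ S.B.cl 1 g = v.2 := by
  classical
  haveI : Fact (Nat.Prime 3) := ⟨Nat.prime_three⟩
  have h7 : 3 ^ 7 ∣ Nat.card ↥S.B.Hs := by
    let C := centralizer ({z} : Set G)
    let H' := S.B.Hs.subgroupOf C
    have hsq : ∀ g : ↥C, g * g ∈ H' := fun g => S.B.sq_mem_Hs h g.2
    obtain ⟨P, hP⟩ := Sylow.exists_subgroup_card_pow_prime 3 (n := 7) (G := ↥C) hw
    have hle : P.map C.subtype ≤ S.B.Hs := by
      rintro _ ⟨g, hg, rfl⟩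
      have hord : g ^ (3 ^ 7) = 1 := orderOf_dvd_iff_pow_eq_one.1 (hP ▸ P.orderOf_dvd_natCard hg)
      have h2 : g ^ (3 ^ 7) = g * (g * g) ^ 1093 := by
        rw [show (3 : ℕ) ^ 7 = 2 * 1093 + 1 by norm_num, pow_succ', pow_mul, pow_two]
      have : g ∈ H' := by
        have h3 : g * (g * g) ^ 1093 ∈ H' := by rw [← h2, hord]; exact one_mem _
        simpa using mul_mem h3 (inv_mem (pow_mem (hsq g) 1093))
      exact this
    have := card_dvd_of_le hle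
    rwa [card_map_of_injective C.subtype_injective, hP] at this
  obtain ⟨P, hP⟩ := Sylow.exists_subgroup_card_pow_prime 3 (n := 7) (G := ↥S.B.Hs) h7
  have hcube : ∀ g : ↥S.B.Hs, g ∈ P → (g : G) ^ 3 ∈ Q := by
    intro g hg
    set x := (g : G) ^ 3 with hx
    have hxH : x ∈ S.B.Hs := pow_mem g.2 3
    have hord : (g : G) ^ (3 ^ 7) = 1 := by
      rw [← SubgroupClass.coe_pow, orderOf_dvd_iff_pow_eq_one.1 (hP ▸ P.orderOf_dvd_natCard hg)]; rfl
    have h4 : x ^ 4 ∈ Q := S.B.mem_Q_of_mat h (pow_mem hxH 4) fun i => by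
      have h1 : S.B.mat i (x ^ 4) = M2.four (S.B.mat i x) := by
        rw [show x ^ 4 = (x * x) * (x * x) by simp [pow_succ, mul_assoc], S.B.mat_mul h (mul_mem hxH hxH)
          (mul_mem hxH hxH), S.B.mat_mul h hxH hxH]
        rfl
      rw [h1, hx, pow_succ', pow_two, S.B.mat_mul h g.2 (mul_mem g.2 g.2), S.B.mat_mul h g.2 g.2]
      exact M2.cube_four _ (S.B.mat_det h g.2 i)
    have h729 : x ^ 729 = 1 := by rw [hx, ← pow_mul]; exact hord
    have hx1 : x ∈ Q := by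
      have e : x ^ 729 = (x ^ 4) ^ 182 * x := by rw [← pow_mul x 4 182, ← pow_succ]
      have : (x ^ 4) ^ 182 * x ∈ Q := by rw [← e, h729]; exact one_mem _
      simpa using mul_mem (inv_mem (pow_mem h4 182)) this
    exact hx1
  let ψ : ↥P →* Multiplicative (ZMod 3 × ZMod 3) := MonoidHom.mk'
    (fun x => Multiplicative.ofAdd (S.B.cl 0 (x : ↥S.B.Hs), S.B.cl 1 (x : ↥S.B.Hs)))
    fun a b => by rw [← ofAdd_add, Prod.mk_add_mk, ← S.B.cl_mul h a.1.2 b.1.2, ← S.B.cl_mul h a.1.2 b.1.2]; rfl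
  have hk : ∀ x ∈ ψ.ker, ((x : ↥S.B.Hs) : G) ∈ Q := fun x hx => by
    refine S.B.mem_Q_of_cl h x.1.2 (hcube _ x.2) fun i => ?_
    rcases Bas.fin_cases_two i with rfl | rfl
    · exact congrArg (fun w => (Multiplicative.toAdd w).1) hx
    · exact congrArg (fun w => (Multiplicative.toAdd w).2) hx
  have h1 : Nat.card ψ.ker ≤ 243 := by
    rw [show (243 : ℕ) = Nat.card ↥Q by rw [h.card]; norm_num]
    exact Nat.card_le_card_of_injective (fun x => (⟨((x.1 : ↥S.B.Hs) : G), hk _ x.2⟩ : ↥Q)) fun a b e =>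
      Subtype.ext (Subtype.ext (Subtype.ext (congrArg Subtype.val e :)))
  have hm := ψ.ker.card_eq_card_quotient_mul_card_subgroup
  rw [hP, Nat.card_congr (QuotientGroup.quotientKerEquivRange ψ).toEquiv] at hm
  have h9 : 9 ≤ Nat.card ψ.range := by
    have := Nat.mul_le_mul_left (Nat.card ψ.range) h1
    omega
  have htop : ψ.range = ⊤ := eq_of_le_of_card_ge le_top (by
    rw [Subgroup.card_top, Nat.card_congr Multiplicative.toAdd, Nat.card_prod, Nat.card_zmod]; exact h9)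
  obtain ⟨x, hx⟩ := MonoidHom.range_eq_top.1 htop (Multiplicative.ofAdd v)
  exact ⟨_, x.1.2, hcube _ x.2, congrArg (fun w => (Multiplicative.toAdd w).1) hx,
    congrArg (fun w => (Multiplicative.toAdd w).2) hx⟩

include h in
theorem exists_weight_one (hw : 3 ^ 7 ∣ Nat.card ↥(centralizer ({z} : Set G))) :
    ∃ x ∈ S.CJ, S.B.cl 0 x = 2 ∧ S.B.cl 1 x = 0 := by
  obtain ⟨g, hg, hg3, hg0, hg1⟩ := S.exists_class h hw (2, 0)
  have hyH := S.B.Pt_Hs h S.hy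
  have hyc := fun i => S.B.mat_cube h hyH (by rw [S.hy.cube h]; exact one_mem _) i
  have hyi : ∀ i, S.B.cl i S.y⁻¹ = 2 := fun i => by rw [S.B.cl_inv h hyH, S.cl_eq h]; rfl
  have hm1 : S.B.mat 1 g = M2.one :=
    M2.cls_zero _ (S.B.mat_det h hg 1) (S.B.mat_cube h hg hg3 1) hg1
  obtain ⟨C, hC1, hC2, hC3⟩ := M2.conj_class (S.B.mat 0 g) (S.B.mat 0 S.y⁻¹) (S.B.mat_det h hg 0)
    (S.B.mat_cube h hg hg3 0) (S.B.mat_det h (inv_mem hyH) 0)
    (S.B.mat_cube h (inv_mem hyH) (by rw [inv_pow, S.hy.cube h, inv_one]; exact one_mem _) 0)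
    (hg0.trans (hyi 0).symm)
  obtain ⟨r, hr, rfl⟩ := S.B.exists_R h (i := 0) hC1 hC2
  have hrH := S.B.R_le_Hs h 0 hr
  set g₂ := r * g * r⁻¹ with hg₂
  have hg₂H : g₂ ∈ S.B.Hs := mul_mem (mul_mem hrH hg) (inv_mem hrH)
  have hm20 : S.B.mat 0 g₂ = S.B.mat 0 S.y⁻¹ := by
    rw [hg₂, S.B.mat_mul h (mul_mem hrH hg) (inv_mem hrH), S.B.mat_mul h hrH hg, hC3,
      ← S.B.mat_mul h (inv_mem hyH) hrH, ← S.B.mat_mul h (mul_mem (inv_mem hyH) hrH) (inv_mem hrH),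
      mul_inv_cancel_right]
  have hm21 : S.B.mat 1 g₂ = M2.one := by
    rw [hg₂, S.B.mat_mul h (mul_mem hrH hg) (inv_mem hrH), S.B.mat_mul h hrH hg, hm1,
      S.B.mat_R_other h (by decide : (0 : Fin 2) ≠ 1) hr,
      S.B.mat_R_other h (by decide : (0 : Fin 2) ≠ 1) (inv_mem hr)]
    rfl
  have hbase : ∀ i, S.B.mat i g₂ = S.B.mat i S.y⁻¹ ∨ S.B.mat i g₂ = M2.one := fun i => by
    rcases Bas.fin_cases_two i with rfl | rfl
    exacts [Or.inl hm20, Or.inr hm21]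
  -- the commutator with the point lies in `Q`
  have hwQ : g₂ * S.y * g₂⁻¹ * S.y⁻¹ ∈ Q := by
    refine S.B.mem_Q_of_mat h (mul_mem (mul_mem (mul_mem hg₂H hyH) (inv_mem hg₂H)) (inv_mem hyH)) fun i => ?_
    have hc : S.B.mat i (g₂ * S.y) = S.B.mat i (S.y * g₂) := by
      rw [S.B.mat_mul h hg₂H hyH, S.B.mat_mul h hyH hg₂H]
      rcases hbase i with e | e <;> rw [e]
      · rw [← S.B.mat_mul h (inv_mem hyH) hyH, ← S.B.mat_mul h hyH (inv_mem hyH), inv_mul_cancel, mul_inv_cancel]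
      · rw [← S.B.mat_one h i, ← S.B.mat_mul h (one_mem _) hyH, ← S.B.mat_mul h hyH (one_mem _), one_mul, mul_one]
    rw [S.B.mat_mul h (mul_mem (mul_mem hg₂H hyH) (inv_mem hg₂H)) (inv_mem hyH),
      S.B.mat_mul h (mul_mem hg₂H hyH) (inv_mem hg₂H), hc, ← S.B.mat_mul h (mul_mem hyH hg₂H) (inv_mem hg₂H),
      mul_inv_cancel_right, ← S.B.mat_mul h hyH (inv_mem hyH), mul_inv_cancel, S.B.mat_one h]
  obtain ⟨q, hq, hqy⟩ := coset_conj h S.hy (Tp_conj S.hy.mem g₂) hwQ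
  set x := q⁻¹ * g₂ with hx
  have hqH := inv_mem (S.B.Q_le_Hs h hq)
  have hxH : x ∈ S.B.Hs := mul_mem hqH hg₂H
  have hxm : ∀ i, S.B.mat i x = S.B.mat i g₂ := fun i => by
    rw [hx, S.B.mat_mul h hqH hg₂H, S.B.mat_Q h (inv_mem hq)]
    exact Prod.ext (M2.app_one _) (M2.app_one _)
  have hxy : Commute x S.y := by
    refine mul_inv_eq_iff_eq_mul.1 ?_
    rw [hx, show q⁻¹ * g₂ * S.y * (q⁻¹ * g₂)⁻¹ = q⁻¹ * (g₂ * S.y * g₂⁻¹) * q by group, ← hqy]
    group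
  have hxd : ∀ i, Commute x (S.d i) := fun i => by
    have hdQ := S.d_Q i
    have hz : x * S.d i * x⁻¹ * (S.d i)⁻¹ ∈ zpowers z := by
      refine S.B.vec_ext h (conj_mem h (S.B.Hs_le hxH) hdQ) hdQ fun k => ?_
      rw [S.B.vec_conj h hxH k hdQ, hxm]
      rcases hbase k with e | e <;> rw [e]
      · rw [← S.B.vec_conj h (inv_mem hyH) k hdQ, (S.d_comm_y i).inv_left.eq, mul_inv_cancel_right]
      · rw [M2.app_one]
    have hQy : x * S.d i * x⁻¹ * (S.d i)⁻¹ ∈ S.Qy :=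
      mul_mem ((mem_normalizer_iff.1 (S.hyy.normal (mem_centralizer_singleton_iff.2 hxy.eq)) _).1 (S.ax i).d_Qy)
        (inv_mem (S.ax i).d_Qy)
    exact mul_inv_eq_iff_eq_mul.1 (mul_inv_eq_one.1 (S.hy.zpowers_inf h S.hyy hz hQy))
  refine ⟨x, S.CJ_of h (mem_centralizer_singleton_iff.1 (S.B.Hs_le hxH)) hxy hxd, ?_, ?_⟩
  · rw [Bas.cl, hxm, hm20]; exact hyi 0
  · rw [Bas.cl, hxm, hm21, M2.cls_one]

end Cfsg.Agent.U62Three.A.Base
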