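import Cfsg.Agent.U62Three.A.Wide

/-!
# The record of the wide case
-/

set_option autoImplicit false

open Subgroup

namespace Cfsg.Agent.U62Three.A.Base

universe u

variable {G : Type u} [Group G] [Finite G] {z : G} {Q : Subgroup G} (S : Base z Q) (h : Hyp z Q)

include h in
theorem wide (hw : 3 ^ 7 ∣ Nat.card ↥(centralizer ({z} : Set G))) : Nonempty (Wide (S.frame h)) := by
  obtain ⟨x₀, hx₀, hx00, hx01⟩ := S.exists_weight_one h hw
  obtain ⟨x, n, hx, hx0, hx1, hN, ct0, ct1, cq1, cn, cq0, hx3⟩ := S.exists_fixed_x h hx₀ hx00 hx01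
  obtain ⟨hxH, -, -⟩ := S.CJ_info h hx
  have hxJ : ∀ v, Commute x (S.φ v) := S.CJ_comm h hx
  let e : Fin 6 → G := fun a => x * S.φ (Crd.E a - Crd.E 2)
  have hdiff : ∀ a b, S.j a b = e a * (e b)⁻¹ := fun a b => by
    show S.φ _ = x * S.φ _ * (x * S.φ _)⁻¹
    rw [mul_inv_rev, ← mul_assoc, mul_assoc x, ← S.φ_sub h, sub_sub_sub_cancel_right, (hxJ _).eq,
      mul_inv_cancel_right]
  have hcomm : ∀ a b, Commute (e a) (e b) := fun a b =>
    S.CJ_abelian h hx hx0 hx1 (mul_mem hx (S.Jg_le_CJ h ((S.mem_Jg h).2 ⟨_, rfl⟩)))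
      (mul_mem hx (S.Jg_le_CJ h ((S.mem_Jg h).2 ⟨_, rfl⟩)))
  -- the permutations
  let M : Submonoid (Equiv.Perm (Fin 6)) :=
    { carrier := {σ | ∃ m ∈ normalizer (S.Jg : Set G), ∀ a, m * e a * m⁻¹ = e (σ a)}
      one_mem' := ⟨1, one_mem _, fun a => by simp⟩
      mul_mem' := by
        rintro σ τ ⟨m, hm, hσ⟩ ⟨k, hk, hτ⟩
        refine ⟨m * k, mul_mem hm hk, fun a => ?_⟩
        rw [show m * k * e a * (m * k)⁻¹ = m * (k * e a * k⁻¹) * m⁻¹ by group, hτ, hσ]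
        rfl }
  have mk : ∀ (g : G) (L : Crd.V → Crd.V) (u : Crd.V) (σ : Equiv.Perm (Fin 6)), S.Acts g L →
      g * x * g⁻¹ = x * S.φ u → (∀ a, u + L (Crd.E a - Crd.E 2) = Crd.E (σ a) - Crd.E 2) → σ ∈ M :=
    fun g L u σ hg hgx hL => ⟨g, hg.norm S h, fun a => by
      show g * (x * S.φ _) * g⁻¹ = x * S.φ _
      rw [show g * (x * S.φ (Crd.E a - Crd.E 2)) * g⁻¹ = (g * x * g⁻¹) * (g * S.φ (Crd.E a - Crd.E 2) * g⁻¹) by
        group, hgx, hg, mul_assoc, ← S.φ_add h, hL]⟩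
  have fixed : ∀ {g : G}, Commute g x → g * x * g⁻¹ = x * S.φ 0 := fun {g} hg => by
    rw [hg.eq, mul_inv_cancel_right, S.φ_zero, mul_one]
  obtain ⟨hT0, hT1⟩ := S.t_acts h
  obtain ⟨hA0, hA1⟩ := S.q_acts h
  have hall : ∀ σ : Equiv.Perm (Fin 6), σ ∈ M := by
    have hsw := Crd.swaps_gen M
      (mk _ _ 0 _ hT0 (fixed ct0) fun a => by rw [zero_add]; exact (Crd.E_shift a).1)
      (mk _ _ 0 _ hT1 (fixed ct1) fun a => by rw [zero_add]; exact (Crd.E_shift a).2.1)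
      (mk _ _ _ _ hA0 cq0 fun a => (Crd.E_shift a).2.2.1)
      (mk _ _ 0 _ hA1 (fixed cq1) fun a => by rw [zero_add]; exact (Crd.E_shift a).2.2.2.1)
      (mk _ _ 0 _ hN (fixed cn) fun a => by rw [zero_add]; exact (Crd.E_shift a).2.2.2.2)
    intro σ
    have : (⊤ : Submonoid (Equiv.Perm (Fin 6))) ≤ M := by
      rw [← Equiv.Perm.mclosure_swap_castSucc_succ 5, Submonoid.closure_le]
      rintro _ ⟨a, rfl⟩
      exact hsw a
    exact this trivial
  have hspan : S.CJ = closure (Set.range e) := by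
    refine le_antisymm (fun g hg => ?_) ((closure_le _).2 ?_)
    · obtain ⟨k, v, rfl⟩ := S.exists_pow h hx hx0 hx1 hg
      have he : ∀ a, e a ∈ closure (Set.range e) := fun a => subset_closure ⟨a, rfl⟩
      have h2 : x = e 2 := by show x = x * S.φ _; rw [sub_self, S.φ_zero, mul_one]
      have hJ : S.Jg ≤ closure (Set.range e) := by
        rw [S.span h, closure_le]
        rintro _ ⟨⟨a, b⟩, rfl⟩
        show S.j a b ∈ _
        rw [hdiff]
        exact mul_mem (he a) (inv_mem (he b))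
      exact mul_mem (pow_mem (h2 ▸ he 2) _) (hJ ((S.mem_Jg h).2 ⟨v, rfl⟩))
    · rintro _ ⟨a, rfl⟩
      exact mul_mem hx (S.Jg_le_CJ h ((S.mem_Jg h).2 ⟨_, rfl⟩))
  have hcard : Nat.card ↥S.CJ = 243 := by
    let f : ZMod 3 × Crd.V → ↥S.CJ := fun p =>
      ⟨x ^ p.1.val * S.φ p.2, mul_mem (pow_mem hx _) (S.Jg_le_CJ h ((S.mem_Jg h).2 ⟨_, rfl⟩))⟩
    have hf : Function.Bijective f := by
      refine ⟨fun p q hpq => ?_, fun g => ?_⟩
      · obtain ⟨k, v⟩ := p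
        obtain ⟨l, w⟩ := q
        have e1 : x ^ k.val * S.φ v = x ^ l.val * S.φ w := congrArg Subtype.val hpq
        have hkl : k = l := by
          by_contra hne
          have hkl' : ∀ k l : ZMod 3, k ≠ l → (k - l).val = 1 ∨ (l - k).val = 1 := by decide
          have hp : ∀ a b : ZMod 3, x ^ (a - b).val * x ^ b.val = x ^ a.val := fun a b => by
            rw [← pow_add]
            exact pow_eq_pow_of_modEq (show ((a - b).val + b.val) % 3 = a.val % 3 by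
              rw [← ZMod.val_add, sub_add_cancel, Nat.mod_eq_of_lt (ZMod.val_lt a)]) hx3
          rcases hkl' k l hne with e2 | e2
          · have := hp k l
            rw [e2, pow_one] at this
            rw [← this, mul_assoc] at e1
            refine S.x_ne h hx hx0 hx1 (v := w - v) ?_
            calc x = x * (x ^ l.val * S.φ v) * (S.φ v)⁻¹ * (x ^ l.val)⁻¹ := by group
              _ = x ^ l.val * (S.φ w * (S.φ v)⁻¹) * (x ^ l.val)⁻¹ := by rw [e1]; group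
              _ = _ := by rw [← S.φ_sub h, (S.CJ_comm h (pow_mem hx _) _).eq, mul_inv_cancel_right]
          · have := hp l k
            rw [e2, pow_one] at this
            rw [← this, mul_assoc] at e1
            refine S.x_ne h hx hx0 hx1 (v := v - w) ?_
            calc x = x * (x ^ k.val * S.φ w) * (S.φ w)⁻¹ * (x ^ k.val)⁻¹ := by group
              _ = x ^ k.val * (S.φ v * (S.φ w)⁻¹) * (x ^ k.val)⁻¹ := by rw [← e1]; group
              _ = _ := by rw [← S.φ_sub h, (S.CJ_comm h (pow_mem hx _) _).eq, mul_inv_cancel_right]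
        subst hkl
        rw [S.φ_inj h (mul_left_cancel e1)]
      · obtain ⟨k, v, hg⟩ := S.exists_pow h hx hx0 hx1 g.2
        exact ⟨(k, v), Subtype.ext hg.symm⟩
    rw [← Nat.card_congr (Equiv.ofBijective f hf), Nat.card_prod, Nat.card_prod, Nat.card_prod, Nat.card_zmod]
  refine ⟨⟨e, fun a => ?_, hcomm, hdiff, hspan, hcard, hall, fun m hm => ?_⟩⟩
  · show (x * S.φ _) ^ 3 = 1
    rw [(hxJ _).mul_pow, hx3, one_mul, pow_succ, pow_two]
    exact S.φ_cube h _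
  -- the normaliser
  change m ∈ normalizer (S.Jg : Set G) at hm
  obtain ⟨σ, hσ⟩ := S.mono h hm
  obtain ⟨k, hk, hke⟩ := hall σ
  have hkj : ∀ a b, k * S.j a b * k⁻¹ = S.j (σ a) (σ b) := fun a b => by
    rw [hdiff, hdiff, show k * (e a * (e b)⁻¹) * k⁻¹ = (k * e a * k⁻¹) * (k * e b * k⁻¹)⁻¹ by group, hke, hke]
  set m' := k⁻¹ * m with hm'
  have hm'n : m' ∈ normalizer (S.Jg : Set G) := mul_mem (inv_mem hk) hm
  obtain ⟨ε, hε, hε'⟩ : ∃ ε : ZMod 3, (ε = 1 ∨ ε = 2) ∧ ∀ v, m' * S.φ v * m'⁻¹ = S.φ (ε.val • v) := by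
    have hext : ∀ ε : ZMod 3, (∀ a b, m' * S.j a b * m'⁻¹ = S.j a b ^ ε.val) →
        ∀ v, m' * S.φ v * m'⁻¹ = S.φ (ε.val • v) := fun ε hj v => by
      have hv : S.φ v ∈ closure (Set.range fun p : Fin 6 × Fin 6 => S.j p.1 p.2) := by
        rw [← S.span h]; exact (S.mem_Jg h).2 ⟨v, rfl⟩
      rw [S.φ_nsmul h]
      have key : ∀ g ∈ closure (Set.range fun p : Fin 6 × Fin 6 => S.j p.1 p.2),
          g ∈ S.Jg ∧ m' * g * m'⁻¹ = g ^ ε.val := by
        intro g hg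
        induction hg using closure_induction with
        | mem g hg =>
            obtain ⟨⟨a, b⟩, rfl⟩ := hg
            exact ⟨(S.mem_Jg h).2 ⟨_, rfl⟩, hj a b⟩
        | one => exact ⟨one_mem _, by simp⟩
        | mul g l _ _ hg hl =>
            refine ⟨mul_mem hg.1 hl.1, ?_⟩
            obtain ⟨u, rfl⟩ := (S.mem_Jg h).1 hg.1
            obtain ⟨w, rfl⟩ := (S.mem_Jg h).1 hl.1
            rw [show m' * (S.φ u * S.φ w) * m'⁻¹ = (m' * S.φ u * m'⁻¹) * (m' * S.φ w * m'⁻¹) by group, hg.2, hl.2,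
              (S.CJ_comm h (S.Jg_le_CJ h hg.1) w).mul_pow]
        | inv g _ hg => exact ⟨inv_mem hg.1, by rw [← conj_inv, hg.2, inv_pow]⟩
      exact (key _ hv).2
    rcases hσ with hσ | hσ
    · refine ⟨1, Or.inl rfl, hext 1 fun a b => ?_⟩
      rw [hm', show k⁻¹ * m * S.j a b * (k⁻¹ * m)⁻¹ = k⁻¹ * (m * S.j a b * m⁻¹) * k by group, hσ, ← hkj,
        ZMod.val_one, pow_one]
      group
    · refine ⟨2, Or.inr rfl, hext 2 fun a b => ?_⟩
      rw [hm', show k⁻¹ * m * S.j a b * (k⁻¹ * m)⁻¹ = k⁻¹ * (m * S.j a b * m⁻¹) * k by group, hσ, ← hkj]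
      show _ = S.φ _ ^ (2 : ℕ)
      rw [← S.φ_nsmul h, ← show -(Crd.E a - Crd.E b) = (2 : ℕ) • (Crd.E a - Crd.E b) from Crd.neg_eq_two _,
        neg_sub]
      show k⁻¹ * (k * S.j b a * k⁻¹) * k = S.j b a
      group
  obtain ⟨l, u, hxu⟩ := S.exists_pow h hx hx0 hx1 (S.norm_CJ h hm'n hx)
  -- it commutes with the generators modulo the centraliser
  have key : ∀ (g : G) (L : Crd.V → Crd.V), S.Acts g L → (∀ v, L (ε.val • v) = ε.val • L v) → ∀ w : Crd.V,
      g * x * g⁻¹ = x * S.φ w → l.val • w + L u = u + ε.val • w := by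
    intro g L hg hL w hgx
    have hc : (m' * g)⁻¹ * (g * m') ∈ S.CJ := mem_centralizer_iff.2 fun p hp => by
      obtain ⟨v, rfl⟩ := (S.mem_Jg h).1 hp
      have h1 : g * m' * S.φ v * (g * m')⁻¹ = m' * g * S.φ v * (m' * g)⁻¹ := by
        rw [show g * m' * S.φ v * (g * m')⁻¹ = g * (m' * S.φ v * m'⁻¹) * g⁻¹ by group,
          show m' * g * S.φ v * (m' * g)⁻¹ = m' * (g * S.φ v * g⁻¹) * m'⁻¹ by group, hε', hg, hg, hε', hL]
      calc S.φ v * ((m' * g)⁻¹ * (g * m'))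
          = (m' * g)⁻¹ * (m' * g * S.φ v * (m' * g)⁻¹) * (g * m') := by group
        _ = (m' * g)⁻¹ * (g * m' * S.φ v * (g * m')⁻¹) * (g * m') := by rw [h1]
        _ = _ := by group
    have h1 : g * (m' * x * m'⁻¹) * g⁻¹ = m' * (g * x * g⁻¹) * m'⁻¹ := by
      have h2 := (S.CJ_abelian h hx hx0 hx1 hc hx).eq
      calc g * (m' * x * m'⁻¹) * g⁻¹
          = (m' * g) * ((m' * g)⁻¹ * (g * m') * x) * ((m' * g)⁻¹ * (g * m'))⁻¹ * (m' * g)⁻¹ := by group
        _ = (m' * g) * (x * ((m' * g)⁻¹ * (g * m'))) * ((m' * g)⁻¹ * (g * m'))⁻¹ * (m' * g)⁻¹ := by rw [h2]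
        _ = _ := by group
    rw [hgx, show m' * (x * S.φ w) * m'⁻¹ = (m' * x * m'⁻¹) * (m' * S.φ w * m'⁻¹) by group, hxu, hε',
      show g * (x ^ l.val * S.φ u) * g⁻¹ = (g * x ^ l.val * g⁻¹) * (g * S.φ u * g⁻¹) by group, hg, ← conj_pow, hgx,
      (hxJ w).mul_pow, ← S.φ_nsmul h, mul_assoc, ← S.φ_add h, mul_assoc, ← S.φ_add h] at h1
    exact S.φ_inj h (mul_left_cancel h1)
  have sc := Crd.scalar_comm ε
  have k0 := key _ _ hA0 (fun v => (sc v).2.2.1) _ cq0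
  have f : ∀ (g : G) (L : Crd.V → Crd.V), S.Acts g L → (∀ v, L (ε.val • v) = ε.val • L v) → Commute g x →
      L u = u := fun g L hg hL hgc => by
    have := key g L hg hL 0 (fixed hgc)
    rwa [smul_zero, zero_add, smul_zero, add_zero] at this
  obtain ⟨rfl, rfl⟩ := Crd.scalar_fix ε l u (f _ _ hT0 (fun v => (sc v).1) ct0)
    (f _ _ hT1 (fun v => (sc v).2.1) ct1) (f _ _ hA1 (fun v => (sc v).2.2.2.1) cq1)
    (f _ _ hN (fun v => (sc v).2.2.2.2) cn) k0
  rw [S.φ_zero, mul_one] at hxu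
  have hm'e : ∀ a, m' * e a * m'⁻¹ = e a ^ l.val := fun a => by
    show m' * (x * S.φ _) * m'⁻¹ = (x * S.φ _) ^ l.val
    rw [show m' * (x * S.φ (Crd.E a - Crd.E 2)) * m'⁻¹ = (m' * x * m'⁻¹) * (m' * S.φ (Crd.E a - Crd.E 2) * m'⁻¹) by
      group, hxu, hε', S.φ_nsmul h, (hxJ _).mul_pow]
  have hme : ∀ a, m * e a * m⁻¹ = e (σ a) ^ l.val := fun a => by
    rw [← hke a, conj_pow, ← hm'e a, hm']
    group
  refine ⟨σ, ?_⟩
  rcases hε with rfl | rfl
  · exact Or.inl fun a => by rw [hme, ZMod.val_one, pow_one]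
  · refine Or.inr fun a => ?_
    rw [hme]
    refine eq_inv_of_mul_eq_one_left ?_
    rw [← pow_succ]
    show (x * S.φ _) ^ 3 = 1
    rw [(hxJ _).mul_pow, hx3, one_mul, pow_succ, pow_two]
    exact S.φ_cube h _

end Cfsg.Agent.U62Three.A.Base
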